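import Cfsg.Agent.Lib.U6Central.Unique
import Cfsg.Agent.Lib.ThreeTransp.U6PtFrame
import Cfsg.Agent.Lib.ThreeTransp.U6Lines

/-!
# `PSU₆(2)` has the local data at a transvection, and so is the only group with it
-/

set_option autoImplicit false
set_option linter.unusedSectionVars false
set_option linter.unusedSimpArgs false
set_option maxHeartbeats 600000

open scoped Classical

namespace CfsgLib.U6Central

open Cfsg
open CfsgLib.U6 (IsPt PtFrame)
open CfsgLib.PSUAut (Isot act act_mul act_one act_form act_smul act_add act_ext act_inv_apply act_apply_inv)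
open CfsgLib.UnitarySpec (psuMk)
open CfsgLib.ThreeTransp (link)

variable {F : Type} [Field F] [Fintype F]

local notation "V4" => Fin 4 → F
local notation "V6" => Fin 6 → F
local notation "H4" => Cfsg.hermForm 4 F 2
local notation "H6" => Cfsg.hermForm 6 F 2
local notation "SU4" => (Cfsg.SU 4 F 2)
local notation "SU6" => (Cfsg.SU 6 F 2)
local notation "PSU6" => (Cfsg.PSU 6 F 2)

variable (hF : Fintype.card F = 2 ^ 2)
include hF

omit hF in
theorem psuMk_surjective : Function.Surjective (psuMk : SU6 →* PSU6) := QuotientGroup.mk'_surjective _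

theorem conj_pts {d : PSU6} {u : V6} (hd : IsPt d u) {x : PSU6} : x ∈ conjugatesOf d ↔ ∃ v, IsPt x v := by
  constructor
  · intro h
    obtain ⟨g, rfl⟩ := isConj_iff.1 (h : IsConj d x)
    obtain ⟨g, rfl⟩ := psuMk_surjective (F := F) g
    exact ⟨_, hd.conj hF g⟩
  · rintro ⟨v, hv⟩
    exact isConj_iff.2 (hd.exists_conj hF hv)

variable {d : Cfsg.PSU 6 F 2} {u : Fin 6 → F}
variable (hd : IsPt d u) (P : PtFrame u)
include hd P

/-- The elements inducing a map on the quotient. -/
theorem exists_fixed {g : PSU6} (hg : Commute g d) : ∃ (s : SU6) (B : SU4), psuMk s = g ∧ P.Fixed s B := by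
  let N : Subgroup PSU6 :=
    { carrier := {g | ∃ (s : SU6) (B : SU4), psuMk s = g ∧ P.Fixed s B}
      one_mem' := ⟨1, 1, map_one _, P.fixed_one hF⟩
      mul_mem' := by
        rintro _ _ ⟨s, B, rfl, h⟩ ⟨s', B', rfl, h'⟩
        exact ⟨s * s', B * B', map_mul _ _ _, h.mul h'⟩
      inv_mem' := by
        rintro _ ⟨s, B, rfl, h⟩
        exact ⟨s⁻¹, B⁻¹, map_inv _ _, h.inv⟩ }
  obtain ⟨σ, hσ⟩ := CfsgLib.U6.exists_sigma hF
  obtain ⟨s, rfl⟩ := psuMk_surjective (F := F) g
  have hp := hd.conj hF s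
  rw [hg.eq, mul_inv_cancel_right] at hp
  obtain ⟨a, -, ha⟩ := hd.span_eq hF hp
  refine CfsgLib.U6.stab_mem hF (N := N) P.iso (fun x v hx hv => ?_) ha
  obtain ⟨hvI, t, ht, rfl⟩ := hx
  obtain ⟨α, r, rfl⟩ := P.exists_perp_decomp hF hv
  by_cases hr : r = 0
  · refine ⟨t, 1, rfl, ?_⟩
    subst hr
    rw [map_zero, add_zero] at ht
    constructor
    · rw [ht, CfsgLib.U6.smul_right hF, P.iso.2, mul_zero, zero_smul, add_zero]
    · intro r'
      refine ⟨0, ?_⟩
      rw [act_one, zero_smul, add_zero, ht, CfsgLib.U6.smul_right hF, P.hju, mul_zero, zero_smul, add_zero]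
  · obtain ⟨B, -, hB⟩ := P.exists_fixed_transvection hF ht rfl hr (by rw [← P.form_eq hF α α r r]; exact hvI.2)
    exact ⟨t, B, rfl, hB⟩

/-- The induced map. -/
noncomputable def proj : ↥(Subgroup.centralizer ({d} : Set PSU6)) →* SU4 where
  toFun g := (exists_fixed hF hd P (Subgroup.mem_centralizer_singleton_iff.1 g.2)).choose_spec.choose
  map_one' := by
    have h := (exists_fixed hF hd P (g := 1) (Commute.one_left d)).choose_spec.choose_spec
    exact h.2.unique hF (P.fixed_one hF) (h.1.trans (map_one psuMk).symm)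
  map_mul' g g' := by
    have h := (exists_fixed hF hd P (Subgroup.mem_centralizer_singleton_iff.1 (g * g').2)).choose_spec.choose_spec
    have h1 := (exists_fixed hF hd P (Subgroup.mem_centralizer_singleton_iff.1 g.2)).choose_spec.choose_spec
    have h2 := (exists_fixed hF hd P (Subgroup.mem_centralizer_singleton_iff.1 g'.2)).choose_spec.choose_spec
    exact h.2.unique hF (h1.2.mul h2.2) (by rw [h.1, map_mul, h1.1, h2.1]; rfl)

theorem proj_eq {g : ↥(Subgroup.centralizer ({d} : Set PSU6))} {s : SU6} {B : SU4} (hs : psuMk s = g.1)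
    (h : P.Fixed s B) : proj hF hd P g = B := by
  have h1 := (exists_fixed hF hd P (Subgroup.mem_centralizer_singleton_iff.1 g.2)).choose_spec.choose_spec
  exact h1.2.unique hF h (h1.1.trans hs.symm)

/-- An element fixing `u` and inducing the identity moves the partner only along `u`. -/
theorem exists_shift_partner {s : SU6} (hu : act s u = u) (hfix : ∀ r, act s (P.j r) = P.j r) :
    ∃ c : F, act s P.y = P.y + c • u := by
  obtain ⟨σ, hσ⟩ := CfsgLib.U6.exists_sigma hF
  obtain ⟨a, b, r, hr⟩ := P.decomp (act s P.y)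
  have h1 : H6 (act s P.y) u = 1 := by
    have := act_form s P.y u
    rwa [hu, P.hyu] at this
  rw [hr, CfsgLib.U6.add_left hF, CfsgLib.U6.add_left hF, CfsgLib.U6.smul_left hF, CfsgLib.U6.smul_left hF,
    P.iso.2, P.hyu, P.hju, mul_zero, zero_add, mul_one, add_zero] at h1
  have h2 : ∀ t, H4 r t = 0 := by
    intro t
    have : H6 (act s P.y) (P.j t) = 0 := by
      rw [← hfix t, act_form, (CfsgLib.U6.comm_zero hF).1 (P.hjy t)]
    rwa [hr, CfsgLib.U6.add_left hF, CfsgLib.U6.add_left hF, CfsgLib.U6.smul_left hF, CfsgLib.U6.smul_left hF,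
      (CfsgLib.U6.comm_zero hF).1 (P.hju t), (CfsgLib.U6.comm_zero hF).1 (P.hjy t), P.hj, mul_zero, mul_zero,
      zero_add, zero_add] at this
  have hr0 : r = 0 := CfsgLib.PSUAut.eq_zero_of_perp (n := 4) hF hσ fun t =>
    (SURadical.comm_zero hF).1 (h2 t)
  exact ⟨a, by rw [hr, h1, hr0, one_smul, map_zero, add_zero, add_comm]⟩

theorem eq_one_of_fixes {s : SU6} (hu : act s u = u) (hy : act s P.y = P.y)
    (hfix : ∀ r, act s (P.j r) = P.j r) : s = 1 := by
  refine act_ext fun v => ?_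
  obtain ⟨α, β, r, rfl⟩ := P.decomp v
  rw [act_one, act_add, act_add, act_smul, act_smul, hu, hy, hfix]

theorem ker_four {g : ↥(Subgroup.centralizer ({d} : Set PSU6))} (hg : proj hF hd P g = 1) : g ^ 4 = 1 := by
  obtain ⟨s, B, hs, hB⟩ := exists_fixed hF hd P (Subgroup.mem_centralizer_singleton_iff.1 g.2)
  rw [proj_eq hF hd P hs hB] at hg
  subst hg
  have hfix : ∀ r, act (s * s) (P.j r) = P.j r := by
    intro r
    obtain ⟨ν, hν⟩ := hB.2 r
    rw [act_one] at hν
    rw [act_mul, hν, act_add, act_smul, hν, hB.1, add_assoc, CfsgLib.U6.vadd_self hF, add_zero]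
  have hu : act (s * s) u = u := by rw [act_mul, hB.1, hB.1]
  obtain ⟨c, hc⟩ := exists_shift_partner hF hd P hu hfix
  have h4 : s * s * (s * s) = 1 := eq_one_of_fixes hF hd P (by rw [act_mul, hu, hu])
    (by rw [act_mul, hc, act_add, act_smul, hc, hu, add_assoc, CfsgLib.U6.vadd_self hF, add_zero])
    (fun r => by rw [act_mul, hfix, hfix])
  refine Subtype.ext ?_
  rw [Subgroup.coe_pow, ← hs, ← map_pow, pow_succ, pow_succ, pow_two, mul_assoc (s * s), h4, map_one]
  rfl

omit hd in
theorem perp_decomp {x : PSU6} {v : V6} (hx : IsPt x v) (hne : x ≠ d) (hd' : IsPt d u) (hc : Commute d x) :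
    ∃ (α : F) (r : V4), IsPt x (α • u + P.j r) ∧ Isot 2 r := by
  obtain ⟨α, r, rfl⟩ := P.exists_perp_decomp hF ((hx.commute_iff hF hd').1 hc.symm)
  refine ⟨α, r, hx, fun hr => hne ?_, by rw [← P.form_eq hF α α r r]; exact hx.1.2⟩
  subst hr
  rw [map_zero, add_zero] at hx
  exact hx.unique hF (hd'.smul hF fun h => hx.1.1 (by rw [h, zero_smul]))

theorem proj_pt {g : ↥(Subgroup.centralizer ({d} : Set PSU6))} {α : F} {r : V4}
    (hx : IsPt g.1 (α • u + P.j r)) (hr : Isot 2 r) : SURadical.IsPt (proj hF hd P g) r := by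
  obtain ⟨-, t, ht, ht'⟩ := id hx
  obtain ⟨B, hB, hfix⟩ := P.exists_fixed_transvection hF ht rfl hr.1 hr.2
  rw [proj_eq hF hd P ht' hfix]
  exact ⟨hr, hB⟩

/-- The point of a lift. -/
noncomputable def liftPt (α : F) (r : V4) : PSU6 :=
  if h : ∃ x : PSU6, IsPt x (α • u + P.j r) then h.choose else 1

omit hd in
theorem liftPt_spec {α : F} {r : V4} (hr : Isot 2 r) : IsPt (liftPt P α r) (α • u + P.j r) := by
  rw [liftPt, dif_pos (CfsgLib.U6.exists_pt hF (P.isot hF hr.1 hr.2 α))]
  exact Exists.choose_spec (CfsgLib.U6.exists_pt hF (P.isot hF hr.1 hr.2 α))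

attribute [local irreducible] liftPt

theorem liftPt_link {α : F} {r : V4} (hr : Isot 2 r) :
    liftPt P α r ∈ link (conjugatesOf d) d := by
  have h := liftPt_spec hF P (α := α) hr
  refine ⟨(conj_pts hF hd).2 ⟨_, h⟩, fun e => ?_, (h.commute_iff hF hd).2 (P.perp_u hF α r) |>.symm⟩
  rw [e] at h
  obtain ⟨a, -, ha⟩ := hd.span_eq hF h
  exact hr.1 (P.coords hF (α := α) (α' := a) (r' := 0) (by rw [map_zero, add_zero]; exact ha)).2

theorem pts_of_link {x : PSU6} (hx : x ∈ link (conjugatesOf d) d) :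
    ∃ (α : F) (r : V4), IsPt x (α • u + P.j r) ∧ Isot 2 r := by
  obtain ⟨v, hv⟩ := (conj_pts hF hd).1 hx.1
  exact perp_decomp hF P hv hx.2.1 hd hx.2.2

omit P in
theorem all_near {x : PSU6} (hx : x ∈ conjugatesOf d) : Linked d x := by
  obtain ⟨v, hv⟩ := (conj_pts hF hd).1 hx
  obtain ⟨z, hz, hzp⟩ := CfsgLib.U6.exists_iso_perp_of hF ![u, v] (by norm_num)
  obtain ⟨e, he⟩ := CfsgLib.U6.exists_pt hF hz
  exact .tail (.single ⟨(conj_pts hF hd).2 ⟨z, he⟩, ((he.commute_iff hF hd).2 (hzp 0)).symm⟩)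
    ⟨hx, (he.commute_iff hF hv).2 (hzp 1)⟩

theorem faithful_six {g : PSU6} (hgd : Commute g d)
    (hall : ∀ x ∈ link (conjugatesOf d) d, Commute g x) : g = 1 ∨ g = d := by
  obtain ⟨s, B, rfl, hB⟩ := exists_fixed hF hd P hgd
  have hfixed : ∀ {r}, Isot 2 r → act s (P.j r) = P.j r := by
    intro r hr
    obtain ⟨ν, hν⟩ := hB.2 r
    have key : ∀ α : F, ∃ a : F, α + ν = a * α ∧ act B r = a • r := by
      intro α
      have hsp := liftPt_spec hF P (α := α) hr
      have hc := hsp.conj hF s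
      rw [(hall _ (liftPt_link hF hd P hr)).eq, mul_inv_cancel_right] at hc
      obtain ⟨a, -, ha⟩ := hsp.span_eq hF hc
      rw [act_add, act_smul, hB.1, hν, smul_add, smul_smul, ← map_smul] at ha
      obtain ⟨h1, h2⟩ := P.coords hF (α := α + ν) (α' := a * α) (r := act B r) (r' := a • r)
        (by rw [← ha, add_smul]; abel)
      exact ⟨a, h1, h2⟩
    obtain ⟨a, ha1, ha2⟩ := key 0
    obtain ⟨b, hb1, hb2⟩ := key 1
    have hν0 : ν = 0 := by rwa [zero_add, mul_zero] at ha1
    have hb : b = 1 := by rw [hν0, add_zero, mul_one] at hb1; exact hb1.symm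
    rw [hν, hν0, hb2, hb, one_smul, zero_smul, add_zero]
  have hj : ∀ r, act s (P.j r) = P.j r := by
    intro r
    obtain ⟨u₀, hu₀, -⟩ := SURadical.exists_iso hF (k := 0) (ortho_nil hF) (by norm_num : 0 + 2 ≤ 4)
    obtain ⟨e₂, f, f₂, Q⟩ := exists_quad hF hu₀
    rw [Q.expand hF r]
    simp only [map_add, map_smul, act_add, act_smul, hfixed Q.i₁, hfixed Q.i₂, hfixed Q.j₁, hfixed Q.j₂]
  obtain ⟨c, hc⟩ := exists_shift_partner hF hd P hB.1 hj
  have hcc : c + c ^ 2 = 0 := by
    have := act_form s P.y P.y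
    rw [hc, P.hyy] at this
    simp only [CfsgLib.U6.add_left hF, CfsgLib.U6.add_right hF, CfsgLib.U6.smul_left hF, CfsgLib.U6.smul_right hF,
      P.hyy, P.iso.2, P.hyu, P.uy hF] at this
    linear_combination this
  by_cases h0 : c = 0
  · left
    rw [eq_one_of_fixes hF hd P hB.1 (by rw [hc, h0, zero_smul, add_zero]) hj, map_one]
  · right
    have h1 : c = 1 := by
      have h : c * (1 + c) = 0 := by linear_combination hcc
      linear_combination (mul_eq_zero.1 h).resolve_left h0 - CfsgLib.U6.add_self hF (1 : F)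
    obtain ⟨hu, t, ht, rfl⟩ := id hd
    congr 1
    refine act_ext fun v => ?_
    obtain ⟨α, β, r, rfl⟩ := P.decomp v
    rw [act_add, act_add, act_smul, act_smul, hB.1, hc, hj, h1, one_smul, ht]
    simp only [CfsgLib.U6.add_left hF, CfsgLib.U6.smul_left hF, hu.2, P.hyu, P.hju, mul_zero, mul_one, zero_add,
      add_zero, smul_add]
    abel

theorem lifts_six {t : SU4} {w : V4} (hw : SURadical.IsPt t w) :
    {x : ↥(Subgroup.centralizer ({d} : Set PSU6)) |
      (x : PSU6) ∈ link (conjugatesOf d) d ∧ proj hF hd P x = t}.ncard = 4 := by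
  let f : F → ↥(Subgroup.centralizer ({d} : Set PSU6)) := fun α =>
    ⟨liftPt P α w, Subgroup.mem_centralizer_singleton_iff.2 (liftPt_link hF hd P hw.1).2.2.symm.eq⟩
  have hrange : {x : ↥(Subgroup.centralizer ({d} : Set PSU6)) |
      (x : PSU6) ∈ link (conjugatesOf d) d ∧ proj hF hd P x = t} = Set.range f := by
    ext x
    constructor
    · rintro ⟨hxl, hxt⟩
      obtain ⟨α, r, hxp, hr⟩ := pts_of_link hF hd P hxl
      have hrp := proj_pt hF hd P (g := x) hxp hr
      rw [hxt] at hrp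
      obtain ⟨a, ha, rfl⟩ := hw.span_eq hF hrp
      refine ⟨a⁻¹ * α, Subtype.ext ?_⟩
      show liftPt P (a⁻¹ * α) w = (x : PSU6)
      refine (liftPt_spec hF P (α := a⁻¹ * α) hw.1).unique hF ?_
      have := hxp.smul hF (inv_ne_zero ha)
      rwa [smul_add, smul_smul, ← map_smul, smul_smul, inv_mul_cancel₀ ha, one_smul] at this
    · rintro ⟨α, rfl⟩
      exact ⟨liftPt_link hF hd P hw.1,
        (proj_pt hF hd P (g := f α) (liftPt_spec hF P hw.1) hw.1).unique hF hw⟩
  have hinj : Function.Injective f := by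
    intro α β e
    have e' : liftPt P α w = liftPt P β w := congrArg Subtype.val e
    have h1 := liftPt_spec hF P (α := β) hw.1
    rw [← e'] at h1
    obtain ⟨a, -, ha⟩ := (liftPt_spec hF P (α := α) hw.1).span_eq hF h1
    rw [smul_add, smul_smul, ← map_smul] at ha
    obtain ⟨hc1, hc2⟩ := P.coords hF ha
    have ha1 : a = 1 := smul_left_injective F hw.1.1 (show a • w = (1 : F) • w by rw [one_smul]; exact hc2.symm)
    rw [hc1, ha1, one_mul]
  rw [hrange, Set.ncard_range_of_injective hinj, Nat.card_eq_fintype_card, hF]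
  norm_num

theorem comm_six {x y : ↥(Subgroup.centralizer ({d} : Set PSU6))} (hx : (x : PSU6) ∈ link (conjugatesOf d) d)
    (hy : (y : PSU6) ∈ link (conjugatesOf d) d) (h : Commute (proj hF hd P x) (proj hF hd P y)) :
    Commute (x : PSU6) (y : PSU6) := by
  obtain ⟨α, r, hxp, hr⟩ := pts_of_link hF hd P hx
  obtain ⟨β, s, hyp, hs⟩ := pts_of_link hF hd P hy
  have h4 : H4 r s = 0 := ((proj_pt hF hd P hxp hr).commute_iff hF (proj_pt hF hd P hyp hs)).1 h
  exact (hxp.commute_iff hF hyp).2 ((P.form_eq hF α β r s).trans h4)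

/-- The local data of `PSU₆(2)`. -/
noncomputable def model : Central d F where
  hF := hF
  sq := by
    obtain ⟨-, t, ht, rfl⟩ := id hd
    rw [← map_mul, show t * t = 1 from act_ext fun y => by
      rw [act_mul, ht, ht, act_one, CfsgLib.U6.add_left hF, CfsgLib.U6.smul_left hF, P.iso.2, mul_zero, add_zero,
        add_assoc, CfsgLib.U6.vadd_self hF, add_zero], map_one]
  ne := by
    obtain ⟨σ, hσ⟩ := CfsgLib.U6.exists_sigma hF
    obtain ⟨-, t, ht, rfl⟩ := id hd
    intro h
    have := CfsgLib.U6.act_eq_self hF h P.iso.1 (by rw [ht, P.iso.2, zero_smul, add_zero]) P.y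
    rw [ht, P.hyu, one_smul, add_eq_left] at this
    exact P.iso.1 this
  π := proj hF hd P
  ker_two := by
    rintro ⟨g, hg⟩
    exact ⟨2, Subtype.ext (ker_four hF hd P hg)⟩
  pt := fun x hx => by
    obtain ⟨α, r, hxp, hr⟩ := pts_of_link hF hd P hx
    exact ⟨r, proj_pt hF hd P hxp hr⟩
  lifts := fun _ _ hw => lifts_six hF hd P hw
  comm := fun _ _ hx hy h => comm_six hF hd P hx hy h
  mul_notMem := fun x hx h => by
    obtain ⟨v, hv⟩ := (conj_pts hF hd).1 h
    obtain ⟨α, r, hxp, hr⟩ := pts_of_link hF hd P hx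
    have hdd : d * d = 1 := by
      obtain ⟨-, t, ht, rfl⟩ := id hd
      rw [← map_mul, show t * t = 1 from act_ext fun y => by
        rw [act_mul, ht, ht, act_one, CfsgLib.U6.add_left hF, CfsgLib.U6.smul_left hF, P.iso.2, mul_zero,
          add_zero, add_assoc, CfsgLib.U6.vadd_self hF, add_zero], map_one]
    have hxx : x * x = 1 := by
      obtain ⟨hI, t, ht, rfl⟩ := hxp
      rw [← map_mul, show t * t = 1 from act_ext fun y => by
        rw [act_mul, ht, ht, act_one, CfsgLib.U6.add_left hF, CfsgLib.U6.smul_left hF, hI.2, mul_zero,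
          add_zero, add_assoc, CfsgLib.U6.vadd_self hF, add_zero], map_one]
    have hvv : (x * d) * (x * d) = 1 := by
      rw [show x * d * (x * d) = x * (d * x) * d by group, hx.2.2.eq, show x * (x * d) * d = (x * x) * (d * d) by group,
        hxx, hdd, one_mul]
    have hcd : Commute d (x * d) := hx.2.2.mul_right (Commute.refl d)
    have hcx : Commute x (x * d) := (Commute.refl x).mul_right hx.2.2.symm
    refine CfsgLib.U6.three_ne_one hF hxp hd hv ((hxp.commute_iff hF hd).1 hx.2.2.symm)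
      ((hxp.commute_iff hF hv).1 hcx) ((hd.commute_iff hF hv).1 hcd) hx.2.1 ?_ hvv
    intro e
    have : d = 1 := mul_left_cancel (a := x) (by rw [mul_one]; exact e.symm)
    obtain ⟨-, t, ht, htd⟩ := id hd
    have h' := CfsgLib.U6.act_eq_self hF (htd.trans this) P.iso.1 (by rw [ht, P.iso.2, zero_smul, add_zero]) P.y
    rw [ht, P.hyu, one_smul, add_eq_left] at h'
    exact P.iso.1 h'
  faithful := fun g hg h => faithful_six hF hd P hg h
  cent := fun _ _ _ _ g _ => all_near hF hd (isConj_iff.2 ⟨g, rfl⟩)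

omit hF hd P in
/-- The only finite group with the local data is `PSU₆(2)`. -/
theorem iso {X : Type*} [Group X] [Finite X] {e : X} (c : Central e F) : Nonempty (X ≃* Cfsg.PSU 6 F 2) := by
  obtain ⟨z, hz, -⟩ := CfsgLib.U6.exists_iso_perp_of c.hF (![] : Fin 0 → Fin 6 → F) (by norm_num)
  obtain ⟨x, hx⟩ := CfsgLib.U6.exists_pt c.hF hz
  obtain ⟨P⟩ := CfsgLib.U6.exists_frame c.hF hz
  exact c.exists_iso (model c.hF hx P)

end CfsgLib.U6Central
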