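import Cfsg.Agent.Lib.ThreeTransp.SURadical.Abelian
import Cfsg.Agent.Lib.ThreeTransp.U6Stab

/-!
# Points and lines of the hermitian space of `SU₄(2)`

A point is determined by the points orthogonal to it, totally isotropic subspaces have dimension two, the
transvections generate, a vector stabiliser is generated by the transvections orthogonal to the vector, and the
four lines of a quadrangle generate all isotropic points under addition along lines.
-/

set_option autoImplicit false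
set_option linter.unusedSectionVars false
set_option linter.unusedSimpArgs false

namespace CfsgLib.U6Central

open Matrix Cfsg
open CfsgLib.PSUAut
open CfsgLib.SURadical

variable {F : Type} [Field F] [Fintype F]

local notation "V4" => Fin 4 → F
local notation "H4" => Cfsg.hermForm 4 F 2
local notation "SU4" => (Cfsg.SU 4 F 2)

/-- A basis of two orthogonal hyperbolic pairs. -/
structure Quad (e₁ e₂ f₁ f₂ : Fin 4 → F) : Prop where
  i₁ : Isot 2 e₁
  i₂ : Isot 2 e₂
  j₁ : Isot 2 f₁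
  j₂ : Isot 2 f₂
  h₁ : Cfsg.hermForm 4 F 2 f₁ e₁ = 1
  h₂ : Cfsg.hermForm 4 F 2 f₂ e₂ = 1
  ee : Cfsg.hermForm 4 F 2 e₂ e₁ = 0
  ef : Cfsg.hermForm 4 F 2 e₂ f₁ = 0
  fe : Cfsg.hermForm 4 F 2 f₂ e₁ = 0
  ff : Cfsg.hermForm 4 F 2 f₂ f₁ = 0

variable (hF : Fintype.card F = 2 ^ 2)
include hF

theorem inW_nil (y : V4) : InW (Fin.elim0 : Fin 0 → V4) y := fun i => i.elim0

theorem ortho_nil : Ortho (Fin.elim0 : Fin 0 → V4) := Ortho.nil _

theorem exists_partner4 {u : V4} (hu : Isot 2 u) : ∃ v, Isot 2 v ∧ H4 v u = 1 := by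
  obtain ⟨v, hv, -, hvu⟩ := exists_isoPartner hF (ortho_nil hF) hu (inW_nil hF u)
  exact ⟨v, hv, hvu⟩

theorem exists_quad_of {e f : V4} (he : Isot 2 e) (hf : Isot 2 f) (hfe : H4 f e = 1) :
    ∃ e₂ f₂, Quad e e₂ f f₂ := by
  obtain ⟨w, -, hw⟩ := exists_omega' hF
  have hR := (ortho_nil hF).hyp hF (inW_nil hF e) (inW_nil hF f) he.2 hf.2 hfe hw
  obtain ⟨e₂, he₂, he₂W⟩ := exists_iso hF hR (by norm_num)
  obtain ⟨f₂, hf₂, hf₂W, hfe₂⟩ := exists_isoPartner hF hR he₂ he₂W
  obtain ⟨a, b, -⟩ := (inW_hyp hF hw).1 he₂W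
  obtain ⟨c, d, -⟩ := (inW_hyp hF hw).1 hf₂W
  exact ⟨e₂, f₂, he, he₂, hf, hf₂, hfe, hfe₂, a, b, c, d⟩

theorem exists_quad {e : V4} (he : Isot 2 e) : ∃ e₂ f f₂, Quad e e₂ f f₂ := by
  obtain ⟨f, hf, hfe⟩ := exists_partner4 hF he
  obtain ⟨e₂, f₂, q⟩ := exists_quad_of hF he hf hfe
  exact ⟨e₂, f, f₂, q⟩

theorem Quad.swap {e₁ e₂ f₁ f₂ : V4} (q : Quad e₁ e₂ f₁ f₂) : Quad e₂ e₁ f₂ f₁ :=
  ⟨q.i₂, q.i₁, q.j₂, q.j₁, q.h₂, q.h₁, (comm_zero hF).1 q.ee, (comm_zero hF).1 q.fe,
    (comm_zero hF).1 q.ef, (comm_zero hF).1 q.ff⟩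

/-- The form in coordinates. -/
theorem Quad.form {e₁ e₂ f₁ f₂ : V4} (q : Quad e₁ e₂ f₁ f₂) (a b c d a' b' c' d' : F) :
    H4 (a • e₁ + b • e₂ + c • f₁ + d • f₂) (a' • e₁ + b' • e₂ + c' • f₁ + d' • f₂) =
      a * c' ^ 2 + c * a' ^ 2 + b * d' ^ 2 + d * b' ^ 2 := by
  simp only [add_left hF, add_right hF, smul_left hF, smul_right hF, q.i₁.2, q.i₂.2, q.j₁.2, q.j₂.2, q.h₁, q.h₂,
    comm_one hF q.h₁, comm_one hF q.h₂, q.ee, q.ef, q.fe, q.ff, (comm_zero hF).1 q.ee, (comm_zero hF).1 q.ef,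
    (comm_zero hF).1 q.fe, (comm_zero hF).1 q.ff]
  ring

theorem Quad.eq_zero {e₁ e₂ f₁ f₂ : V4} (q : Quad e₁ e₂ f₁ f₂) {r : V4} (h1 : H4 r e₁ = 0) (h2 : H4 r e₂ = 0)
    (h3 : H4 r f₁ = 0) (h4 : H4 r f₂ = 0) : r = 0 := by
  obtain ⟨w, -, hw⟩ := exists_omega' hF
  have hR := (ortho_nil hF).hyp hF (inW_nil hF e₁) (inW_nil hF f₁) q.i₁.2 q.j₁.2 q.h₁ hw
  have hR2 := hR.hyp hF ((inW_hyp hF hw).2 ⟨q.ee, q.ef, inW_nil hF _⟩)
    ((inW_hyp hF hw).2 ⟨q.fe, q.ff, inW_nil hF _⟩) q.i₂.2 q.j₂.2 q.h₂ hw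
  exact eq_zero_of_full hF hR2 le_rfl ((inW_hyp hF hw).2 ⟨h2, h4, (inW_hyp hF hw).2 ⟨h1, h3, inW_nil hF _⟩⟩)

/-- The coordinates. -/
theorem Quad.expand {e₁ e₂ f₁ f₂ : V4} (q : Quad e₁ e₂ f₁ f₂) (x : V4) :
    x = H4 x f₁ • e₁ + H4 x f₂ • e₂ + H4 x e₁ • f₁ + H4 x e₂ • f₂ := by
  have h := q.eq_zero hF (r := x + (H4 x f₁ • e₁ + H4 x f₂ • e₂ + H4 x e₁ • f₁ + H4 x e₂ • f₂))
    (by simp only [add_left hF, smul_left hF, q.i₁.2, q.h₁, q.ee, q.fe, mul_zero, mul_one, zero_add, add_zero]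
        exact add_self hF _)
    (by simp only [add_left hF, smul_left hF, q.i₂.2, q.h₂, (comm_zero hF).1 q.ee, (comm_zero hF).1 q.ef,
          mul_zero, mul_one, zero_add, add_zero]
        exact add_self hF _)
    (by simp only [add_left hF, smul_left hF, q.j₁.2, comm_one hF q.h₁, q.ef, q.ff, mul_zero, mul_one, zero_add,
          add_zero]
        exact add_self hF _)
    (by simp only [add_left hF, smul_left hF, q.j₂.2, comm_one hF q.h₂, (comm_zero hF).1 q.fe,
          (comm_zero hF).1 q.ff, mul_zero, mul_one, zero_add, add_zero]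
        exact add_self hF _)
  have h2 := eq_neg_of_add_eq_zero_left h
  rwa [neg_eq_of_add_eq_zero_left (vadd_self hF _)] at h2

/-- An isotropic vector orthogonal to two orthogonal independent isotropic vectors is a combination. -/
theorem mem_line {u w z : V4} (hu : Isot 2 u) (hw : Isot 2 w) (hwu : H4 w u = 0) (hne : ∀ a : F, w ≠ a • u)
    (hz : H4 z z = 0) (hzu : H4 z u = 0) (hzw : H4 z w = 0) : ∃ a b : F, z = a • u + b • w := by
  obtain ⟨e₂, f, f₂, q⟩ := exists_quad hF hu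
  set a₁ := H4 w f
  set b₁ := H4 w f₂
  set d₁ := H4 w e₂
  have hw' : w = a₁ • u + b₁ • e₂ + (0 : F) • f + d₁ • f₂ := by rw [← hwu]; exact q.expand hF w
  set b := H4 z f₂
  set d := H4 z e₂
  have hz' : z = H4 z f • u + b • e₂ + (0 : F) • f + d • f₂ := by rw [← hzu]; exact q.expand hF z
  have k₁ := hw.2
  rw [hw', q.form hF] at k₁
  have k₂ := hz
  rw [hz', q.form hF] at k₂
  have k₃ := hzw
  rw [hz', hw', q.form hF] at k₃
  obtain ⟨t, htb, htd⟩ : ∃ t : F, b = t * b₁ ∧ d = t * d₁ := by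
    by_cases hb : b₁ = 0
    · have hd : d₁ ≠ 0 := fun h => hne a₁ (by
        conv_lhs => rw [hw', hb, h]
        simp)
      refine ⟨d / d₁, ?_, (div_mul_cancel₀ d hd).symm⟩
      rw [hb] at k₃
      simp only [mul_zero, zero_mul, zero_add, add_zero, ne_eq, OfNat.ofNat_ne_zero, not_false_eq_true,
        zero_pow] at k₃
      rw [hb, mul_zero, (mul_eq_zero.1 k₃).resolve_right (pow_ne_zero 2 hd)]
    · refine ⟨b / b₁, (div_mul_cancel₀ b hb).symm, ?_⟩
      have h' : d * b₁ ^ 2 * b₁ = b * d₁ * b₁ ^ 2 := by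
        simp only [mul_zero, zero_mul, zero_add, add_zero, ne_eq, OfNat.ofNat_ne_zero, not_false_eq_true,
          zero_pow] at k₁ k₃
        linear_combination b₁ * k₃ + b * k₁ - add_self hF (b * b₁ * d₁ ^ 2) - add_self hF (b * d₁ * b₁ ^ 2)
      rw [div_mul_eq_mul_div, eq_div_iff hb]
      exact mul_right_cancel₀ (pow_ne_zero 2 hb) (by linear_combination h')
  refine ⟨H4 z f + t * a₁, t, ?_⟩
  conv_lhs => rw [hz', htb, htd]
  conv_rhs => rw [hw']
  have := vadd_self hF ((t * a₁) • u)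
  linear_combination (norm := module) (-1 : F) • this

/-- Two points orthogonal to the same points are equal. -/
theorem pt_ext {s t : SU4} {u w : V4} (hs : IsPt s u) (ht : IsPt t w)
    (h : ∀ x : SU4, (∃ v, IsPt x v) → (Commute x s ↔ Commute x t)) : s = t := by
  by_contra hst
  have hne : ∀ a : F, w ≠ a • u := fun a ha => hst (by
    have ha0 : a ≠ 0 := fun h0 => ht.1.1 (by rw [ha, h0, zero_smul])
    exact (hs.smul hF ha0).unique hF (ha ▸ ht))
  have huw : H4 w u = 0 := by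
    have := (h s ⟨u, hs⟩).1 (Commute.refl s)
    exact (comm_zero hF).1 ((hs.commute_iff hF ht).1 this)
  obtain ⟨e₂, f, f₂, q⟩ := exists_quad hF hs.1
  have hexp := q.expand hF w
  rw [huw, zero_smul, add_zero] at hexp
  obtain ⟨y, hy, hyu, hyw⟩ : ∃ y, Isot 2 y ∧ H4 y u = 0 ∧ H4 y w ≠ 0 := by
    by_cases hb : H4 w e₂ = 0
    · refine ⟨f₂, q.j₂, q.fe, fun h0 => hne (H4 w f) ?_⟩
      rw [(comm_zero hF).1 h0, hb, zero_smul, zero_smul, add_zero, add_zero] at hexp
      exact hexp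
    · exact ⟨e₂, q.i₂, q.ee, fun h0 => hb ((comm_zero hF).1 h0)⟩
  obtain ⟨x, hx⟩ := exists_pt hF hy
  exact hyw ((hx.commute_iff hF ht).1 ((h x ⟨y, hx⟩).1 ((hx.commute_iff hF hs).2 hyu)))

theorem exists_noncomm {s : SU4} {u : V4} (hs : IsPt s u) : ∃ t v, IsPt t v ∧ ¬ Commute s t := by
  obtain ⟨v, hv, hvu⟩ := exists_partner4 hF hs.1
  obtain ⟨t, ht⟩ := exists_pt hF hv
  exact ⟨t, v, ht, fun h => one_ne_zero (comm_one hF hvu ▸ (hs.commute_iff hF ht).1 h)⟩

theorem exists_common {s t : SU4} {u v : V4} (hs : IsPt s u) (ht : IsPt t v) (hst : ¬ Commute s t) :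
    ∃ x w, IsPt x w ∧ Commute x s ∧ Commute x t := by
  have h0 : H4 v u ≠ 0 := fun h => hst ((hs.commute_iff hF ht).2 ((comm_zero hF).1 h))
  have ht' := ht.smul hF (inv_ne_zero h0)
  obtain ⟨e₂, f₂, q⟩ := exists_quad_of hF hs.1 ht'.1 (by rw [smul_left hF, inv_mul_cancel₀ h0])
  obtain ⟨x, hx⟩ := exists_pt hF q.i₂
  exact ⟨x, e₂, hx, (hx.commute_iff hF hs).2 q.ee, (hx.commute_iff hF ht').2 q.ef⟩

theorem closure_pts : Subgroup.closure {t : SU4 | ∃ v, IsPt t v} = ⊤ := by
  rw [eq_top_iff, ← CfsgLib.Classical.Unitary.su_closure_transvections hF (n := 4) (by norm_num) (by norm_num)]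
  refine (Subgroup.closure_le _).2 ?_
  rintro A ⟨v, c, hv, hA⟩
  rcases CfsgLib.U6.four_transvection hF hv hA with h | ⟨h0, h⟩
  · rw [show A = 1 from act_ext fun r => by rw [h, act_one]]
    exact one_mem _
  · exact Subgroup.subset_closure ⟨v, ⟨h0, hv⟩, h⟩

theorem eq_one_of_fix {g : SU4} (h : ∀ x : SU4, (∃ v, IsPt x v) → Commute g x) {u : V4}
    (hu : Isot 2 u) (hgu : act g u = u) : g = 1 := by
  have key : ∀ {v : V4}, Isot 2 v → ∀ y, H4 y v • v = H4 y (act g v) • act g v := by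
    intro v hv y
    obtain ⟨x, hx⟩ := exists_pt hF hv
    have e : g * x * g⁻¹ = x := by rw [(h x ⟨v, hx⟩).eq]; group
    have h1 := (hx.conj g).2 y
    rw [e, hx.2] at h1
    exact add_left_cancel h1
  have scal : ∀ {v : V4}, Isot 2 v → ∃ a : F, act g v = a • v := by
    intro v hv
    obtain ⟨y, -, hy⟩ := exists_partner4 hF hv
    have := key hv y
    rw [hy, one_smul] at this
    have h0 : H4 y (act g v) ≠ 0 := fun h0 => hv.1 (by rw [this, h0, zero_smul])
    exact ⟨(H4 y (act g v))⁻¹, (eq_inv_smul_iff₀ h0).2 this.symm⟩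
  obtain ⟨e₂, f, f₂, q⟩ := exists_quad hF hu
  have hform : ∀ a b : V4, H4 (act g a) (act g b) = H4 a b := act_form g
  have hf : act g f = f := by
    obtain ⟨a, ha⟩ := scal q.j₁
    have := hform f u
    rw [hgu, ha, smul_left hF, q.h₁, mul_one] at this
    rw [ha, this, one_smul]
  obtain ⟨a, ha⟩ := scal q.i₂
  obtain ⟨b, hb⟩ := scal q.j₂
  have hs : Isot 2 (u + e₂) := by
    refine ⟨fun h0 => ?_, ?_⟩
    · have := congrArg (fun z => H4 z f₂) h0
      simp only [add_left hF, comm_one hF q.h₂, zero_left hF, (comm_zero hF).1 q.fe, zero_add] at this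
      exact one_ne_zero this
    · simp only [add_left hF, add_right hF, hu.2, q.i₂.2, q.ee, (comm_zero hF).1 q.ee, add_zero]
  obtain ⟨c, hc⟩ := scal hs
  rw [act_add, hgu, ha, smul_add] at hc
  have hc1 := congrArg (fun z => H4 z f) hc
  simp only [add_left hF, smul_left hF, comm_one hF q.h₁, q.ef, mul_zero, add_zero, mul_one] at hc1
  subst hc1
  rw [one_smul, one_smul] at hc
  have he₂ : act g e₂ = e₂ := by rw [ha]; exact add_left_cancel hc
  have hf₂ : act g f₂ = f₂ := by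
    have := hform f₂ e₂
    rw [he₂, hb, smul_left hF, q.h₂, mul_one] at this
    rw [hb, this, one_smul]
  refine act_ext fun r => ?_
  rw [act_one]
  conv_lhs => rw [q.expand hF r]
  conv_rhs => rw [q.expand hF r]
  simp only [act_add, act_smul, hgu, hf, he₂, hf₂]

/-- Vectors with coefficient sums along lines exhaust the isotropic vectors from a quadrangle. -/
theorem grid {e₁ e₂ f₁ f₂ : V4} (q : Quad e₁ e₂ f₁ f₂) {Z : V4 → Prop} (hsm : ∀ (a : F) v, Z v → Z (a • v))
    (hadd : ∀ v w, H4 v v = 0 → H4 w w = 0 → H4 v w = 0 → Z v → Z w → Z (v + w))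
    (h₁ : Z e₁) (h₂ : Z e₂) (h₃ : Z f₁) (h₄ : Z f₂) {x : V4} (hx : H4 x x = 0) : Z x := by
  have two : ∀ {v w : V4} (a b : F), H4 v v = 0 → H4 w w = 0 → H4 v w = 0 → Z v → Z w → Z (a • v + b • w) := by
    intro v w a b hv hw hvw Zv Zw
    refine hadd _ _ ?_ ?_ ?_ (hsm a v Zv) (hsm b w Zw) <;>
      simp only [smul_left hF, smul_right hF, hv, hw, hvw, mul_zero]
  have pe : ∀ {a b : F}, Z (a • e₁ + b • e₂) := fun {a b} =>
    two a b q.i₁.2 q.i₂.2 ((comm_zero hF).1 q.ee) h₁ h₂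
  have pf : ∀ {c d : F}, Z (c • f₁ + d • f₂) := fun {c d} =>
    two c d q.j₁.2 q.j₂.2 ((comm_zero hF).1 q.ff) h₃ h₄
  have pef : ∀ {a d : F}, Z (a • e₁ + d • f₂) := fun {a d} =>
    two a d q.i₁.2 q.j₂.2 ((comm_zero hF).1 q.fe) h₁ h₄
  have pfe : ∀ {b c : F}, Z (c • f₁ + b • e₂) := fun {b c} =>
    two c b q.j₁.2 q.i₂.2 ((comm_zero hF).1 q.ef) h₃ h₂
  have nat0 : ∀ a : F, a ^ 3 = 0 ∨ a ^ 3 = 1 := fun a => by
    by_cases h : a = 0
    · exact Or.inl (by rw [h]; ring)
    · exact Or.inr (cube_eq_one hF h)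
  have h2 := add_self hF (1 : F)
  have mixed : ∀ (a b c d : F), a * c ^ 2 = b * d ^ 2 → Z (a • e₁ + b • e₂ + c • f₁ + d • f₂) := by
    intro a b c d h
    have he : a • e₁ + b • e₂ + c • f₁ + d • f₂ = (a • e₁ + b • e₂) + (c • f₁ + d • f₂) := by abel
    rw [he]
    refine hadd _ _ ?_ ?_ ?_ pe pf
    · have := q.form hF a b 0 0 a b 0 0
      simp only [zero_smul, add_zero] at this
      rw [this]; ring
    · have := q.form hF 0 0 c d 0 0 c d
      simp only [zero_smul, zero_add] at this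
      rw [this]; ring
    · have := q.form hF a b 0 0 0 0 c d
      simp only [zero_smul, zero_add, add_zero] at this
      rw [this]
      linear_combination h + add_self hF (b * d ^ 2)
  obtain ⟨w, hw0, hw⟩ := exists_omega' hF
  have hw3 : w ^ 3 = 1 := cube_eq_one hF hw0
  have sE : Z (e₂ + f₂) := by
    have g₁ := mixed 1 1 1 1 rfl
    have g₂ := mixed 1 w 1 w (by linear_combination -hw3)
    have horth : H4 ((1 : F) • e₁ + (1 : F) • e₂ + (1 : F) • f₁ + (1 : F) • f₂)
        ((1 : F) • e₁ + w • e₂ + (1 : F) • f₁ + w • f₂) = 0 := by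
      rw [q.form hF]; linear_combination (1 + w ^ 2) * h2
    have hs := hadd _ _ (by rw [q.form hF]; linear_combination 2 * h2)
      (by rw [q.form hF]; linear_combination (1 + w ^ 3) * h2) horth g₁ g₂
    have hk := hsm w _ hs
    convert hk using 1
    have e : w + w * w = 1 := by linear_combination hw - h2
    linear_combination (norm := module) congrArg (fun t : F => (-t) • e₂) e + congrArg (fun t : F => (-t) • f₂) e -
      congrArg (fun t : F => (t * w) • e₁) h2 - congrArg (fun t : F => (t * w) • f₁) h2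
  have sF : Z (e₁ + f₁) := by
    have g₁ := mixed 1 1 1 1 rfl
    have hs := hadd _ _ (by rw [q.form hF]; linear_combination 2 * h2)
      (by simp only [add_left hF, add_right hF, q.i₂.2, q.j₂.2, q.h₂, comm_one hF q.h₂]; linear_combination h2)
      (by simp only [add_left hF, add_right hF, smul_left hF, q.i₂.2, q.j₂.2, q.h₂, comm_one hF q.h₂,
            (comm_zero hF).1 q.ee, (comm_zero hF).1 q.fe, (comm_zero hF).1 q.ef, (comm_zero hF).1 q.ff]
          linear_combination h2) g₁ sE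
    convert hs using 1
    linear_combination (norm := module) (-1 : F) • vadd_self hF (e₂ + f₂)
  set a := H4 x f₁
  set b := H4 x f₂
  set c := H4 x e₁
  set d := H4 x e₂
  have hexp : x = a • e₁ + b • e₂ + c • f₁ + d • f₂ := q.expand hF x
  have k := hx
  rw [hexp, q.form hF] at k
  rw [hexp]
  have four : ∀ t : F, t ^ 4 = t := fun t => by
    rcases nat0 t with h | h
    · rw [pow_eq_zero_iff (by norm_num) |>.1 h]; ring
    · linear_combination t * h
  have sqe : ∀ p r : F, (p * r ^ 2) ^ 2 = r * p ^ 2 := fun p r => by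
    linear_combination p ^ 2 * four r
  set T₁ := a * c ^ 2 + c * a ^ 2 with hT₁
  by_cases hT : T₁ = 0
  · have hT2 : b * d ^ 2 + d * b ^ 2 = 0 := by linear_combination k - hT
    have one_pair : ∀ {u v : V4} {p r : F}, Z u → Z v → Z (u + v) → p * r ^ 2 + r * p ^ 2 = 0 →
        Z (p • u + r • v) := by
      intro u v p r Zu Zv Zs h
      by_cases hp : p = 0
      · rw [hp, zero_smul, zero_add]; exact hsm r v Zv
      by_cases hr : r = 0
      · rw [hr, zero_smul, add_zero]; exact hsm p u Zu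
      have h' : p * r * (r + p) = 0 := by linear_combination h
      have hrp : r = p := by
        have h'' := (mul_eq_zero.1 h').resolve_left (mul_ne_zero hp hr)
        linear_combination h'' - add_self hF p
      rw [hrp, ← smul_add]
      exact hsm p _ Zs
    have A := one_pair h₁ h₃ sF hT
    have B := one_pair h₂ h₄ sE hT2
    have hsum := hadd _ _ (by
        simp only [add_left hF, add_right hF, smul_left hF, smul_right hF, q.i₁.2, q.j₁.2, q.h₁, comm_one hF q.h₁]
        linear_combination hT) (by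
        simp only [add_left hF, add_right hF, smul_left hF, smul_right hF, q.i₂.2, q.j₂.2, q.h₂, comm_one hF q.h₂]
        linear_combination hT2) (by
        simp only [add_left hF, add_right hF, smul_left hF, smul_right hF, (comm_zero hF).1 q.ee,
          (comm_zero hF).1 q.fe, (comm_zero hF).1 q.ef, (comm_zero hF).1 q.ff]
        ring) A B
    convert hsum using 1
    abel
  · by_cases heq : a * c ^ 2 = b * d ^ 2
    · exact mixed a b c d heq
    · have h1 : (a * c ^ 2 + b * d ^ 2) * ((a * c ^ 2 + b * d ^ 2) + 1) = 0 := by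
        linear_combination k + sqe a c + sqe b d + (a * c ^ 2 * b * d ^ 2) * h2
      have hs : a * c ^ 2 + b * d ^ 2 = 1 := by
        have := (mul_eq_zero.1 h1).resolve_left fun h => heq (by linear_combination h - add_self hF (b * d ^ 2))
        linear_combination this - h2
      have hT1' : T₁ = 1 := by
        have h' : T₁ * (T₁ + 1) = 0 := by
          rw [hT₁]
          linear_combination sqe a c + sqe c a + (a * c ^ 2 * c * a ^ 2) * h2 + (a * c ^ 2 + c * a ^ 2) * h2
        have := (mul_eq_zero.1 h').resolve_left hT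
        linear_combination this - h2
      have hpair : a * c ^ 2 + d * b ^ 2 = 0 := by
        linear_combination k - hs + hT₁.symm + hT1' - add_self hF (c * a ^ 2) + 0 * h2
      have he : a • e₁ + b • e₂ + c • f₁ + d • f₂ = (a • e₁ + d • f₂) + (c • f₁ + b • e₂) := by abel
      rw [he]
      refine hadd _ _ ?_ ?_ ?_ pef pfe
      · have := q.form hF a 0 0 d a 0 0 d
        simp only [zero_smul, add_zero, zero_add] at this
        rw [this]; ring
      · have := q.form hF 0 b c 0 0 b c 0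
        simp only [zero_smul, add_zero, zero_add] at this
        rw [add_comm (c • f₁), this]; ring
      · have := q.form hF a 0 0 d 0 b c 0
        simp only [zero_smul, add_zero, zero_add] at this
        rw [add_comm (c • f₁), this]
        linear_combination hpair

/-- On a line through `p` there is at most one point other than `p` commuting with a point off `p^⊥`. -/
theorem line_unique {p s s' y : SU4} {u w w' v : V4} (hp : IsPt p u) (hs : IsPt s w) (hs' : IsPt s' w')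
    (hy : IsPt y v) (h1 : Commute p s) (h2 : Commute p s') (h3 : Commute s s') (hne : s ≠ p)
    (hyp : ¬ Commute p y) (hys : Commute s y) (hys' : Commute s' y) : s = s' := by
  have hw : ∀ a : F, w ≠ a • u := fun a ha => by
    have ha0 : a ≠ 0 := fun h0 => hs.1.1 (by rw [ha, h0, zero_smul])
    exact hne (hs.unique hF (ha ▸ hp.smul hF ha0))
  obtain ⟨a, b, hab⟩ := mem_line hF hp.1 hs.1 ((comm_zero hF).1 ((hp.commute_iff hF hs).1 h1)) hw hs'.1.2
    ((comm_zero hF).1 ((hp.commute_iff hF hs').1 h2)) ((comm_zero hF).1 ((hs.commute_iff hF hs').1 h3))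
  have h0 : H4 u v ≠ 0 := fun h => hyp ((hp.commute_iff hF hy).2 h)
  have := (hs'.commute_iff hF hy).1 hys'
  rw [hab, add_left hF, smul_left hF, smul_left hF, (hs.commute_iff hF hy).1 hys, mul_zero, add_zero] at this
  rw [(mul_eq_zero.1 this).resolve_right h0, zero_smul, zero_add] at hab
  have hb : b ≠ 0 := fun h => hs'.1.1 (by rw [hab, h, zero_smul])
  exact (hab ▸ hs').unique hF (hs.smul hF hb) |>.symm

/-- Four points on a line through `p` other than `p` contain one commuting with a point off `p^⊥`. -/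
theorem line_exists {p y : SU4} {u v : V4} (hp : IsPt p u) (hy : IsPt y v) (hyp : ¬ Commute p y)
    {S : Set SU4} (hS : ∀ s ∈ S, ∃ w, IsPt s w) (hpS : ∀ s ∈ S, Commute p s ∧ s ≠ p)
    (hc : ∀ s ∈ S, ∀ s' ∈ S, Commute s s') (hcard : 4 ≤ S.ncard) : ∃ s ∈ S, Commute s y := by
  classical
  obtain ⟨s₀, hs₀⟩ := Set.nonempty_of_ncard_ne_zero (s := S) (by omega)
  obtain ⟨w₀, hw₀⟩ := hS s₀ hs₀
  have hne : ∀ a : F, w₀ ≠ a • u := fun a ha => by
    have ha0 : a ≠ 0 := fun h0 => hw₀.1.1 (by rw [ha, h0, zero_smul])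
    exact (hpS s₀ hs₀).2 (hw₀.unique hF (ha ▸ hp.smul hF ha0))
  have hu0 : H4 w₀ u = 0 := (comm_zero hF).1 ((hp.commute_iff hF hw₀).1 (hpS s₀ hs₀).1)
  have key : ∀ s ∈ S, ∃ a : F, IsPt s (a • u + w₀) := by
    intro s hs
    obtain ⟨w, hw⟩ := hS s hs
    obtain ⟨a, b, hab⟩ := mem_line hF hp.1 hw₀.1 hu0 hne hw.1.2
      ((comm_zero hF).1 ((hp.commute_iff hF hw).1 (hpS s hs).1))
      ((comm_zero hF).1 ((hw₀.commute_iff hF hw).1 (hc s₀ hs₀ s hs)))
    have hb : b ≠ 0 := fun h0 => by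
      rw [h0, zero_smul, add_zero] at hab
      have ha : a ≠ 0 := fun h => hw.1.1 (by rw [hab, h, zero_smul])
      exact (hpS s hs).2 ((hab ▸ hw).unique hF (hp.smul hF ha))
    have := hw.smul hF (inv_ne_zero hb)
    rw [hab, smul_add, smul_smul, smul_smul, inv_mul_cancel₀ hb, one_smul] at this
    exact ⟨_, this⟩
  choose α hα using key
  have hinj : Function.Injective fun s : S => α s.1 s.2 := by
    intro s t e
    have ht := hα t.1 t.2
    rw [← show α s.1 s.2 = α t.1 t.2 from e] at ht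
    exact Subtype.ext ((hα s.1 s.2).unique hF ht)
  have hcardF : Nat.card F = 4 := by rw [Nat.card_eq_fintype_card, hF]; norm_num
  have hsurj := (Function.Injective.bijective_of_nat_card_le hinj (by
    rw [hcardF, Nat.card_coe_set_eq]; exact hcard)).2
  obtain ⟨⟨s, hs⟩, he⟩ := hsurj (H4 w₀ v / H4 u v)
  refine ⟨s, hs, ((hα s hs).commute_iff hF hy).2 ?_⟩
  have h0 : H4 u v ≠ 0 := fun h => hyp ((hp.commute_iff hF hy).2 h)
  rw [add_left hF, smul_left hF, show α s hs = H4 w₀ v / H4 u v from he, div_mul_cancel₀ _ h0]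
  exact add_self hF _

/-- An element of `SU₄(2)` with a triangular matrix on the second pair has equal reciprocal diagonal. -/
theorem Quad.det_diag {e₁ e₂ f₁ f₂ : V4} (q : Quad e₁ e₂ f₁ f₂) {g : SU4} {c a c' : F}
    (he : act g e₁ = e₁) (hf : act g f₁ = f₁) (he₂ : act g e₂ = c • e₂) (hf₂ : act g f₂ = a • e₂ + c' • f₂) :
    c * c' = 1 := by
  let P : Matrix (Fin 4) (Fin 4) F := Matrix.of fun i j => (![e₁, f₁, e₂, f₂] j) i
  let U : Matrix (Fin 4) (Fin 4) F := !![1, 0, 0, 0; 0, 1, 0, 0; 0, 0, c, a; 0, 0, 0, c']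
  have hP : P.det ≠ 0 := by
    intro h0
    obtain ⟨v, hv, hv'⟩ := Matrix.exists_mulVec_eq_zero_iff.2 h0
    have hsum : v 0 • e₁ + v 1 • f₁ + v 2 • e₂ + v 3 • f₂ = 0 := by
      rw [← hv']
      funext i
      simp [P, Matrix.mulVec, dotProduct, Fin.sum_univ_four, mul_comm]
    apply hv
    have k : ∀ z, H4 (v 0 • e₁ + v 1 • f₁ + v 2 • e₂ + v 3 • f₂) z = 0 := fun z => by rw [hsum, zero_left hF]
    have k1 := k f₁; have k2 := k e₁; have k3 := k f₂; have k4 := k e₂
    simp only [add_left hF, smul_left hF, q.i₁.2, q.i₂.2, q.j₁.2, q.j₂.2, q.h₁, q.h₂, comm_one hF q.h₁,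
      comm_one hF q.h₂, q.ee, q.ef, q.fe, q.ff, (comm_zero hF).1 q.ee, (comm_zero hF).1 q.ef,
      (comm_zero hF).1 q.fe, (comm_zero hF).1 q.ff, mul_zero, mul_one, add_zero, zero_add] at k1 k2 k3 k4
    funext i; fin_cases i <;> assumption
  have hMP : ((g : SpecialLinearGroup (Fin 4) F) : Matrix (Fin 4) (Fin 4) F) * P = P * U := by
    refine Matrix.ext fun i j => ?_
    have hcol : ∀ w : V4, act g w i = ∑ k, ((g : SpecialLinearGroup (Fin 4) F) : Matrix (Fin 4) (Fin 4) F) i k * w k :=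
      fun w => rfl
    fin_cases j <;> simp only [Matrix.mul_apply, P, U] <;> simp [Fin.sum_univ_four]
    · have := hcol e₁; rw [he, Fin.sum_univ_four] at this; exact this.symm
    · have := hcol f₁; rw [hf, Fin.sum_univ_four] at this; exact this.symm
    · have := hcol e₂; rw [he₂, Fin.sum_univ_four] at this; simpa [mul_comm] using this.symm
    · have := hcol f₂; rw [hf₂, Fin.sum_univ_four] at this; simpa [mul_comm] using this.symm
  have hd := congrArg Matrix.det hMP
  rw [Matrix.det_mul, Matrix.det_mul, (g : SpecialLinearGroup (Fin 4) F).2, one_mul] at hd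
  have hU : U.det = c * c' := by
    rw [Matrix.det_of_isUpperTriangular]
    · simp [U, Fin.prod_univ_four]
    · intro i j hij
      fin_cases i <;> fin_cases j <;> first | rfl | exact absurd hij (by decide) | simp [U]
  rw [hU] at hd
  exact mul_left_cancel₀ hP (by rw [mul_one]; exact hd.symm)

/-- A vector stabiliser is generated by the transvections orthogonal to the vector. -/
theorem stab_closure {w : V4} (hw : Isot 2 w) {g : SU4} (hg : act g w = w) :
    g ∈ Subgroup.closure {t : SU4 | ∃ v, IsPt t v ∧ H4 v w = 0} := by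
  set N := Subgroup.closure {t : SU4 | ∃ v, IsPt t v ∧ H4 v w = 0}
  have mem : ∀ {t : SU4} {v : V4}, IsPt t v → H4 v w = 0 → t ∈ N := fun ht h =>
    Subgroup.subset_closure ⟨_, ht, h⟩
  obtain ⟨f, hf, hfw⟩ := exists_partner4 hF hw
  obtain ⟨e₂, f₂, q⟩ := exists_quad_of hF hw hf hfw
  obtain ⟨r, hr0, hr1, c0, hgf⟩ : ∃ r, H4 r w = 0 ∧ H4 r f = 0 ∧ ∃ c : F, act g f = f + r + c • w := by
    set p := act g f
    have hpw : H4 p w = 1 := by rw [← hg, act_form, hfw]
    refine ⟨H4 p f₂ • e₂ + H4 p e₂ • f₂, ?_, ?_, H4 p f, ?_⟩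
    · simp only [add_left hF, smul_left hF, q.ee, q.fe, mul_zero, add_zero]
    · simp only [add_left hF, smul_left hF, q.ef, q.ff, mul_zero, add_zero]
    · conv_lhs => rw [q.expand hF p, hpw, one_smul]
      abel
  obtain ⟨t, ht, -, c', htf⟩ := exists_shift hF (ortho_nil hF) (by norm_num : 0 + 4 ≤ 4) (inW_nil hF w)
    (inW_nil hF f) hw.2 hf.2 hfw (inW_nil hF r) hr0 hr1
  have htN : t ∈ N := by
    refine Subgroup.closure_mono ?_ ht
    rintro x ⟨v, hv, -, h⟩
    exact ⟨v, hv, h⟩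
  have htw : act t w = w := act_of_mem_TU hF ht
  -- the partner
  obtain ⟨δ, g₁, hg₁, g1w, g1f⟩ : ∃ (δ : F) (g₁ : SU4), (g₁ ∈ N → g ∈ N) ∧ act g₁ w = w ∧
      act g₁ f = f + δ • w := by
    refine ⟨c0 + c', t⁻¹ * g, fun h => by simpa using mul_mem htN h, ?_, ?_⟩
    · rw [act_mul, hg]; conv_lhs => rw [← htw, act_inv_apply]
    · have e : act g f = act t f + (c0 + c') • w := by
        rw [hgf, htf]
        linear_combination (norm := module) (-1 : F) • vadd_self hF (c' • w)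
      have hwi : act t⁻¹ w = w := by conv_lhs => rw [← htw, act_inv_apply]
      rw [act_mul, e, act_add, act_inv_apply, act_smul, hwi]
  have hδ : δ + δ ^ 2 = 0 := by
    have := act_form g₁ f f
    rw [g1f, hf.2] at this
    simp only [add_left hF, add_right hF, smul_left hF, smul_right hF, hf.2, hw.2, hfw, comm_one hF hfw] at this
    linear_combination this
  obtain ⟨g₂, hg₂, g2w, g2f⟩ : ∃ g₂ : SU4, (g₂ ∈ N → g₁ ∈ N) ∧ act g₂ w = w ∧ act g₂ f = f := by
    by_cases h0 : δ = 0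
    · exact ⟨g₁, id, g1w, by rw [g1f, h0, zero_smul, add_zero]⟩
    obtain ⟨s, hs⟩ := exists_pt hF hw
    refine ⟨s * g₁, fun h => ?_, by rw [act_mul, g1w, hs.act_self], ?_⟩
    · have := mul_mem (mem hs hw.2) h
      rwa [← mul_assoc, hs.mul_self hF, one_mul] at this
    · have h1 : δ * (1 + δ) = 0 := by linear_combination hδ
      have hd1 : δ = 1 := by
        linear_combination (mul_eq_zero.1 h1).resolve_left h0 - add_self hF (1 : F)
      rw [act_mul, g1f, hd1, one_smul, act_add, hs.act_self, hs.2, hfw, one_smul, add_assoc, vadd_self hF,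
        add_zero]
  -- the second pair
  have perp : ∀ {v : V4}, H4 v w = 0 → H4 v f = 0 → v = H4 v f₂ • e₂ + H4 v e₂ • f₂ := by
    intro v h1 h2
    conv_lhs => rw [q.expand hF v, h1, h2, zero_smul, zero_smul, zero_add, add_zero]
  have hsum : Isot 2 (e₂ + f₂) := by
    refine ⟨fun h0 => ?_, ?_⟩
    · have := congrArg (fun z => H4 z f₂) h0
      simp only [add_left hF, comm_one hF q.h₂, q.j₂.2, add_zero, zero_left hF] at this
      exact one_ne_zero this
    · simp only [add_left hF, add_right hF, q.i₂.2, q.j₂.2, q.h₂, comm_one hF q.h₂, zero_add, add_zero]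
      exact add_self hF 1
  obtain ⟨s₁, hs₁⟩ := exists_pt hF q.i₂
  obtain ⟨s₂, hs₂⟩ := exists_pt hF q.j₂
  obtain ⟨s₃, hs₃⟩ := exists_pt hF hsum
  have fixW : ∀ {s : SU4} {v : V4}, IsPt s v → H4 v w = 0 → H4 v f = 0 → act s w = w ∧ act s f = f :=
    fun hs h1 h2 => ⟨hs.act_of_perp ((comm_zero hF).1 h1), hs.act_of_perp ((comm_zero hF).1 h2)⟩
  have p₁ : H4 e₂ w = 0 ∧ H4 e₂ f = 0 := ⟨q.ee, q.ef⟩
  have p₂ : H4 f₂ w = 0 ∧ H4 f₂ f = 0 := ⟨q.fe, q.ff⟩
  have p₃ : H4 (e₂ + f₂) w = 0 ∧ H4 (e₂ + f₂) f = 0 := by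
    rw [add_left hF, add_left hF, p₁.1, p₁.2, p₂.1, p₂.2, add_zero]; exact ⟨rfl, rfl⟩
  have img2 : ∀ {k : SU4} (v : V4), act k w = w → act k f = f → H4 v w = 0 → H4 v f = 0 →
      H4 (act k v) w = 0 ∧ H4 (act k v) f = 0 := by
    intro k v h1 h2 h3 h4
    constructor
    · rw [← h1, act_form, h3]
    · rw [← h2, act_form, h4]
  obtain ⟨g₃, hg₃, g3w, g3f, c, g3e⟩ : ∃ g₃ : SU4, (g₃ ∈ N → g₂ ∈ N) ∧ act g₃ w = w ∧ act g₃ f = f ∧
      ∃ c : F, act g₃ e₂ = c • e₂ := by
    obtain ⟨h1, h2⟩ := img2 e₂ g2w g2f p₁.1 p₁.2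
    have hexp := perp h1 h2
    set a := H4 (act g₂ e₂) f₂
    set b := H4 (act g₂ e₂) e₂
    have hiso : a * b ^ 2 + b * a ^ 2 = 0 := by
      have := act_form g₂ e₂ e₂
      rw [hexp, q.i₂.2] at this
      simp only [add_left hF, add_right hF, smul_left hF, smul_right hF, q.i₂.2, q.j₂.2, q.h₂,
        comm_one hF q.h₂] at this
      linear_combination this
    have back : ∀ {s : SU4} {v : V4}, IsPt s v → H4 v w = 0 → H4 v f = 0 → ∀ c : F,
        act s (act g₂ e₂) = c • e₂ → ∃ g₃ : SU4, (g₃ ∈ N → g₂ ∈ N) ∧ act g₃ w = w ∧ act g₃ f = f ∧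
        ∃ c : F, act g₃ e₂ = c • e₂ := fun {s v} hs h1 h2 c hc => by
      obtain ⟨sw, sf⟩ := fixW hs h1 h2
      refine ⟨s * g₂, fun h => ?_, by rw [act_mul, g2w, sw], by rw [act_mul, g2f, sf], c, by rw [act_mul, hc]⟩
      have := mul_mem (mem hs h1) h
      rwa [← mul_assoc, hs.mul_self hF, one_mul] at this
    by_cases hb : b = 0
    · exact ⟨g₂, id, g2w, g2f, a, by rw [hexp, hb, zero_smul, add_zero]⟩
    by_cases ha : a = 0
    · refine back hs₃ p₃.1 p₃.2 b ?_
      rw [hexp, ha, zero_smul, zero_add, act_smul, hs₃.2, add_right hF, q.h₂, q.j₂.2, add_zero, one_smul]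
      congr 1
      rw [add_comm e₂ f₂, ← add_assoc, vadd_self hF, zero_add]
    have hab : a = b := by
      have h' : a * b * (a + b) = 0 := by linear_combination hiso
      linear_combination ((mul_eq_zero.1 h').resolve_left (mul_ne_zero ha hb)) - add_self hF b
    refine back hs₂ p₂.1 p₂.2 b ?_
    rw [hexp, hab, ← smul_add, act_smul, hs₂.2, add_left hF, comm_one hF q.h₂, q.j₂.2, add_zero, one_smul,
      add_assoc, vadd_self hF, add_zero]
  obtain ⟨h1, h2⟩ := img2 f₂ g3w g3f p₂.1 p₂.2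
  have hexp := perp h1 h2
  set a' := H4 (act g₃ f₂) f₂
  set c' := H4 (act g₃ f₂) e₂
  have hcc := q.det_diag hF g3w g3f g3e hexp
  have hc0 : c ≠ 0 := left_ne_zero_of_mul_eq_one hcc
  have hc2 : c' * c ^ 2 = 1 := by
    have := act_form g₃ f₂ e₂
    rw [hexp, g3e, q.h₂] at this
    simp only [add_left hF, smul_left hF, smul_right hF, q.i₂.2, q.h₂] at this
    linear_combination this
  have hc1 : c = 1 := by linear_combination hc2 - c * hcc
  have hc1' : c' = 1 := by rw [hc1, one_mul] at hcc; exact hcc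
  rw [hc1, one_smul] at g3e
  rw [hc1', one_smul] at hexp
  have ha' : a' * (a' + 1) = 0 := by
    have := act_form g₃ f₂ f₂
    rw [hexp, q.j₂.2] at this
    simp only [add_left hF, add_right hF, smul_left hF, smul_right hF, q.i₂.2, q.j₂.2, q.h₂,
      comm_one hF q.h₂] at this
    linear_combination this
  have last : ∀ k : SU4, act k w = w → act k f = f → act k e₂ = e₂ → act k f₂ = f₂ → k = 1 := by
    intro k k1 k2 k3 k4
    refine act_ext fun x => ?_
    rw [act_one]
    conv_lhs => rw [q.expand hF x]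
    conv_rhs => rw [q.expand hF x]
    simp only [act_add, act_smul, k1, k2, k3, k4]
  refine hg₁ (hg₂ (hg₃ ?_))
  rcases mul_eq_zero.1 ha' with h | h
  · rw [last g₃ g3w g3f g3e (by rw [hexp, h, zero_smul, zero_add])]
    exact one_mem _
  · obtain ⟨sw, sf⟩ := fixW hs₁ p₁.1 p₁.2
    have h1' : a' = 1 := by linear_combination h - add_self hF (1 : F)
    have hk : s₁ * g₃ = 1 := last _ (by rw [act_mul, g3w, sw]) (by rw [act_mul, g3f, sf])
      (by rw [act_mul, g3e, hs₁.act_self])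
      (by rw [act_mul, hexp, h1', one_smul, act_add, hs₁.act_self, hs₁.2, q.h₂, one_smul, add_left_comm,
        vadd_self hF, add_zero])
    rw [eq_inv_of_mul_eq_one_right hk]
    exact inv_mem (mem hs₁ p₁.1)

end CfsgLib.U6Central
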