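import Cfsg.Agent.Lib.ThreeTransp.SURadical.Abelian
import Cfsg.Agent.Lib.ThreeTransp.Classes

/-!
# Groups with a transvection-like involution with centraliser `2^(1+8).U₄(2)`: the hypotheses

`D` is the class of the involution `d`, `L` the other members commuting with it.  The centraliser of `d` maps to
`SU₄(2)` with kernel a 2-group, the members of `L` going four to one onto the transvections.
-/

set_option autoImplicit false

namespace CfsgLib.U6Central

open CfsgLib.PSUAut (Isot act)
open CfsgLib.ThreeTransp (link)

variable {X : Type*} [Group X]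

/-- The conjugates of `d` reachable from it through commuting conjugates. -/
def Linked (d x : X) : Prop :=
  Relation.ReflTransGen (fun a b => b ∈ conjugatesOf d ∧ Commute a b) d x

/-- The hypotheses on `d`, but for centralisers of other involutions. -/
structure Base (d : X) (F : Type) [Field F] [Fintype F] where
  /-- The field has four elements. -/
  hF : Fintype.card F = 2 ^ 2
  sq : d * d = 1
  ne : d ≠ 1
  /-- The action on `d^⊥/⟨d⟩`. -/
  π : ↥(Subgroup.centralizer ({d} : Set X)) →* Cfsg.SU 4 F 2
  ker_two : IsPGroup 2 ↥π.ker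
  pt : ∀ x : ↥(Subgroup.centralizer ({d} : Set X)), (x : X) ∈ link (conjugatesOf d) d →
    ∃ w : Fin 4 → F, CfsgLib.SURadical.IsPt (π x) w
  lifts : ∀ (t : Cfsg.SU 4 F 2) (w : Fin 4 → F), CfsgLib.SURadical.IsPt t w →
    {x : ↥(Subgroup.centralizer ({d} : Set X)) | (x : X) ∈ link (conjugatesOf d) d ∧ π x = t}.ncard = 4
  comm : ∀ x y : ↥(Subgroup.centralizer ({d} : Set X)), (x : X) ∈ link (conjugatesOf d) d →
    (y : X) ∈ link (conjugatesOf d) d → Commute (π x) (π y) → Commute (x : X) (y : X)
  mul_notMem : ∀ x ∈ link (conjugatesOf d) d, x * d ∉ conjugatesOf d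
  faithful : ∀ g : X, Commute g d → (∀ x ∈ link (conjugatesOf d) d, Commute g x) → g = 1 ∨ g = d

/-- The hypotheses on `d`. -/
structure Central (d : X) (F : Type) [Field F] [Fintype F] extends Base d F where
  /-- Centralisers of involutions commuting with `d` keep the component of `d`. -/
  cent : ∀ v : X, v * v = 1 → v ≠ 1 → Commute v d → ∀ g : X, Commute g v → Linked d (g * d * g⁻¹)

/-- To bound the centraliser of `v` it is enough to give an invariant set of conjugates commuting with `d`. -/
theorem linked_of_invariant {d : X} {S : Set X} {g : X} (hne : S.Nonempty)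
    (hS : ∀ s ∈ S, s ∈ conjugatesOf d ∧ Commute d s) (hg : ∀ s ∈ S, g * s * g⁻¹ ∈ S) :
    Linked d (g * d * g⁻¹) := by
  obtain ⟨s, hs⟩ := hne
  refine .tail (.single (hS _ (hg s hs))) ⟨isConj_iff.2 ⟨g, rfl⟩, ?_⟩
  exact ((hS s hs).2.symm.map (MulAut.conj g).toMonoidHom)

end CfsgLib.U6Central
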