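import Cfsg.Agent.Lib.U6Central.Model6
import Cfsg.Agent.Lib.Classical.UnitaryPSU

/-!
# Central extensions of `PSU₆(2)` with kernel in the derived group
-/

set_option autoImplicit false
set_option linter.style.haveILetI false

namespace CfsgLib.U6Central

open Cfsg

variable {F : Type} [Field F] [Fintype F]

theorem isSimpleGroup_six (hF : Fintype.card F = 2 ^ 2) : IsSimpleGroup (PSU 6 F 2) :=
  CfsgLib.Classical.Unitary.isSimpleGroup_PSU hF (by norm_num) (by omega)

theorem exists_not_commute (hF : Fintype.card F = 2 ^ 2) : ∃ a b : PSU 6 F 2, a * b ≠ b * a := by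
  obtain ⟨z, hz, -⟩ := CfsgLib.U6.exists_iso_perp_of hF (![] : Fin 0 → Fin 6 → F) (by norm_num)
  obtain ⟨P⟩ := CfsgLib.U6.exists_frame hF hz
  obtain ⟨a, ha⟩ := CfsgLib.U6.exists_pt hF hz
  obtain ⟨b, hb⟩ := CfsgLib.U6.exists_pt hF (v := P.y)
    ⟨fun h => by simpa [h, CfsgLib.U6.zero_left hF] using P.hyu, P.hyy⟩
  exact ⟨b, a, fun h => one_ne_zero (P.hyu.symm.trans ((hb.commute_iff hF ha).1 h))⟩

theorem center_six (hF : Fintype.card F = 2 ^ 2) : Subgroup.center (PSU 6 F 2) = ⊥ := by
  haveI := isSimpleGroup_six hF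
  refine (Subgroup.Normal.eq_bot_or_eq_top inferInstance).resolve_right fun h => ?_
  obtain ⟨a, b, hab⟩ := exists_not_commute hF
  exact hab (Subgroup.mem_center_iff.1 (h ▸ Subgroup.mem_top b) a)

theorem isQuasisimple_of_six {C : Type*} [Group C] (hF : Fintype.card F = 2 ^ 2) (E : Subgroup C) [E.Normal]
    (hc : E ≤ Subgroup.center C) (hd : E ≤ commutator C) (e : C ⧸ E ≃* PSU 6 F 2) :
    Cfsg.IsQuasisimple C := by
  haveI := isSimpleGroup_six hF
  let ψ : C →* PSU 6 F 2 := e.toMonoidHom.comp (QuotientGroup.mk' E)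
  have hs : Function.Surjective ψ := e.surjective.comp (QuotientGroup.mk'_surjective E)
  have hker : ψ.ker = E := by
    ext x
    show e (QuotientGroup.mk' E x) = 1 ↔ x ∈ E
    rw [MulEquiv.map_eq_one_iff, QuotientGroup.mk'_apply, QuotientGroup.eq_one_iff]
  have hP : commutator (PSU 6 F 2) = ⊤ :=
    (Subgroup.Normal.eq_bot_or_eq_top inferInstance).resolve_left fun h => by
      obtain ⟨a, b, hab⟩ := exists_not_commute hF
      refine hab (commutatorElement_eq_one_iff_mul_comm.1 (Subgroup.mem_bot.1 (h ▸ ?_)))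
      exact Subgroup.commutator_mem_commutator (Subgroup.mem_top a) (Subgroup.mem_top b)
  have hp : Group.IsPerfect C := by
    refine ⟨?_⟩
    rw [eq_top_iff]
    intro x _
    have hx : ψ x ∈ (commutator C).map ψ := by
      rw [commutator_def, Subgroup.map_commutator, Subgroup.map_top_of_surjective ψ hs, ← commutator_def, hP]
      exact Subgroup.mem_top _
    obtain ⟨y, hy, hyx⟩ := Subgroup.mem_map.1 hx
    have hk : y⁻¹ * x ∈ E := by rw [← hker, MonoidHom.mem_ker, map_mul, map_inv, hyx, inv_mul_cancel]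
    simpa using mul_mem hy (hd hk)
  have he : ψ.ker = Subgroup.center C := le_antisymm (hker.le.trans hc) fun z hz => by
    rw [MonoidHom.mem_ker, ← Subgroup.mem_bot, ← center_six hF, Subgroup.mem_center_iff]
    intro y
    obtain ⟨y, rfl⟩ := hs y
    rw [← map_mul, ← map_mul, Subgroup.mem_center_iff.1 hz y]
  let e' := (QuotientGroup.quotientMulEquivOfEq he.symm).trans (QuotientGroup.quotientKerEquivOfSurjective ψ hs)
  haveI : Nontrivial (C ⧸ Subgroup.center C) := e'.toEquiv.nontrivial
  exact ⟨hp, IsSimpleGroup.isSimpleGroup_of_surjective e'.symm.toMonoidHom e'.symm.surjective⟩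

end CfsgLib.U6Central
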