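import Cfsg.Agent.Lib.U6Central.Local
import Cfsg.Agent.Lib.ThreeTransp.SURadical.Local
import Cfsg.Agent.Lib.ThreeTransp.Basic

/-!
# The conjugates form one component of diameter two and are 3-transpositions

A conjugate at distance two from `d` commutes with exactly one lift of every point.
-/

set_option autoImplicit false
set_option linter.unusedSectionVars false

open scoped Classical

namespace CfsgLib.U6Central

open Cfsg CfsgLib.SURadical
open CfsgLib.PSUAut (Isot act)
open CfsgLib.ThreeTransp (link)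

variable {X : Type*} [Group X] {d : X} {F : Type} [Field F] [Fintype F]

/-- The conjugates at distance two. -/
def Far (d y : X) : Prop :=
  y ∈ conjugatesOf d ∧ ¬ Commute d y ∧ ∃ e ∈ link (conjugatesOf d) d, Commute e y

/-- A fixed-point count modulo two. -/
theorem card_mod_two {β : Type*} [Finite β] (σ : Equiv.Perm β) (h : σ * σ = 1) :
    Nat.card β % 2 = Nat.card {x // σ x = x} % 2 := by
  haveI := Fact.mk Nat.prime_two
  have hp : IsPGroup 2 ↥(Subgroup.zpowers σ) := by
    rintro ⟨g, k, rfl⟩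
    exact ⟨1, Subtype.ext (by
      show (σ ^ k) ^ (2 ^ 1) = 1
      rw [pow_one, ← zpow_natCast, ← zpow_mul, mul_comm, zpow_mul, zpow_natCast, pow_two, h, one_zpow])⟩
  rw [show Nat.card β % 2 = _ from hp.card_modEq_card_fixedPoints β]
  refine congrArg (· % 2) (Nat.card_congr (Equiv.subtypeEquivRight fun x => ?_))
  constructor
  · exact fun hx => hx ⟨σ, Subgroup.mem_zpowers σ⟩
  · rintro hx ⟨g, k, rfl⟩
    exact Equiv.Perm.zpow_apply_eq_self_of_apply_eq_self hx k

namespace Base

variable [Finite X] (c : Base d F)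
include c

omit [Finite X] in
theorem exists_g {s t : Cfsg.SU 4 F 2} (hs : IsT s) (ht : IsT t) :
    ∃ g : Cfsg.SU 4 F 2, g * s * g⁻¹ = t := by
  obtain ⟨u, hu⟩ := hs
  obtain ⟨v, hv⟩ := ht
  exact IsPt.exists_conj c.hF hu hv

omit [Finite X] in
/-- The image of a group of members containing all lifts of generating points is everything. -/
theorem exists_preimage {S : Set X} (hS : ∀ x ∈ S, Commute x d) {g : Cfsg.SU 4 F 2}
    (hg : g ∈ Subgroup.closure (c.img '' S)) : ∃ k ∈ Subgroup.closure S, Commute k d ∧ c.img k = g := by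
  induction hg using Subgroup.closure_induction with
  | mem _ hx => obtain ⟨k, hk, rfl⟩ := hx; exact ⟨k, Subgroup.subset_closure hk, hS k hk, rfl⟩
  | one => exact ⟨1, one_mem _, Commute.one_left _, c.img_one⟩
  | mul _ _ _ _ ih₁ ih₂ =>
    obtain ⟨a, ha, ha', rfl⟩ := ih₁
    obtain ⟨b, hb, hb', rfl⟩ := ih₂
    exact ⟨a * b, mul_mem ha hb, ha'.mul_left hb', c.img_mul ha' hb'⟩
  | inv _ _ ih =>
    obtain ⟨a, ha, ha', rfl⟩ := ih
    exact ⟨a⁻¹, inv_mem ha, ha'.inv_left, c.img_inv ha'⟩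

/-- An element commuting with the lifts over the points near two non-commuting points commutes with all. -/
theorem commute_all {v : X} {s t : Cfsg.SU 4 F 2} (hs : IsT s) (ht : IsT t) (hst : ¬ Commute s t)
    (h : ∀ x ∈ link (conjugatesOf d) d, Commute (c.img x) s ∨ Commute (c.img x) t → Commute v x) :
    ∀ x ∈ link (conjugatesOf d) d, Commute v x := by
  intro x hx
  set S := {x | x ∈ link (conjugatesOf d) d ∧ (Commute (c.img x) s ∨ Commute (c.img x) t)}
  have htop : ∀ g : Cfsg.SU 4 F 2, g ∈ Subgroup.closure (c.img '' S) := by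
    obtain ⟨u, hu⟩ := hs
    obtain ⟨w, hw⟩ := ht
    intro g
    have hg : g ∈ Subgroup.closure {t : Cfsg.SU 4 F 2 | ∃ v, IsPt t v} := by
      rw [closure_pts c.hF]; trivial
    refine (Subgroup.closure_le _).2 ?_ hg
    rintro p ⟨z, hz⟩
    refine Subgroup.closure_mono ?_ (point_mem_closure c.hF (by norm_num) hu hw hst hz)
    rintro q ⟨hq, hq'⟩
    obtain ⟨y, hy, rfl⟩ := c.exists_lift hq
    exact ⟨y, ⟨hy, hq'⟩, rfl⟩
  obtain ⟨g, hg⟩ := c.exists_g hs (c.img_pt hx)
  obtain ⟨k, hk, hkd, rfl⟩ := c.exists_preimage (fun x hx => link_comm hx.1) (htop g)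
  have hvk : Commute v k := by
    have hle : Subgroup.closure S ≤ Subgroup.centralizer ({v} : Set X) :=
      (Subgroup.closure_le _).2 fun y hy => Subgroup.mem_centralizer_singleton_iff.2 (h y hy.1 hy.2).symm.eq
    exact (Subgroup.mem_centralizer_singleton_iff.1 (hle hk)).symm
  have hk' : k⁻¹ * x * k ∈ link (conjugatesOf d) d := by simpa using c.link_conj (g := k⁻¹) hkd.inv_left hx
  have hcm : Commute (c.img (k⁻¹ * x * k)) s := by
    have e : c.img (k⁻¹ * x * k) = s := by
      rw [c.img_mul (hkd.inv_left.mul_left (link_comm hx)) hkd, c.img_mul hkd.inv_left (link_comm hx),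
        c.img_inv hkd, ← hg]
      group
    rw [e]
  have := hvk.mul_right ((h _ hk' (Or.inl hcm)).mul_right hvk.inv_right)
  rwa [show k * (k⁻¹ * x * k * k⁻¹) = x by group] at this

theorem img_sq {x : X} (hx : x ∈ link (conjugatesOf d) d) : c.img x * c.img x = 1 := by
  rw [← c.img_mul (link_comm hx) (link_comm hx), c.sq_of hx.1, c.img_one]

/-- Non-commuting members of the link braid. -/
theorem braid {x y : X} (hx : x ∈ link (conjugatesOf d) d) (hy : y ∈ link (conjugatesOf d) d)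
    (hxy : ¬ Commute x y) : x * y * x = y * x * y := by
  have hxd := link_comm hx
  have hyd := link_comm hy
  have xx := c.sq_of hx.1
  have yy := c.sq_of hy.1
  obtain ⟨u, hu⟩ := c.img_pt hx
  obtain ⟨w, hw⟩ := c.img_pt hy
  have hst : ¬ Commute (c.img x) (c.img y) := fun h => hxy ((c.commute_iff hx hy).2 h)
  have hbr : c.img x * c.img y * c.img x = c.img y * c.img x * c.img y := by
    have h0 : Cfsg.hermForm 4 F 2 w u ≠ 0 :=
      fun h => hst ((hu.commute_iff c.hF hw).2 ((comm_zero c.hF).1 h))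
    have h1 := (hu.cj c.hF hw).smul c.hF (a := Cfsg.hermForm 4 F 2 u w) fun h => h0 ((comm_zero c.hF).1 h)
    refine h1.unique c.hF ?_
    have h2 := hw.cj c.hF hu
    rwa [smul_add, smul_smul, conj_form c.hF u w, ← pow_succ',
      cube_eq_one c.hF (fun h => h0 ((comm_zero c.hF).1 h)), one_smul, add_comm]
  set p := x * y with hp
  have hpd : Commute p d := hxd.mul_left hyd
  by_contra hne
  have hu3 : p ^ 3 ≠ 1 := fun h => hne (ThreeTransp.braid_of_pow_three xx yy h)
  have him : c.img (p ^ 3) = 1 := by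
    rw [pow_succ, pow_two, c.img_mul (hpd.mul_left hpd) hpd, c.img_mul hpd hpd, hp, c.img_mul hxd hyd]
    calc c.img x * c.img y * (c.img x * c.img y) * (c.img x * c.img y)
        = (c.img x * c.img y * c.img x) * (c.img y * c.img x * c.img y) := by group
      _ = (c.img y * c.img x * c.img y) * (c.img y * c.img x * c.img y) := by rw [hbr]
      _ = 1 := by
        rw [show c.img y * c.img x * c.img y * (c.img y * c.img x * c.img y) =
          c.img y * (c.img x * ((c.img y * c.img y) * c.img x) * c.img y) by group, c.img_sq hy, one_mul,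
          c.img_sq hx, one_mul, c.img_sq hy]
  have h3d : Commute (p ^ 3) d := hpd.pow_left 3
  obtain ⟨j, hj⟩ := c.ker_two ⟨⟨p ^ 3, mem_cent.2 h3d⟩, (c.img_eq _).symm.trans him⟩
  have hj' : (p ^ 3) ^ 2 ^ j = 1 := congrArg (fun w => ((w.1 : _) : X)) hj
  obtain ⟨k, hk, hk'⟩ : ∃ k, (p ^ 3) ^ 2 ^ k ≠ 1 ∧ (p ^ 3) ^ 2 ^ (k + 1) = 1 := by
    have hex : ∃ i, (p ^ 3) ^ 2 ^ i = 1 := ⟨j, hj'⟩
    cases hi : Nat.find hex with
    | zero => exact absurd (by have := Nat.find_spec hex; rwa [hi, pow_zero, pow_one] at this) hu3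
    | succ i => exact ⟨i, Nat.find_min hex (by omega), hi ▸ Nat.find_spec hex⟩
  set v := p ^ (3 * 2 ^ k) with hv
  have hv1 : v ≠ 1 := by rw [hv, pow_mul]; exact hk
  have hvv : v * v = 1 := by
    rw [hv, pow_mul, ← pow_two, ← pow_mul, ← pow_succ]; exact hk'
  have hvinv : v⁻¹ = v := inv_eq_of_mul_eq_one_left hvv
  have hvd : Commute v d := hpd.pow_left _
  have hvim : c.img v = 1 := by
    have hpow : ∀ m : ℕ, c.img ((p ^ 3) ^ m) = 1 := by
      intro m
      induction m with
      | zero => rw [pow_zero, c.img_one]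
      | succ m ih => rw [pow_succ, c.img_mul (h3d.pow_left m) h3d, ih, him, one_mul]
    rw [hv, pow_mul]; exact hpow _
  have conjpow : ∀ m : ℕ, x * p ^ m * x⁻¹ = (p ^ m)⁻¹ := by
    intro m
    rw [← inv_pow, ← conj_pow, hp]
    congr 1
    rw [mul_inv_rev, c.inv_of hx.1, c.inv_of hy.1, ← mul_assoc, xx, one_mul]
  have hvx : Commute v x := by
    have e := conjpow (3 * 2 ^ k)
    rw [← hv, hvinv] at e
    exact (mul_inv_eq_iff_eq_mul.1 e).symm
  have hvy : Commute v y := by
    have hpv : Commute v p := (Commute.refl p).pow_left _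
    have := (hvx.mul_right hpv)
    rwa [hp, ← mul_assoc, xx, one_mul] at this
  -- `x v` and `y v` are conjugates
  have cls : ∀ m : ℕ, x * p ^ m ∈ conjugatesOf d := by
    intro m
    rcases Nat.even_or_odd m with ⟨i, rfl⟩ | ⟨i, rfl⟩
    · have e : x * p ^ (i + i) = (p ^ i)⁻¹ * x * p ^ i := by
        rw [← conjpow i, c.inv_of hx.1, pow_add]
        simp [mul_assoc, xx]
      rw [e]
      simpa using c.conj_mem (g := (p ^ i)⁻¹) hx.1
    · have e : x * p ^ (2 * i + 1) = (p ^ i)⁻¹ * y * p ^ i := by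
        rw [← conjpow i, c.inv_of hx.1, two_mul, pow_add, pow_add, pow_one]
        calc x * (p ^ i * p ^ i * p) = x * p ^ i * (p * p ^ i) := by rw [mul_assoc x, (Commute.refl p).pow_right i |>.eq, mul_assoc (p ^ i)]
          _ = x * p ^ i * x * y * p ^ i := by simp only [hp, mul_assoc]
      rw [e]
      simpa using c.conj_mem (g := (p ^ i)⁻¹) hy.1
  have hxv : x * v ∈ link (conjugatesOf d) d := by
    refine ⟨cls _, fun e => ?_, (hxd.mul_left hvd).symm⟩
    have e' : v = x * d := by rw [← e, ← mul_assoc, xx, one_mul]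
    have h1 := hvim
    rw [e', c.img_mul hxd (Commute.refl d)] at h1
    have hd' : c.img d = c.img x := by
      have h2 := congrArg (c.img x * ·) h1
      simpa [← mul_assoc, c.img_sq hx] using h2
    refine hst ?_
    rw [← hd']
    rw [c.img_eq (mem_cent.2 (Commute.refl d)), c.img_eq (mem_cent.2 hyd)]
    exact (show Commute (⟨d, mem_cent.2 (Commute.refl d)⟩ : ↥(Subgroup.centralizer ({d} : Set X)))
      ⟨y, mem_cent.2 hyd⟩ from Subtype.ext hyd.symm.eq).map c.π
  have hyv : y * v ∈ link (conjugatesOf d) d := by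
    have e0 : y * v = x * p ^ (3 * 2 ^ k + 1) := by
      rw [hvy.symm.eq, pow_succ, ← hv, hp, ← mul_assoc, ← mul_assoc, hvx.symm.eq, mul_assoc v x x, xx, mul_one]
    refine ⟨e0 ▸ cls _, fun e => ?_, (hyd.mul_left hvd).symm⟩
    have e' : v = y * d := by rw [← e, ← mul_assoc, yy, one_mul]
    have h1 := hvim
    rw [e', c.img_mul hyd (Commute.refl d)] at h1
    have hd' : c.img d = c.img y := by
      have h2 := congrArg (c.img y * ·) h1
      simpa [← mul_assoc, c.img_sq hy] using h2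
    refine hst ?_
    rw [← hd']
    rw [c.img_eq (mem_cent.2 (Commute.refl d)), c.img_eq (mem_cent.2 hxd)]
    exact (show Commute (⟨x, mem_cent.2 hxd⟩ : ↥(Subgroup.centralizer ({d} : Set X)))
      ⟨d, mem_cent.2 (Commute.refl d)⟩ from Subtype.ext hxd.eq).map c.π
  have all : ∀ z ∈ link (conjugatesOf d) d, Commute v z := by
    refine c.commute_all (c.img_pt hx) (c.img_pt hy) hst fun z hz hcase => ?_
    rcases hcase with h | h
    · have h1 := (c.commute_iff hz hx).2 h
      have h2 := (c.commute_iff hz hxv).2 (by rw [c.img_mul hxd hvd, hvim, mul_one]; exact h)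
      have := h1.mul_right h2
      rwa [← mul_assoc, xx, one_mul, Commute.symm_iff] at this
    · have h1 := (c.commute_iff hz hy).2 h
      have h2 := (c.commute_iff hz hyv).2 (by rw [c.img_mul hyd hvd, hvim, mul_one]; exact h)
      have := h1.mul_right h2
      rwa [← mul_assoc, yy, one_mul, Commute.symm_iff] at this
  rcases c.faithful v hvd all with e | e
  · exact hv1 e
  · exact c.mul_notMem x hx (e ▸ hxv.1)

theorem img_ne_of_line {a b : X} (ha : a ∈ link (conjugatesOf d) d) (hb : b ∈ link (conjugatesOf d) d)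
    (hab : Commute a b) (hne : c.img a ≠ c.img b) :
    (c.here ha.1).img b ≠ (c.here ha.1).img d := by
  intro h
  have hb' := c.mem_here ha.1 hb.1 (fun e => hne (congrArg c.img e).symm) hab
  have hd' := c.mem_here ha.1 (IsConj.refl d) ha.2.1.symm (link_comm ha)
  have h1 := ((c.here ha.1).same_iff hb' hd').1 h
  rw [c.cl ha.1] at hb'
  unfold nb at h1
  rw [c.cl ha.1] at h1
  change nb d a b = nb d a d at h1
  have h2 := c.line_symm ha.1 (IsConj.refl d) hb.1 ha.2.1 hb.2.1 (link_comm ha) hb.2.2 h1.symm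
  exact hne ((c.same_iff ha hb).2 (by rw [c.nb_comm d a]; exact h2))

theorem nb_conv {a b b' : X} (ha : a ∈ conjugatesOf d) (h : nb a a b = nb a a b') : nb d a b = nb d a b' := by
  rwa [c.nb_here ha, c.nb_here ha] at h

theorem img_ne_of_fib {a b b' : X} (ha : a ∈ link (conjugatesOf d) d) (hb : b ∈ link (conjugatesOf d) d)
    (hb' : b' ∈ link (conjugatesOf d) d) (hab : Commute a b) (hab' : Commute a b') (hne : c.img a ≠ c.img b)
    (hbb : b ≠ b') (he : c.img b = c.img b') : (c.here ha.1).img b ≠ (c.here ha.1).img b' := by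
  intro h
  have hna : b ≠ a := fun e => hne (by rw [e])
  have hna' : b' ≠ a := fun e => hne (by rw [he, e])
  have h1 := c.nb_conv ha.1 (((c.here ha.1).same_iff (c.mem_here ha.1 hb.1 hna hab)
    (c.mem_here ha.1 hb'.1 hna' hab')).1 h)
  have hbc : Commute b b' := (c.commute_iff hb hb').2 (by rw [he])
  have h2 := c.line_symm ha.1 hb.1 hb'.1 hna.symm hbb.symm hab hbc h1
  have h3 := c.line_symm (IsConj.refl d) hb.1 hb'.1 hb.2.1.symm hbb.symm hb.2.2 hbc ((c.same_iff hb hb').1 he)
  have h4 : nb d b a = nb d b d := by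
    rw [c.nb_comm b a, h2, ← h3, c.nb_comm b d]
  have h5 := c.line_symm hb.1 ha.1 (IsConj.refl d) hna ha.2.1.symm hab.symm (link_comm ha) h4
  refine hne ((c.same_iff ha hb).2 ?_)
  rw [c.nb_comm d a, c.nb_comm d b, ← h4, ← h5]

/-- The lifts of a point other than that of `a` go to a line through the point of `d` at `a`. -/
theorem line_image {a : X} (ha : a ∈ link (conjugatesOf d) d) {t : Cfsg.SU 4 F 2} (ht : IsT t)
    (hc : Commute (c.img a) t) (hne : c.img a ≠ t) :
    4 ≤ ((c.here ha.1).img '' c.fib t).ncard := by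
  rw [Set.InjOn.ncard_image, c.fib_ncard ht]
  intro b hb b' hb' e
  by_contra hbb
  exact c.img_ne_of_fib ha hb.1 hb'.1 ((c.commute_iff ha hb.1).2 (hb.2.symm ▸ hc))
    ((c.commute_iff ha hb'.1).2 (hb'.2.symm ▸ hc)) (hb.2.symm ▸ hne) hbb (hb.2.trans hb'.2.symm) e

theorem step {y e : X} (hy : y ∈ conjugatesOf d) (hdy : ¬ Commute d y) (he : e ∈ link (conjugatesOf d) d)
    (hey : Commute e y) {t : Cfsg.SU 4 F 2} (ht : IsT t) (hc : Commute (c.img e) t) (hne : c.img e ≠ t) :
    ∃ a ∈ c.fib t, Commute a y := by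
  have hye : y ≠ e := fun h => hdy (h ▸ he.2.2)
  have hyl := c.mem_here he.1 hy hye hey
  have hdl := c.mem_here he.1 (IsConj.refl d) he.2.1.symm (link_comm he)
  have hfl : ∀ {b}, b ∈ c.fib t → b ∈ link (conjugatesOf e) e := fun {b} hb =>
    c.mem_here he.1 hb.1.1 (fun h => hne (by rw [← hb.2, h])) ((c.commute_iff he hb.1).2 (hb.2.symm ▸ hc))
  obtain ⟨u, hu⟩ := (c.here he.1).img_pt hdl
  obtain ⟨v, hv⟩ := (c.here he.1).img_pt hyl
  obtain ⟨_, ⟨a, ha, rfl⟩, hs⟩ := line_exists c.hF hu hv (fun h => hdy (((c.here he.1).commute_iff hdl hyl).2 h))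
    (S := (c.here he.1).img '' c.fib t) (by rintro _ ⟨b, hb, rfl⟩; exact (c.here he.1).img_pt (hfl hb))
    (by rintro _ ⟨b, hb, rfl⟩
        refine ⟨((c.here he.1).commute_iff hdl (hfl hb)).1 hb.1.2.2, ?_⟩
        exact c.img_ne_of_line he hb.1 ((c.commute_iff he hb.1).2 (hb.2.symm ▸ hc)) (hb.2.symm ▸ hne))
    (by rintro _ ⟨b, hb, rfl⟩ _ ⟨b', hb', rfl⟩
        exact ((c.here he.1).commute_iff (hfl hb) (hfl hb')).1
          ((c.commute_iff hb.1 hb'.1).2 (by rw [hb.2, hb'.2])))
    (c.line_image he ht hc hne)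
  exact ⟨a, ha, ((c.here he.1).commute_iff (hfl ha) hyl).2 hs⟩

/-- A member at distance two commutes with exactly one lift of every point. -/
theorem meet {y : X} (hy : Far d y) {t : Cfsg.SU 4 F 2} (ht : IsT t) : ∃! a, a ∈ c.fib t ∧ Commute a y := by
  obtain ⟨hy, hdy, e, he, hey⟩ := hy
  obtain ⟨a, ha, hay⟩ : ∃ a ∈ c.fib t, Commute a y := by
    by_cases h0 : c.img e = t
    · exact ⟨e, ⟨he, h0⟩, hey⟩
    by_cases hc : Commute (c.img e) t
    · exact c.step hy hdy he hey ht hc h0
    obtain ⟨u, hu⟩ := c.img_pt he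
    obtain ⟨v, hv⟩ := ht
    obtain ⟨r, w, hr, hre, hrt⟩ := exists_common c.hF hu hv hc
    obtain ⟨b, ⟨hb, hbr⟩, hby⟩ := c.step hy hdy he hey ⟨w, hr⟩ hre.symm
      (fun h => hc (h.symm ▸ hrt))
    refine c.step hy hdy hb hby ⟨v, hv⟩ (hbr.symm ▸ hrt) fun h => hc ?_
    rw [← h, hbr]; exact hre.symm
  refine ⟨a, ⟨ha, hay⟩, ?_⟩
  rintro b ⟨hb, hby⟩
  by_contra hne
  have hab : Commute a b := (c.commute_iff ha.1 hb.1).2 (by rw [ha.2, hb.2])
  have h1 := c.line_symm (IsConj.refl d) ha.1.1 hb.1.1 ha.1.2.1.symm hne ha.1.2.2 hab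
    ((c.same_iff ha.1 hb.1).1 (ha.2.trans hb.2.symm))
  have : y ∈ nb d a b := ⟨hy, hay.symm, hby.symm⟩
  rw [← h1] at this
  exact hdy this.2.1.symm

/-- The common neighbour over a point. -/
noncomputable def sec {y : X} (hy : Far d y) {t : Cfsg.SU 4 F 2} (ht : IsT t) : X :=
  (c.meet hy ht).exists.choose

theorem sec_spec {y : X} (hy : Far d y) {t : Cfsg.SU 4 F 2} (ht : IsT t) :
    c.sec hy ht ∈ c.fib t ∧ Commute (c.sec hy ht) y :=
  (c.meet hy ht).exists.choose_spec

theorem sec_eq {y a : X} (hy : Far d y) {t : Cfsg.SU 4 F 2} (ht : IsT t) (ha : a ∈ c.fib t) (h : Commute a y) :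
    c.sec hy ht = a :=
  (c.meet hy ht).unique (c.sec_spec hy ht) ⟨ha, h⟩

/-- The common neighbours of `d` and `y` go one to one onto the points at `y`. -/
theorem sec_surj {y : X} (hy : Far d y) {s : Cfsg.SU 4 F 2} (hs : IsT s) :
    ∃ (t : Cfsg.SU 4 F 2) (ht : IsT t), (c.here hy.1).img (c.sec hy ht) = s := by
  have hl : ∀ {t} (ht : IsT t), c.sec hy ht ∈ link (conjugatesOf y) y := fun {t} ht =>
    c.mem_here hy.1 (c.sec_spec hy ht).1.1.1 (fun h => hy.2.1 (h ▸ (c.sec_spec hy ht).1.1.2.2))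
      (c.sec_spec hy ht).2.symm
  let f : {t : Cfsg.SU 4 F 2 // IsT t} → {t : Cfsg.SU 4 F 2 // IsT t} := fun t =>
    ⟨(c.here hy.1).img (c.sec hy t.2), (c.here hy.1).img_pt (hl t.2)⟩
  have hf : Function.Injective f := by
    intro t t' e
    by_contra hne
    set a := c.sec hy t.2
    set b := c.sec hy t'.2
    have hab' : a ≠ b := fun h => hne (Subtype.ext (by
      rw [← (c.sec_spec hy t.2).1.2, ← (c.sec_spec hy t'.2).1.2]; exact congrArg c.img h))
    have e' : (c.here hy.1).img a = (c.here hy.1).img b := congrArg Subtype.val e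
    have h1 := c.nb_conv hy.1 (((c.here hy.1).same_iff (hl t.2) (hl t'.2)).1 e')
    have hab : Commute a b := ((c.here hy.1).commute_iff (hl t.2) (hl t'.2)).2 (by rw [e'])
    have ha := (c.sec_spec hy t.2).1.1
    have h2 := c.line_symm hy.1 ha.1 (c.sec_spec hy t'.2).1.1.1 (fun h => hy.2.1 (h.symm ▸ ha.2.2)) hab'.symm
      (c.sec_spec hy t.2).2.symm hab h1
    have : d ∈ nb d a b := ⟨IsConj.refl d, ha.2.2, (c.sec_spec hy t'.2).1.1.2.2⟩
    rw [← h2] at this
    exact hy.2.1 this.2.1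
  obtain ⟨t, ht⟩ := Finite.injective_iff_surjective.1 hf ⟨s, hs⟩
  exact ⟨t.1, t.2, congrArg Subtype.val ht⟩

theorem linked_cases {x : X} (h : Linked d x) : x = d ∨ x ∈ link (conjugatesOf d) d ∨ Far d x := by
  induction h with
  | refl => exact Or.inl rfl
  | @tail a b _ hab ih =>
    by_cases hb : b = d
    · exact Or.inl hb
    by_cases hdb : Commute d b
    · exact Or.inr (Or.inl ⟨hab.1, hb, hdb⟩)
    refine Or.inr (Or.inr ⟨hab.1, hdb, ?_⟩)
    rcases ih with rfl | ha | ha
    · exact absurd hab.2 hdb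
    · exact ⟨a, ha, hab.2⟩
    · by_cases hne : b = a
      · subst hne
        exact ha.2.2
      have hbl := c.mem_here ha.1 hab.1 hne hab.2
      obtain ⟨t, ht, e⟩ := c.sec_surj ha ((c.here ha.1).img_pt hbl)
      have hs := c.sec_spec ha ht
      have hsl := c.mem_here ha.1 hs.1.1.1 (fun h => ha.2.1 (h ▸ hs.1.1.2.2)) hs.2.symm
      exact ⟨_, hs.1.1, ((c.here ha.1).commute_iff hsl hbl).2 (by rw [e])⟩

end Base

end CfsgLib.U6Central
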