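import Cfsg.Agent.Lib.U6Central.Whole
import Cfsg.Agent.Lib.USixType.Geom

/-!
# One component

The middle of a product of even order of two conjugates of `d` is a product of two commuting ones.  So conjugates
in different components have products of odd order and are conjugate in the centraliser of every involution
commuting with both, against the shapes of the involutions commuting with `d`.
-/

set_option autoImplicit false
set_option linter.unusedSectionVars false

open scoped Classical

namespace CfsgLib.U6Central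

open Cfsg CfsgLib.SURadical
open CfsgLib.PSUAut (Isot act)
open CfsgLib.ThreeTransp (link)

variable {X : Type*} [Group X] {d : X} {F : Type} [Field F] [Fintype F]

/-- The centraliser of a product of `d` and a commuting conjugate fixes the two. -/
def PairFix (d : X) : Prop :=
  ∀ e ∈ link (conjugatesOf d) d, ∀ g : X, Commute g (d * e) → g * d * g⁻¹ = d ∨ g * d * g⁻¹ = e

namespace Base

variable [Finite X] (c : Base d F)
include c

/-- The shapes of the involutions commuting with `d`. -/
def Split : Prop :=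
  ∀ w : X, w * w = 1 → w ≠ 1 → Commute w d → w ∈ conjugatesOf d ∨
    (∃ a b, a ∈ conjugatesOf d ∧ b ∈ conjugatesOf d ∧ a ≠ b ∧ Commute a b ∧ w = a * b) ∨
    ∃ x x' a b u b₀ b₁, (x = d ∨ x ∈ link (conjugatesOf d) d) ∧ (x' = d ∨ x' ∈ link (conjugatesOf d) d) ∧
      Commute x w ∧ Commute x' w ∧ a ∈ conjugatesOf d ∧ b ∈ conjugatesOf d ∧ a ≠ b ∧ Commute a b ∧ x * w = a * b ∧
      u ∈ link (conjugatesOf d) d ∧ b₀ ∈ link (conjugatesOf d) d ∧ b₁ ∈ link (conjugatesOf d) d ∧
      c.img b₀ = c.img b₁ ∧ b₀ ≠ b₁ ∧ Commute (c.img u) (c.img b₀) ∧ c.img u ≠ c.img b₀ ∧ x' * w = u * b₀ * b₁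

theorem base_img_d : c.img d = 1 := by
  refine CfsgLib.USixType.center_eq_one c.hF fun x hx => ?_
  obtain ⟨a, ha, rfl⟩ := c.exists_lift hx
  rw [c.img_eq (mem_cent.2 (Commute.refl d)), c.img_eq (mem_cent.2 (link_comm ha))]
  exact (show Commute (⟨d, mem_cent.2 (Commute.refl d)⟩ : ↥(Subgroup.centralizer ({d} : Set X)))
    ⟨a, mem_cent.2 (link_comm ha)⟩ from Subtype.ext (link_comm ha).symm.eq).map c.π

/-- A product of two commuting conjugates determines them among those commuting with one of them. -/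
theorem pair_unique_of_comm {a a' f g : X} (ha : a ∈ conjugatesOf d) (ha' : a' ∈ conjugatesOf d)
    (hf : f ∈ conjugatesOf d) (hg : g ∈ conjugatesOf d) (hne : a' ≠ a) (h : a * a' = f * g) (haa : Commute a a')
    (haf : Commute a f) (hag : Commute a g) (hfg : Commute f g) : a = f ∨ a = g := by
  by_contra hc
  obtain ⟨hcf, hcg⟩ := not_or.1 hc
  have hl' := c.mem_here ha ha' hne haa
  have hlf := c.mem_here ha hf (Ne.symm hcf) haf
  have hlg := c.mem_here ha hg (Ne.symm hcg) hag
  have e := congrArg (c.here ha).img h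
  rw [(c.here ha).img_mul (Commute.refl a) haa.symm, (c.here ha).base_img_d, one_mul,
    (c.here ha).img_mul haf.symm hag.symm] at e
  obtain ⟨p, hp⟩ := (c.here ha).img_pt hl'
  obtain ⟨q, hq⟩ := (c.here ha).img_pt hlf
  obtain ⟨r, hr⟩ := (c.here ha).img_pt hlg
  rw [e] at hp
  exact CfsgLib.USixType.not_pt_mul c.hF hq hr (((c.here ha).commute_iff hlf hlg).1 hfg) hp

theorem pair_at (hP : PairFix d) {a b : X} (ha : a ∈ conjugatesOf d) (hb : b ∈ conjugatesOf d) (hne : a ≠ b)
    (hab : Commute a b) {g : X} (hg : Commute g (a * b)) : g * a * g⁻¹ = a ∨ g * a * g⁻¹ = b := by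
  obtain ⟨k, rfl⟩ := isConj_iff.1 ha
  have hc : ∀ {x y : X}, Commute x y → Commute (k⁻¹ * x * k) (k⁻¹ * y * k) := fun {x y} h => by
    simpa using h.map (MulAut.conj k⁻¹).toMonoidHom
  have hd : k⁻¹ * (k * d * k⁻¹) * k = d := by group
  have he : k⁻¹ * b * k ∈ link (conjugatesOf d) d := by
    refine ⟨hb.trans (isConj_iff.2 ⟨k⁻¹, by group⟩), fun e => hne ?_, hd ▸ hc hab⟩
    calc k * d * k⁻¹ = k * (k⁻¹ * b * k) * k⁻¹ := by rw [e]
      _ = b := by group
  have hg' : Commute (k⁻¹ * g * k) (d * (k⁻¹ * b * k)) := by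
    have := hc hg
    rwa [show k⁻¹ * (k * d * k⁻¹ * b) * k = d * (k⁻¹ * b * k) by group] at this
  have e0 : g * (k * d * k⁻¹) * g⁻¹ = k * (k⁻¹ * g * k * d * (k⁻¹ * g * k)⁻¹) * k⁻¹ := by group
  rcases hP _ he _ hg' with e | e
  · exact .inl (by rw [e0, e])
  · exact .inr (by rw [e0, e]; group)

/-- A conjugate centralising a product of two commuting ones is in their component. -/
theorem linked_of_pair (hP : PairFix d) {a b y : X} (ha : a ∈ conjugatesOf d) (hb : b ∈ conjugatesOf d)
    (hne : a ≠ b) (hab : Commute a b) (hy : y ∈ conjugatesOf d) (hyab : Commute y (a * b)) : Linked a y := by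
  have hl : Linked a (y * a * y⁻¹) := by
    rcases c.pair_at hP ha hb hne hab hyab with e | e
    · rw [e]; exact .refl
    · rw [e]; exact .single ⟨by rw [c.cl ha]; exact hb, hab⟩
  obtain ⟨m, hm, hym⟩ := (c.here ha).exists_fixed (c.sq_of hy) hl
  exact .tail hm ⟨by rw [c.cl ha]; exact hy, hym.symm⟩

/-- A conjugate times a power of a product. -/
theorem mul_pow_mem {x y : X} (hx : x ∈ conjugatesOf d) (hy : y ∈ conjugatesOf d) (m : ℕ) :
    x * (x * y) ^ m ∈ conjugatesOf d := by
  have xx := c.sq_of hx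
  have conjpow : ∀ i : ℕ, x * (x * y) ^ i * x = ((x * y) ^ i)⁻¹ := fun i => by
    rw [semiconj_pow xx (c.sq_of hy), mul_assoc, xx, mul_one]
  rcases Nat.even_or_odd m with ⟨i, rfl⟩ | ⟨i, rfl⟩
  · have e : x * (x * y) ^ (i + i) = ((x * y) ^ i)⁻¹ * x * (x * y) ^ i := by
      rw [← semiconj_pow xx (c.sq_of hy), pow_add, mul_assoc]
    rw [e]
    simpa using c.conj_mem (g := ((x * y) ^ i)⁻¹) hx
  · have e : x * (x * y) ^ (2 * i + 1) = ((x * y) ^ i)⁻¹ * y * (x * y) ^ i := by
      rw [← conjpow i, two_mul, pow_add, pow_add, pow_one]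
      calc x * ((x * y) ^ i * (x * y) ^ i * (x * y))
          = x * (x * y) ^ i * ((x * y) * (x * y) ^ i) := by
            rw [mul_assoc ((x * y) ^ i), ((Commute.refl (x * y)).pow_left i).eq]
            simp only [← mul_assoc]
        _ = x * (x * y) ^ i * x * y * (x * y) ^ i := by simp only [← mul_assoc]
    rw [e]
    simpa using c.conj_mem (g := ((x * y) ^ i)⁻¹) hy

/-- Conjugates in different components have products of odd order. -/
theorem odd_of_not_linked (hP : PairFix d) {x y : X} (hx : x ∈ conjugatesOf d) (hy : y ∈ conjugatesOf d)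
    (h : ¬ Linked x y) : Odd (orderOf (x * y)) := by
  rcases Nat.even_or_odd (orderOf (x * y)) with ⟨m, hm⟩ | ho
  swap
  · exact ho
  have hm0 : 0 < m := by
    have := orderOf_pos (x * y)
    omega
  obtain ⟨hi2, hxi, hyi⟩ := mid_props (c.sq_of hx) (c.sq_of hy) hm0 hm
  set i := (x * y) ^ m
  refine absurd (c.linked_of_pair hP hx (c.mul_pow_mem hx hy m) ?_ ((Commute.refl x).mul_right hxi) hy ?_) h
  · intro e
    have : i = 1 := mul_left_cancel (e.symm.trans (mul_one x).symm)
    rw [this, orderOf_one] at hi2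
    omega
  · show Commute y (x * (x * i))
    rw [← mul_assoc, c.sq_of hx, one_mul]
    exact hyi

variable (hline : ∀ a ∈ link (conjugatesOf d) d, ∀ b ∈ link (conjugatesOf d) d, ∀ e ∈ link (conjugatesOf d) d,
  ∀ f ∈ link (conjugatesOf d) d, [a, b, e, f].Nodup → c.img a = c.img b → c.img a = c.img e → c.img a = c.img f →
    a * b * e * f = d)

include hline in
/-- Three conjugates, two over one point and one over an orthogonal one, multiply to no pair. -/
theorem not_pair (hP : PairFix d) {u b b' : X} (hu : u ∈ link (conjugatesOf d) d)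
    (hb : b ∈ link (conjugatesOf d) d) (hb' : b' ∈ link (conjugatesOf d) d) (he : c.img b = c.img b')
    (hbb : b ≠ b') (hub : Commute (c.img u) (c.img b)) (hne : c.img u ≠ c.img b) {a a' : X}
    (ha : a ∈ conjugatesOf d) (ha' : a' ∈ conjugatesOf d) (haa : a ≠ a') (hc : Commute a a') :
    u * b * b' ≠ a * a' := by
  intro h
  have hbc : Commute b b' := (c.commute_iff hb hb').2 (by rw [he])
  have hdw : Commute d (a * a') := by
    rw [← h]
    exact (hu.2.2.mul_right hb.2.2).mul_right hb'.2.2
  have hla : Linked a d := c.linked_of_pair hP ha ha' haa hc (IsConj.refl d) hdw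
  have hdl : Linked d a := linked_symm hla
  have hdd : d⁻¹ = d := c.inv_of (IsConj.refl d)
  have hda : Commute d a := by
    by_contra hnd
    rcases c.linked_cases hdl with e | e | e
    · exact hnd (by rw [e])
    · exact hnd e.2.2
    rcases c.pair_at hP ha ha' haa hc hdw with e' | e'
    · exact hnd (mul_inv_eq_iff_eq_mul.1 e')
    · rw [hdd, c.braid_far e] at e'
      refine hnd ?_
      have h1 : a * (a * d * a) = a * d * a * a := by rw [e']; exact hc.eq
      rw [← mul_assoc, ← mul_assoc, c.sq_of ha, one_mul, mul_assoc (a * d), c.sq_of ha, mul_one] at h1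
      exact h1
  have hda' : Commute d a' := by
    have e : a' = a * (a * a') := by rw [← mul_assoc, c.sq_of ha, one_mul]
    rw [e]
    exact hda.mul_right hdw
  have himg : c.img (a * a') = c.img u := by
    rw [← h, c.img_mul ((link_comm hu).mul_left (link_comm hb)) (link_comm hb'),
      c.img_mul (link_comm hu) (link_comm hb), mul_assoc, ← he, c.img_sq hb, mul_one]
  -- the case `a = d`
  have key : ∀ {a'}, a' ∈ conjugatesOf d → a' ≠ d → Commute d a' → u * b * b' = d * a' → False := by
    intro a' ha' hd' hca' h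
    have hl : a' ∈ link (conjugatesOf d) d := ⟨ha', hd', hca'⟩
    have himg' : c.img a' = c.img u := by
      have e := congrArg c.img h
      rw [c.img_mul (Commute.refl d) hca'.symm, c.base_img_d, one_mul,
        c.img_mul ((link_comm hu).mul_left (link_comm hb)) (link_comm hb'),
        c.img_mul (link_comm hu) (link_comm hb), mul_assoc, ← he, c.img_sq hb, mul_one] at e
      exact e.symm
    have hbb' : b * b' = u * (d * a') := by
      rw [← h, mul_assoc u b b', ← mul_assoc u u, c.sq_of hu.1, one_mul]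
    by_cases hau : a' = u
    · rw [hau, ← mul_assoc, ← hu.2.2.eq, mul_assoc, c.sq_of hu.1, mul_one] at hbb'
      refine c.mul_notMem b hb ?_
      rw [show b * d = b' by rw [← hbb', ← mul_assoc, c.sq_of hb.1, one_mul]]
      exact hb'.1
    have hS : (c.fib (c.img u) \ {u, a'}).ncard = 2 := by
      have hsub : ({u, a'} : Set X) ⊆ c.fib (c.img u) := by
        rintro x (rfl | rfl)
        · exact ⟨hu, rfl⟩
        · exact ⟨hl, himg'⟩
      rw [Set.ncard_sdiff hsub, c.fib_ncard (c.img_pt hu), Set.ncard_pair (Ne.symm hau)]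
    obtain ⟨f, g, hfg, hfgS⟩ := Set.ncard_eq_two.1 hS
    obtain ⟨⟨hf, hfi⟩, hf'⟩ : f ∈ c.fib (c.img u) \ {u, a'} := by rw [hfgS]; simp
    obtain ⟨⟨hg, hgi⟩, hg'⟩ : g ∈ c.fib (c.img u) \ {u, a'} := by rw [hfgS]; simp
    simp only [Set.mem_insert_iff, Set.mem_singleton_iff, not_or] at hf' hg'
    have hl4 := hline u hu a' hl f hf g hg (by
      simp [Ne.symm hau, Ne.symm hf'.1, Ne.symm hg'.1, Ne.symm hf'.2, Ne.symm hg'.2, hfg]) himg'.symm hfi.symm
      hgi.symm
    have hua : Commute u a' := (c.commute_iff hu hl).2 (by rw [himg'])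
    have hfgeq : b * b' = f * g := by
      rw [hbb']
      have : f * g = a' * u * d := by
        calc f * g = (a' * (u * u) * a') * (f * g) := by rw [c.sq_of hu.1, mul_one, c.sq_of ha', one_mul]
          _ = a' * u * (u * a' * f * g) := by group
          _ = a' * u * d := by rw [hl4]
      rw [this, hca'.eq, ← mul_assoc, hua.eq]
    have hbcomm : ∀ {x}, x ∈ link (conjugatesOf d) d → c.img x = c.img u → Commute b x := fun hx hxi =>
      (c.commute_iff hb hx).2 (by rw [hxi]; exact hub.symm)
    rcases c.pair_unique_of_comm hb.1 hb'.1 hf.1 hg.1 (Ne.symm hbb) hfgeq hbc (hbcomm hf hfi) (hbcomm hg hgi)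
      ((c.commute_iff hf hg).2 (by rw [hfi, hgi])) with e | e
    · exact hne (by rw [e, hfi])
    · exact hne (by rw [e, hgi])
  by_cases had : a = d
  · subst had
    exact key ha' (Ne.symm haa) hc h
  by_cases had' : a' = d
  · subst had'
    exact key ha had hda (h.trans hc.eq)
  have hla' : a ∈ link (conjugatesOf d) d := ⟨ha, had, hda⟩
  have hla'' : a' ∈ link (conjugatesOf d) d := ⟨ha', had', hda'⟩
  obtain ⟨p, hp⟩ := c.img_pt hla'
  obtain ⟨q, hq⟩ := c.img_pt hla''
  obtain ⟨r, hr⟩ := c.img_pt hu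
  rw [← himg, c.img_mul (link_comm hla') (link_comm hla'')] at hr
  exact CfsgLib.USixType.not_pt_mul c.hF hp hq ((c.commute_iff hla' hla'').1 hc) hr

include hline in
/-- An involution commuting with `d` commutes with no conjugate outside the component. -/
theorem no_mixed (hP : PairFix d) (hS : c.Split) {w y : X} (hw : w * w = 1) (hw1 : w ≠ 1) (hwd : Commute w d)
    (hy : y ∈ conjugatesOf d) (hwy : Commute w y) : Linked d y := by
  by_contra hn
  rcases hS w hw hw1 hwd with h | ⟨a, b, ha, hb, hab, hc, rfl⟩ |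
    ⟨x, x', a, b, u, b₀, b₁, hx, hx', hxw, hx'w, ha, hb, hab, hc, hxe, hu, hb₀, hb₁, hi, hne, hub, hne', hx'e⟩
  · exact hn (.tail (.single ⟨h, hwd.symm⟩) ⟨hy, hwy⟩)
  · exact hn (linked_trans (linked_symm (c.linked_of_pair hP ha hb hab hc (IsConj.refl d) hwd.symm))
      (c.linked_of_pair hP ha hb hab hc hy hwy.symm))
  · have conj_y : ∀ x : X, (x = d ∨ x ∈ link (conjugatesOf d) d) → Commute x w →
        ∃ g : X, Commute g w ∧ g * x * g⁻¹ = y := by
      intro x hx hxw
      obtain ⟨hxD, hlx⟩ : x ∈ conjugatesOf d ∧ Linked d x := by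
        rcases hx with rfl | hx
        · exact ⟨IsConj.refl _, .refl⟩
        · exact ⟨hx.1, .single ⟨hx.1, hx.2.2⟩⟩
      obtain ⟨k, hk⟩ := c.odd_of_not_linked hP hxD hy fun e => hn (linked_trans hlx e)
      refine ⟨(x * y) ^ k, (hxw.mul_left hwy.symm).pow_left k, conj_of_odd (c.sq_of hxD) (c.sq_of hy) ?_⟩
      rw [← hk]
      exact pow_orderOf_eq_one _
    obtain ⟨g, hg, hgx⟩ := conj_y x hx hxw
    obtain ⟨g', hg', hgx'⟩ := conj_y x' hx' hx'w
    set t := g'⁻¹ * g
    have ht : Commute t w := hg'.inv_left.mul_left hg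
    have hconj : t * (x * w) * t⁻¹ = x' * w := by
      have e1 : t * x * t⁻¹ = x' := by
        rw [show t * x * t⁻¹ = g'⁻¹ * (g * x * g⁻¹) * g' by simp only [t, mul_inv_rev, inv_inv, mul_assoc], hgx,
          ← hgx']
        group
      rw [show t * (x * w) * t⁻¹ = (t * x * t⁻¹) * (t * w * t⁻¹) by group, e1, ht.eq, mul_inv_cancel_right]
    refine c.not_pair hline hP hu hb₀ hb₁ hi hne hub hne' (c.conj_mem (g := t) ha) (c.conj_mem (g := t) hb)
      (fun e => hab (mul_left_cancel (mul_right_cancel e))) ?_ ?_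
    · simpa [MulAut.conj_apply] using hc.map (MulAut.conj t).toMonoidHom
    · rw [← hx'e, ← hconj, hxe]
      group

include hline in
/-- There is only one component. -/
theorem connected (hP : PairFix d) (hS : c.Split) {y : X} (hy : y ∈ conjugatesOf d) : Linked d y := by
  obtain ⟨t, ht⟩ := c.exists_link_pt
  obtain ⟨e, he, -⟩ := c.exists_lift ht
  set v := d * e with hvdef
  have hde : Commute d e := he.2.2
  have hv2 : v * v = 1 := by
    rw [hvdef, show d * e * (d * e) = d * (e * d) * e by group, ← hde.eq,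
      show d * (d * e) * e = (d * d) * (e * e) by group, c.sq, c.sq_of he.1, one_mul]
  have hvD : v ∉ conjugatesOf d := by rw [hvdef, hde.eq]; exact c.mul_notMem e he
  have hy2 := c.sq_of hy
  obtain ⟨m, hm⟩ : ∃ m, orderOf (v * y) = m + m := by
    rcases Nat.even_or_odd (orderOf (v * y)) with h | ⟨i, hi⟩
    · exact h
    · exfalso
      refine hvD (hy.trans (IsConj.symm (isConj_iff.2 ⟨(v * y) ^ i, conj_of_odd hv2 hy2 ?_⟩)))
      rw [← hi]
      exact pow_orderOf_eq_one _
  have hk : 0 < m := by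
    have := orderOf_pos (v * y)
    omega
  obtain ⟨hw2, hwv, hwy⟩ := mid_props hv2 hy2 hk hm
  set w := (v * y) ^ m
  have hw1 : w ≠ 1 := fun h => by rw [h, orderOf_one] at hw2; norm_num at hw2
  have hww : w * w = 1 := by rw [← pow_two, ← hw2, pow_orderOf_eq_one]
  have hwd : Linked d (w * d * w⁻¹) := by
    rcases hP e he w hwv.symm with h | h
    · rw [h]; exact .refl
    · rw [h]; exact .single ⟨he.1, hde⟩
  obtain ⟨a, ha, hwa⟩ := c.exists_fixed hww hwd
  obtain ⟨k, hk⟩ := isConj_iff.1 (linked_mem ha)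
  have hc : ∀ {x y : X}, Commute x y → Commute (k⁻¹ * x * k) (k⁻¹ * y * k) := fun {x y} h => by
    simpa using h.map (MulAut.conj k⁻¹).toMonoidHom
  have hwa' : Commute (k⁻¹ * w * k) d := by
    have := hc hwa
    rwa [← hk, show k⁻¹ * (k * d * k⁻¹) * k = d by group] at this
  have h := c.no_mixed hline hP hS (w := k⁻¹ * w * k) (y := k⁻¹ * y * k)
    (by rw [show k⁻¹ * w * k * (k⁻¹ * w * k) = k⁻¹ * (w * w) * k by group, hww]; group)
    (fun e => hw1 (by rw [show w = k * (k⁻¹ * w * k) * k⁻¹ by group, e]; group))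
    hwa' (by simpa using c.conj_mem (g := k⁻¹) hy) (hc hwy.symm)
  have h' := linked_conj h k
  rw [hk, show k * (k⁻¹ * y * k) * k⁻¹ = y by group] at h'
  exact linked_trans ha h'

/-- The last field of `Central`. -/
noncomputable def toCentral (hconn : ∀ y ∈ conjugatesOf d, Linked d y) : Central d F :=
  ⟨c, fun _ _ _ _ _ _ => hconn _ (isConj_iff.2 ⟨_, rfl⟩)⟩

end Base

end CfsgLib.U6Central
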