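import Cfsg.Agent.Lib.U6Central.Whole

/-!
# Coordinates of the lifts with respect to a conjugate at distance two

Over every point there is one lift commuting with `y`; the other three correspond to the three vectors of the
point, compatibly with the common centraliser of `d` and `y`.
-/

set_option autoImplicit false
set_option linter.unusedSectionVars false
set_option linter.style.haveILetI false

open scoped Classical

namespace CfsgLib.U6Central

open Cfsg CfsgLib.SURadical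
open CfsgLib.PSUAut (Isot act act_mul act_one act_form act_smul act_inv_apply act_apply_inv)
open CfsgLib.ThreeTransp (link)

variable {X : Type*} [Group X] {d : X} {F : Type} [Field F] [Fintype F]

/-- The transvection of a vector. -/
noncomputable def tv (z : Fin 4 → F) : Cfsg.SU 4 F 2 := if h : ∃ t, IsPt t z then h.choose else 1

theorem tv_eq (hF : Fintype.card F = 2 ^ 2) {t : Cfsg.SU 4 F 2} {z : Fin 4 → F} (h : IsPt t z) : tv z = t := by
  rw [tv, dif_pos ⟨t, h⟩]
  exact (Exists.choose_spec (⟨t, h⟩ : ∃ t, IsPt t z)).unique hF h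

theorem tv_spec (hF : Fintype.card F = 2 ^ 2) {z : Fin 4 → F} (hz : Isot 2 z) : IsPt (tv z) z := by
  obtain ⟨t, ht⟩ := exists_pt hF hz
  exact tv_eq hF ht ▸ ht

theorem isT_tv (hF : Fintype.card F = 2 ^ 2) {z : Fin 4 → F} (hz : Isot 2 z) : IsT (tv z) :=
  ⟨z, tv_spec hF hz⟩

/-- The common centraliser. -/
def cK (d y : X) : Subgroup X :=
  Subgroup.centralizer ({d} : Set X) ⊓ Subgroup.centralizer ({y} : Set X)

theorem mem_cK {d y g : X} : g ∈ cK d y ↔ Commute g d ∧ Commute g y :=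
  and_congr Subgroup.mem_centralizer_singleton_iff Subgroup.mem_centralizer_singleton_iff

namespace Central

variable [Finite X] (c : Central d F) {y : X} (hy : Far d y)
include c

/-- The lift commuting with `y`. -/
noncomputable def s0 (t : Cfsg.SU 4 F 2) : X := if h : IsT t then c.sec hy h else 1

include hy

theorem s0_mem {t : Cfsg.SU 4 F 2} (ht : IsT t) : c.s0 hy t ∈ c.fib t := by
  rw [s0, dif_pos ht]; exact (c.sec_spec hy ht).1

theorem s0_comm {t : Cfsg.SU 4 F 2} (ht : IsT t) : Commute (c.s0 hy t) y := by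
  rw [s0, dif_pos ht]; exact (c.sec_spec hy ht).2

theorem s0_eq {t : Cfsg.SU 4 F 2} {a : X} (ha : a ∈ c.fib t) (h : Commute a y) : c.s0 hy t = a := by
  have ht : IsT t := ha.2 ▸ c.img_pt ha.1
  rw [s0, dif_pos ht]; exact c.sec_eq hy ht ha h

theorem s0_cK {t : Cfsg.SU 4 F 2} (ht : IsT t) : c.s0 hy t ∈ cK d y :=
  mem_cK.2 ⟨link_comm (c.s0_mem hy ht).1, c.s0_comm hy ht⟩

omit hy in
theorem fib_conj {t : Cfsg.SU 4 F 2} {a g : X} (ha : a ∈ c.fib t) (hg : Commute g d) :
    g * a * g⁻¹ ∈ c.fib (c.img g * t * (c.img g)⁻¹) :=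
  ⟨c.link_conj hg ha.1, by rw [c.img_conj (link_comm ha.1) hg, ha.2]⟩

theorem s0_conj {t : Cfsg.SU 4 F 2} (ht : IsT t) {g : X} (hg : g ∈ cK d y) :
    g * c.s0 hy t * g⁻¹ = c.s0 hy (c.img g * t * (c.img g)⁻¹) := by
  obtain ⟨hgd, hgy⟩ := mem_cK.1 hg
  refine (c.s0_eq hy (c.fib_conj (c.s0_mem hy ht) hgd) ?_).symm
  exact (hgy.mul_left (c.s0_comm hy ht)).mul_left hgy.inv_left

omit hy in
theorem sq_fib {t : Cfsg.SU 4 F 2} {a : X} (ha : a ∈ c.fib t) : a * a = 1 := c.sq_of ha.1.1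

omit hy in
theorem noncomm_of {s t : Cfsg.SU 4 F 2} {a b : X} (ha : a ∈ c.fib s) (hb : b ∈ c.fib t) (h : ¬ Commute s t) :
    ¬ Commute a b := fun hc => h (ha.2 ▸ hb.2 ▸ (c.commute_iff ha.1 hb.1).1 hc)

omit hy in
theorem comm_of {s t : Cfsg.SU 4 F 2} {a b : X} (ha : a ∈ c.fib s) (hb : b ∈ c.fib t) (h : Commute s t) :
    Commute a b := (c.commute_iff ha.1 hb.1).2 (ha.2.symm ▸ hb.2.symm ▸ h)

omit hy in
theorem fib_braid {s t : Cfsg.SU 4 F 2} {a b : X} (ha : a ∈ c.fib s) (hb : b ∈ c.fib t) :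
    a * b * a ∈ c.fib (s * t * s) := by
  have h := c.fib_conj hb (link_comm ha.1)
  rwa [c.inv_of ha.1.1, ha.2, inv_eq_of_mul_eq_one_left (ha.2 ▸ c.img_sq ha.1)] at h

omit hy in
theorem isT_braid {s t : Cfsg.SU 4 F 2} (hs : IsT s) (ht : IsT t) : IsT (s * t * s) := by
  obtain ⟨a, ha⟩ := c.exists_lift hs
  obtain ⟨b, hb⟩ := c.exists_lift ht
  exact (c.fib_braid (a := a) (b := b) ha hb).2 ▸ c.img_pt (c.fib_braid (a := a) (b := b) ha hb).1

theorem s0_braid {s t : Cfsg.SU 4 F 2} (hs : IsT s) (ht : IsT t) :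
    c.s0 hy s * c.s0 hy t * c.s0 hy s = c.s0 hy (s * t * s) :=
  (c.s0_eq hy (c.fib_braid (c.s0_mem hy hs) (c.s0_mem hy ht))
    (((c.s0_comm hy hs).mul_left (c.s0_comm hy ht)).mul_left (c.s0_comm hy hs))).symm

/-- The common centraliser maps onto `SU₄(2)`, already the part generated by lifts near a point. -/
theorem exists_K_of {S : Set (Cfsg.SU 4 F 2)} (hS : ∀ t ∈ S, IsT t) {g : Cfsg.SU 4 F 2}
    (hg : g ∈ Subgroup.closure S) :
    ∃ k ∈ Subgroup.closure (c.s0 hy '' S), k ∈ cK d y ∧ c.img k = g := by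
  have hmem : ∀ x ∈ c.s0 hy '' S, Commute x d := by
    rintro _ ⟨t, ht, rfl⟩; exact link_comm (c.s0_mem hy (hS t ht)).1
  have hg' : g ∈ Subgroup.closure (c.img '' (c.s0 hy '' S)) := by
    refine Subgroup.closure_mono ?_ hg
    exact fun t ht => ⟨_, ⟨t, ht, rfl⟩, (c.s0_mem hy (hS t ht)).2⟩
  obtain ⟨k, hk, -, he⟩ := c.exists_preimage hmem hg'
  refine ⟨k, hk, ?_, he⟩
  refine (Subgroup.closure_le _).2 ?_ hk
  rintro _ ⟨t, ht, rfl⟩
  exact c.s0_cK hy (hS t ht)

theorem exists_K (g : Cfsg.SU 4 F 2) :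
    ∃ k ∈ Subgroup.closure (c.s0 hy '' {t | IsT t}), k ∈ cK d y ∧ c.img k = g :=
  c.exists_K_of hy (S := {t | IsT t}) (fun _ h => h) (show g ∈ Subgroup.closure {t : Cfsg.SU 4 F 2 | ∃ v, IsPt t v} by
    rw [closure_pts c.hF]; trivial)

omit hy in
theorem t_sq {s : Cfsg.SU 4 F 2} (hs : IsT s) : s * s = 1 := by
  obtain ⟨a, ha⟩ := c.exists_lift hs
  exact ha.2 ▸ c.img_sq ha.1

omit hy in
theorem t_third {s t : Cfsg.SU 4 F 2} (hs : IsT s) (ht : IsT t) (h : ¬ Commute s t) :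
    s * t * s * s * (s * t * s) = t := by
  obtain ⟨a, ha⟩ := c.exists_lift hs
  obtain ⟨b, hb⟩ := c.exists_lift ht
  refine ThreeTransp.cj_cj (c.t_sq hs) (c.t_sq ht) ?_
  rw [← ha.2, ← hb.2, ← c.img_mul (link_comm ha.1) (link_comm hb.1),
    ← c.img_mul ((link_comm ha.1).mul_left (link_comm hb.1)) (link_comm ha.1),
    c.braid ha.1 hb.1 (c.noncomm_of (s := s) (t := t) ha hb h),
    c.img_mul ((link_comm hb.1).mul_left (link_comm ha.1)) (link_comm hb.1),
    c.img_mul (link_comm hb.1) (link_comm ha.1)]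

omit hy in
theorem t_noncomm {s t : Cfsg.SU 4 F 2} (hs : IsT s) (h : ¬ Commute s t) : ¬ Commute s (s * t * s) := fun h' => by
  have := ((Commute.refl s).mul_right h').mul_right (Commute.refl s)
  rw [show s * (s * t * s) * s = (s * s) * t * (s * s) by group, c.t_sq hs, one_mul, mul_one] at this
  exact h this

/-- A conjugate of `a` over another point commuting with the moved copy of `y`. -/
theorem moved {t p : Cfsg.SU 4 F 2} {a : X} (ha : a ∈ c.fib t) (hp : IsT p) (htp : ¬ Commute t p) :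
    ∃ g ∈ cK d y, c.img g * t * (c.img g)⁻¹ = p ∧ Commute (g * a * g⁻¹) (a * y * a) := by
  have ht : IsT t := ha.2 ▸ c.img_pt ha.1
  have hm' : IsT (t * p * t) := c.isT_braid ht hp
  set m := c.s0 hy (t * p * t)
  have hmf := c.s0_mem hy hm'
  have hi : (c.img m)⁻¹ = t * p * t := by rw [hmf.2]; exact inv_eq_of_mul_eq_one_left (c.t_sq hm')
  refine ⟨m, c.s0_cK hy hm', ?_, ?_⟩
  · rw [hi, hmf.2]; exact c.t_third ht hp htp
  · rw [c.inv_of hmf.1.1, ← c.braid ha.1 hmf.1 (c.noncomm_of ha hmf (c.t_noncomm ht htp))]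
    have := (c.s0_comm hy hm').map (MulAut.conj a).toMonoidHom
    simpa [MulAut.conj_apply, c.inv_of ha.1.1] using this

set_option maxHeartbeats 800000 in
/-- Some element of the common centraliser fixing a point moves a given other lift of it. -/
theorem rot {t : Cfsg.SU 4 F 2} {a : X} (ha : a ∈ c.fib t) (hne : a ≠ c.s0 hy t) :
    ∃ g ∈ cK d y, Commute (c.img g) t ∧ g * a * g⁻¹ ≠ a := by
  by_contra hno
  simp only [not_exists, not_and, not_not] at hno
  have ht : IsT t := ha.2 ▸ c.img_pt ha.1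
  obtain ⟨u, hu⟩ := id ht
  have key : ∀ g ∈ cK d y, ∀ h ∈ cK d y,
      c.img g * t * (c.img g)⁻¹ = c.img h * t * (c.img h)⁻¹ → g * a * g⁻¹ = h * a * h⁻¹ := by
    intro g hg h hh e
    obtain ⟨hgd, -⟩ := mem_cK.1 hg
    obtain ⟨hhd, -⟩ := mem_cK.1 hh
    have hc : Commute (c.img (h⁻¹ * g)) t := by
      rw [c.img_mul hhd.inv_left hgd, c.img_inv hhd]
      calc (c.img h)⁻¹ * c.img g * t = (c.img h)⁻¹ * (c.img g * t * (c.img g)⁻¹) * c.img g := by group
        _ = t * ((c.img h)⁻¹ * c.img g) := by rw [e]; group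
    have := hno _ (mul_mem (inv_mem hh) hg) hc
    calc g * a * g⁻¹ = h * (h⁻¹ * g * a * (h⁻¹ * g)⁻¹) * h⁻¹ := by group
      _ = h * a * h⁻¹ := by rw [this]
  -- the vectors
  obtain ⟨e₂, f, f₂, q⟩ := exists_quad c.hF hu.1
  obtain ⟨ω, hω0, hω⟩ := exists_omega' c.hF
  set r' := ω • u + ω • e₂ + (1 : F) • f + (1 : F) • f₂ with hr'
  have h2 := add_self c.hF (1 : F)
  have hr'u : Cfsg.hermForm 4 F 2 r' u = 1 := by
    rw [hr']
    simp only [add_left c.hF, smul_left c.hF, hu.1.2, q.h₁, q.ee, q.fe, mul_zero, mul_one, add_zero, zero_add]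
  have hr'f : Cfsg.hermForm 4 F 2 r' f = ω := by
    rw [hr']
    simp only [add_left c.hF, smul_left c.hF, q.j₁.2, comm_one c.hF q.h₁, q.ef, q.ff, mul_zero, mul_one, add_zero,
      zero_add]
  have hr'0 : Isot 2 r' := by
    refine ⟨fun h0 => ?_, ?_⟩
    · rw [h0, zero_left c.hF] at hr'u; exact zero_ne_one hr'u
    · rw [hr', q.form c.hF]; linear_combination (ω + ω ^ 2) * h2
  have hs := tv_spec c.hF q.j₁
  have hs' := tv_spec c.hF hr'0
  set s := tv f
  set s' := tv r'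
  have hst : ¬ Commute t s := fun h =>
    one_ne_zero (comm_one c.hF q.h₁ ▸ (hu.commute_iff c.hF hs).1 h)
  have hs't : ¬ Commute t s' := fun h =>
    one_ne_zero (comm_one c.hF hr'u ▸ (hu.commute_iff c.hF hs').1 h)
  have hss : ¬ Commute s s' := fun h =>
    hω0 (hr'f ▸ (comm_zero c.hF).1 ((hs.commute_iff c.hF hs').1 h))
  have hm : ¬ Commute t (s * s' * s) := fun h => by
    have h1 := (comm_zero c.hF).1 ((hu.commute_iff c.hF (hs.cj c.hF hs')).1 h)
    rw [add_left c.hF, smul_left c.hF, hr'u, hr'f, q.h₁, mul_one] at h1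
    refine hω0 ((pow_eq_zero_iff (n := 2) (by norm_num)).1 ?_)
    linear_combination hω - h1
  have hsT : IsT s := ⟨f, hs⟩
  have hsT' : IsT s' := ⟨r', hs'⟩
  -- the moved copy of `y`
  set z := a * y * a with hz
  have hay : ¬ Commute a y := fun h => hne (c.s0_eq hy ha h).symm
  have hzF : Far d z := by
    refine c.far_of ?_ fun h => hy.2.1 ?_
    · have := c.conj_mem (g := a) hy.1
      rwa [c.inv_of ha.1.1] at this
    · have := (ha.1.2.2.mul_right h).mul_right ha.1.2.2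
      rwa [hz, show a * (a * y * a) * a = (a * a) * y * (a * a) by group, c.sq_fib ha, one_mul, mul_one] at this
  obtain ⟨g, hg, hgt, hgz⟩ := c.moved hy ha hsT hst
  obtain ⟨g', hg', hgt', hgz'⟩ := c.moved hy ha hsT' hs't
  obtain ⟨k, hk, hkt, hkz⟩ := c.moved hy ha (c.isT_braid hsT hsT') hm
  -- the common centraliser carries the pair to a third lift
  set b := g * a * g⁻¹
  set b' := g' * a * g'⁻¹
  have hbf : b ∈ c.fib s := hgt ▸ c.fib_conj ha (mem_cK.1 hg).1
  have hbf' : b' ∈ c.fib s' := hgt' ▸ c.fib_conj ha (mem_cK.1 hg').1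
  -- `b' = m b m` with `m` commuting with `y`
  set m := c.s0 hy (s * s' * s)
  have hmf := c.s0_mem hy (c.isT_braid hsT hsT')
  have hbm : m * b * m = b' := by
    have e := c.t_third hsT hsT' hss
    have hmd := link_comm hmf.1
    have hmi : c.img m = s * s' * s := hmf.2
    have hmi' : (c.img m)⁻¹ = c.img m := by rw [← c.img_inv hmd, c.inv_of hmf.1.1]
    have h1 := key (m * g) (mul_mem (c.s0_cK hy (c.isT_braid hsT hsT')) hg) g' hg' (by
      rw [c.img_mul hmd (mem_cK.1 hg).1, hgt', mul_inv_rev,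
        show c.img m * c.img g * t * ((c.img g)⁻¹ * (c.img m)⁻¹) =
          c.img m * (c.img g * t * (c.img g)⁻¹) * (c.img m)⁻¹ by group, hgt, hmi', hmi, e])
    calc m * b * m = m * g * a * (m * g)⁻¹ := by
          rw [mul_inv_rev, show m⁻¹ = m from c.inv_of hmf.1.1]; simp only [b]; group
      _ = b' := h1
  have hns : ¬ Commute m b := by
    have : ¬ Commute (s * s' * s) s := fun h => c.t_noncomm hsT hss h.symm
    exact c.noncomm_of hmf hbf this
  have hthird : b * b' * b = m := by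
    have bb := c.sq_fib hbf
    rw [← hbm, c.braid hmf.1 hbf.1 hns, show b * (b * m * b) * b = (b * b) * m * (b * b) by group, bb, one_mul,
      mul_one]
  have hmz : Commute m z := hthird ▸ (hgz.mul_left hgz').mul_left hgz
  have hkf : k * a * k⁻¹ ∈ c.fib (s * s' * s) := hkt ▸ c.fib_conj ha (mem_cK.1 hk).1
  have heq : k * a * k⁻¹ = m :=
    (c.meet hzF (c.isT_braid hsT hsT')).unique ⟨hkf, hkz⟩ ⟨hmf, hmz⟩
  refine hne ?_
  have h1 := c.s0_conj hy ht hk
  rw [hkt] at h1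
  exact mul_left_cancel (mul_right_cancel (heq.trans h1.symm))

/-- The lifts of a point other than the one commuting with `y`. -/
def oth (t : Cfsg.SU 4 F 2) : Set X := c.fib t \ {c.s0 hy t}

theorem oth_card {t : Cfsg.SU 4 F 2} (ht : IsT t) : (c.oth hy t).ncard = 3 := by
  rw [oth, Set.ncard_sdiff_singleton_of_mem (c.s0_mem hy ht), c.fib_ncard ht]

theorem oth_conj {t : Cfsg.SU 4 F 2} (ht : IsT t) {g : X} (hg : g ∈ cK d y) (hgt : Commute (c.img g) t) {a : X}
    (ha : a ∈ c.oth hy t) : g * a * g⁻¹ ∈ c.oth hy t := by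
  have e : c.img g * t * (c.img g)⁻¹ = t := by rw [hgt.eq, mul_inv_cancel_right]
  refine ⟨by have := c.fib_conj ha.1 (mem_cK.1 hg).1; rwa [e] at this, fun h => ha.2 ?_⟩
  have h' : g * a * g⁻¹ = g * c.s0 hy t * g⁻¹ := by rw [c.s0_conj hy ht hg, e]; exact h
  exact mul_left_cancel (mul_right_cancel h')

/-- The elements fixing a point permute the three other lifts transitively. -/
theorem trans3 {t : Cfsg.SU 4 F 2} (ht : IsT t) {a b : X} (ha : a ∈ c.oth hy t) (hb : b ∈ c.oth hy t) :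
    ∃ g ∈ cK d y, Commute (c.img g) t ∧ g * a * g⁻¹ = b := by
  by_contra hno
  simp only [not_exists, not_and] at hno
  have hab : a ≠ b := fun h =>
    hno 1 (one_mem _) (by rw [c.img_one]; exact Commute.one_left _) (by rw [h, one_mul, inv_one, mul_one])
  obtain ⟨g, hg, hgt, hga⟩ := c.rot hy ha.1 ha.2
  obtain ⟨h, hh, hht, hhb⟩ := c.rot hy hb.1 hb.2
  set x := g * a * g⁻¹
  have hx : x ∈ c.oth hy t := c.oth_conj hy ht hg hgt ha
  have hbx : x ≠ b := hno g hg hgt
  have hall : ∀ z ∈ c.oth hy t, z = a ∨ z = b ∨ z = x := by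
    have hsub : ({a, b, x} : Set X) ⊆ c.oth hy t := by
      rintro z (rfl | rfl | rfl) <;> assumption
    have h3 : ({a, b, x} : Set X).ncard = 3 := Set.ncard_eq_three.2 ⟨a, b, x, hab, hga.symm, hbx.symm, rfl⟩
    have := Set.eq_of_subset_of_ncard_le hsub (by rw [h3, c.oth_card hy ht]) (Set.toFinite _)
    intro z hz
    rw [← this] at hz
    simpa using hz
  have hhd := (mem_cK.1 hh).1
  have hgd := (mem_cK.1 hg).1
  have hhti : Commute (c.img h⁻¹) t := by rw [c.img_inv hhd]; exact hht.inv_left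
  rcases hall _ (c.oth_conj hy ht hh hht hb) with e | e | e
  · refine hno h⁻¹ (inv_mem hh) hhti ?_
    rw [← e]; group
  · exact hhb e
  · refine hno (h⁻¹ * g) (mul_mem (inv_mem hh) hg) ?_ ?_
    · rw [c.img_mul hhd.inv_left hgd]; exact hhti.mul_left hgt
    · calc h⁻¹ * g * a * (h⁻¹ * g)⁻¹ = h⁻¹ * x * h := by simp only [x]; group
        _ = b := by rw [← e]; group

/-- An element trivial on the points fixing one lift of a point fixes them all, first for the lift at `y`. -/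
theorem semireg0 {t : Cfsg.SU 4 F 2} (ht : IsT t) {h : X} (hd : Commute h d) (hi : c.img h = 1)
    (hs : Commute h (c.s0 hy t)) : ∀ a ∈ c.fib t, Commute h a := by
  have hp : IsPGroup 2 ↥(c.π.ker.map (Subgroup.centralizer ({d} : Set X)).subtype ⊓
      Subgroup.centralizer ({c.s0 hy t} : Set X)) := (c.ker_two.map _).to_le inf_le_left
  set P := c.π.ker.map (Subgroup.centralizer ({d} : Set X)).subtype ⊓
    Subgroup.centralizer ({c.s0 hy t} : Set X) with hP
  have hmem : ∀ {g : X}, g ∈ P ↔ Commute g d ∧ c.img g = 1 ∧ Commute g (c.s0 hy t) := by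
    intro g
    constructor
    · rintro ⟨⟨⟨g, hg⟩, hk, rfl⟩, h2⟩
      exact ⟨mem_cent.1 hg, (c.img_eq hg).trans hk, Subgroup.mem_centralizer_singleton_iff.1 h2⟩
    · rintro ⟨h1, h2, h3⟩
      exact ⟨⟨⟨g, mem_cent.2 h1⟩, (c.img_eq _).symm.trans h2, rfl⟩,
        Subgroup.mem_centralizer_singleton_iff.2 h3⟩
  have hpres : ∀ g : ↥P, ∀ a : c.oth hy t, (g : X) * a * (g : X)⁻¹ ∈ c.oth hy t := by
    rintro ⟨g, hg⟩ ⟨a, ha⟩
    obtain ⟨h1, h2, h3⟩ := hmem.1 hg
    refine ⟨by have := c.fib_conj ha.1 h1; rwa [h2, one_mul, inv_one, mul_one] at this, fun he => ha.2 ?_⟩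
    have he' : g * a * g⁻¹ = g * c.s0 hy t * g⁻¹ := by rw [h3.eq, mul_inv_cancel_right]; exact he
    exact mul_left_cancel (mul_right_cancel he')
  letI : MulAction ↥P ↥(c.oth hy t) :=
    { smul := fun g a => ⟨_, hpres g a⟩
      one_smul := fun a => Subtype.ext (show (1 : X) * a * (1 : X)⁻¹ = a by group)
      mul_smul := fun g k a => Subtype.ext (show ((g : X) * k) * a * ((g : X) * k)⁻¹ =
        (g : X) * ((k : X) * a * (k : X)⁻¹) * (g : X)⁻¹ by group) }
  haveI := Fact.mk Nat.prime_two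
  have hmod := hp.card_modEq_card_fixedPoints ↥(c.oth hy t)
  rw [Nat.card_coe_set_eq, c.oth_card hy ht] at hmod
  obtain ⟨⟨⟨b, hb⟩, hfix⟩⟩ : Nonempty ↥(MulAction.fixedPoints ↥P ↥(c.oth hy t)) := by
    by_contra hne
    rw [not_nonempty_iff] at hne
    rw [Nat.card_of_isEmpty] at hmod
    exact absurd hmod (by decide)
  have hbfix : ∀ g ∈ P, Commute g b := fun g hg => mul_inv_eq_iff_eq_mul.1 (congrArg Subtype.val (hfix ⟨g, hg⟩))
  intro a ha
  by_cases hat : a = c.s0 hy t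
  · rw [hat]; exact hs
  obtain ⟨k, hk, hkt, rfl⟩ := c.trans3 hy ht hb ⟨ha, hat⟩
  obtain ⟨hkd, -⟩ := mem_cK.1 hk
  have hks : k * c.s0 hy t * k⁻¹ = c.s0 hy t := by rw [c.s0_conj hy ht hk, hkt.eq, mul_inv_cancel_right]
  have hin : k⁻¹ * h * k ∈ P := by
    refine hmem.2 ⟨(hkd.inv_left.mul_left hd).mul_left hkd, ?_, ?_⟩
    · rw [c.img_mul (hkd.inv_left.mul_left hd) hkd, c.img_mul hkd.inv_left hd, hi, c.img_inv hkd, mul_one,
        inv_mul_cancel]
    · have := hs.map (MulAut.conj k⁻¹).toMonoidHom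
      have e : k⁻¹ * c.s0 hy t * k = c.s0 hy t := by
        conv_lhs => rw [← hks]
        group
      simpa [MulAut.conj_apply, e] using this
  have := (hbfix _ hin).map (MulAut.conj k).toMonoidHom
  simpa [MulAut.conj_apply, mul_assoc] using this

end Central

end CfsgLib.U6Central
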