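import Cfsg.Agent.Lib.U6Central.Label

/-!
# The conjugates at distance two form one orbit of the translations
-/

set_option autoImplicit false
set_option linter.unusedSectionVars false
set_option linter.style.haveILetI false
set_option linter.unusedSimpArgs false
set_option maxHeartbeats 600000

open scoped Classical

namespace CfsgLib.U6Central

open Cfsg CfsgLib.SURadical
open CfsgLib.PSUAut (Isot act)
open CfsgLib.ThreeTransp (link)

variable {X : Type*} [Group X] {d : X} {F : Type} [Field F] [Fintype F]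

/-- The subgroup generated by the conjugates of `d`. -/
def gen (d : X) : Subgroup X := Subgroup.closure (conjugatesOf d)

namespace Central

variable [Finite X]

theorem img_d (c : Central d F) : c.img d = 1 := by
  have hc : ∀ x : Cfsg.SU 4 F 2, (∃ v, IsPt x v) → Commute (c.img d) x := by
    intro x hx
    obtain ⟨a, ha, rfl⟩ := c.exists_lift hx
    rw [c.img_eq (mem_cent.2 (Commute.refl d)), c.img_eq (mem_cent.2 (link_comm ha))]
    exact (show Commute (⟨d, mem_cent.2 (Commute.refl d)⟩ : ↥(Subgroup.centralizer ({d} : Set X)))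
      ⟨a, mem_cent.2 (link_comm ha)⟩ from Subtype.ext (link_comm ha).symm.eq).map c.π
  obtain ⟨t, r, ht⟩ := c.exists_link_pt
  obtain ⟨a, -, hag⟩ := c.fix_scalar ht.1 (hc _ ⟨r, tv_spec c.hF ht.1⟩)
  refine eq_one_of_fix c.hF hc ht.1 ?_
  have h2 : CfsgLib.PSUAut.act (c.img d * c.img d) r = r := by
    rw [← c.img_mul (Commute.refl d) (Commute.refl d), c.sq, c.img_one, CfsgLib.PSUAut.act_one]
  rw [CfsgLib.PSUAut.act_mul, hag, CfsgLib.PSUAut.act_smul, hag, smul_smul] at h2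
  have ha2 : a * a = 1 := smul_left_injective F ht.1.1 (show (a * a) • r = (1 : F) • r by rw [one_smul]; exact h2)
  rw [hag, show a = 1 from ?_, one_smul]
  have h0 : (a + 1) * (a + 1) = 0 := by linear_combination ha2 + (a + 1) * SURadical.add_self c.hF (1 : F)
  linear_combination (mul_self_eq_zero.1 h0) - SURadical.add_self c.hF (1 : F)

variable {c : Central d F} (R : Frame c)
include R

/-- `g` is the translation by `r ↦ ⟨r, q⟩`. -/
def Frame.IsShift (g : X) (q : Fin 4 → F) : Prop :=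
  g ∈ gen d ∧ Commute g d ∧ c.img g = 1 ∧
    ∀ r, Isot 2 r → ∀ α, g * R.lab α r * g⁻¹ = R.lab (α + Cfsg.hermForm 4 F 2 r q) r

theorem Frame.shift_zero : R.IsShift 1 0 :=
  ⟨one_mem _, Commute.one_left _, c.img_one, fun r _ α => by
    rw [one_mul, inv_one, mul_one, zero_right c.hF, add_zero]⟩

theorem Frame.shift_d : R.IsShift d 0 :=
  ⟨Subgroup.subset_closure (IsConj.refl d), Commute.refl d, c.img_d, fun r hr α => by
    rw [zero_right c.hF, add_zero, (link_comm (R.lab_mem hr α).1).symm.eq, mul_inv_cancel_right]⟩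

theorem Frame.shift_mul {g g' : X} {q q' : Fin 4 → F} (h : R.IsShift g q) (h' : R.IsShift g' q') :
    R.IsShift (g * g') (q + q') := by
  refine ⟨mul_mem h.1 h'.1, h.2.1.mul_left h'.2.1, ?_, fun r hr α => ?_⟩
  · rw [c.img_mul h.2.1 h'.2.1, h.2.2.1, h'.2.2.1, one_mul]
  · rw [show g * g' * R.lab α r * (g * g')⁻¹ = g * (g' * R.lab α r * g'⁻¹) * g⁻¹ by group, h'.2.2.2 r hr,
      h.2.2.2 r hr, add_right c.hF, add_assoc, add_comm (Cfsg.hermForm 4 F 2 r q')]

theorem Frame.shift_uel {p : Fin 4 → F} (hp : Isot 2 p) : R.IsShift (R.uel p) p := by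
  obtain ⟨h1, h2, -⟩ := R.uel_props hp
  refine ⟨mul_mem (Subgroup.subset_closure (R.Φ_mem hp).1.1.1) (Subgroup.subset_closure
    (c.s0_mem R.far (isT_tv c.hF hp)).1.1), h1, h2, fun r hr α => R.uel_conj hp hr α⟩

theorem Frame.exists_shift (q : Fin 4 → F) : ∃ g, R.IsShift g q := by
  obtain ⟨e₂, f, f₂, Q⟩ := exists_quad c.hF R.iso
  have term : ∀ (a : F) (e : Fin 4 → F), Isot 2 e → ∃ g, R.IsShift g (a • e) := by
    intro a e he
    by_cases ha : a = 0
    · exact ⟨1, by rw [ha, zero_smul]; exact R.shift_zero⟩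
    · exact ⟨_, R.shift_uel (c.isot_smul ha he)⟩
  obtain ⟨g₁, h₁⟩ := term (Cfsg.hermForm 4 F 2 q f) R.w₀ R.iso
  obtain ⟨g₂, h₂⟩ := term (Cfsg.hermForm 4 F 2 q f₂) e₂ Q.i₂
  obtain ⟨g₃, h₃⟩ := term (Cfsg.hermForm 4 F 2 q R.w₀) f Q.j₁
  obtain ⟨g₄, h₄⟩ := term (Cfsg.hermForm 4 F 2 q e₂) f₂ Q.j₂
  refine ⟨g₁ * g₂ * g₃ * g₄, ?_⟩
  rw [Q.expand c.hF q]
  exact R.shift_mul (R.shift_mul (R.shift_mul h₁ h₂) h₃) h₄

theorem Frame.lab_zero (r : Fin 4 → F) : R.lab 0 r = c.s0 R.far (tv r) := by rw [Frame.lab, if_pos rfl]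

/-- A conjugate at distance two commuting with the lifts of two points of a line commutes with the third. -/
theorem Frame.line_eq {t₁ t₂ t₃ : Cfsg.SU 4 F 2} (h₁ : IsT t₁) (h₂ : IsT t₂) (h₃ : IsT t₃)
    (h12 : Commute t₁ t₂) (h13 : Commute t₁ t₃) (h23 : Commute t₂ t₃) (n2 : t₂ ≠ t₁) (n3 : t₃ ≠ t₁) {y' : X}
    (hy' : Far d y') (k₁ : Commute (c.s0 R.far t₁) y') (k₂ : Commute (c.s0 R.far t₂) y') :
    Commute (c.s0 R.far t₃) y' := by
  have hy := R.far
  have m₁ := c.s0_mem hy h₁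
  have m₂ := c.s0_mem hy h₂
  have m₃ := c.s0_mem hy h₃
  set a := c.s0 hy t₁
  set b := c.s0 hy t₂
  set x := c.s0 hy t₃
  have hab : Commute a b := c.comm_of m₁ m₂ h12
  have hax : Commute a x := c.comm_of m₁ m₃ h13
  have hbl := c.mem_here m₁.1.1 m₂.1.1 (fun e => n2 (by rw [← m₂.2, e, m₁.2])) hab
  have hxl := c.mem_here m₁.1.1 m₃.1.1 (fun e => n3 (by rw [← m₃.2, e, m₁.2])) hax
  have hdl := c.mem_here m₁.1.1 (IsConj.refl d) m₁.1.2.1.symm (link_comm m₁.1)
  have hyl := c.mem_here m₁.1.1 hy.1 (fun e => hy.2.1 (e ▸ m₁.1.2.2)) (c.s0_comm hy h₁)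
  set A := c.here m₁.1.1
  obtain ⟨u, hu⟩ := A.img_pt hdl
  obtain ⟨w, hw⟩ := A.img_pt hbl
  obtain ⟨w', hw'⟩ := A.img_pt hxl
  obtain ⟨v, hv⟩ := A.img_pt hyl
  have e : A.img b = A.img x := line_unique c.hF hu hw hw' hv ((A.commute_iff hdl hbl).1 m₂.1.2.2)
    ((A.commute_iff hdl hxl).1 m₃.1.2.2) ((A.commute_iff hbl hxl).1 (c.comm_of m₂ m₃ h23))
    (c.img_ne_of_line m₁.1 m₂.1 hab (by rw [m₁.2, m₂.2]; exact n2.symm))
    (fun h => hy.2.1 ((A.commute_iff hdl hyl).2 h))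
    ((A.commute_iff hbl hyl).1 (c.s0_comm hy h₂)) ((A.commute_iff hxl hyl).1 (c.s0_comm hy h₃))
  have hn := c.nb_conv m₁.1.1 ((A.same_iff hbl hxl).1 e)
  have hmem : y' ∈ nb d a b := ⟨hy'.1, k₁.symm, k₂.symm⟩
  rw [hn] at hmem
  exact hmem.2.2.symm

/-- Only the base and its moved copy commute with all base lifts. -/
theorem Frame.two_per_section {y' : X} (hy' : Far d y') (h : ∀ t, IsT t → Commute (c.s0 R.far t) y') :
    y' = R.y ∨ y' = d * R.y * d := by
  have hy := R.far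
  obtain ⟨t, ht⟩ := c.exists_link_pt
  have ma := c.s0_mem hy ht
  set a := c.s0 hy t
  set A := c.here ma.1.1
  have hdl := c.mem_here ma.1.1 (IsConj.refl d) ma.1.2.1.symm (link_comm ma.1)
  have hyl := c.mem_here ma.1.1 hy.1 (fun e => hy.2.1 (e ▸ ma.1.2.2)) (c.s0_comm hy ht)
  have hyl' := c.mem_here ma.1.1 hy'.1 (fun e => hy'.2.1 (e ▸ ma.1.2.2)) (h t ht)
  have htrace : ∀ s, IsT s → Commute s (A.img d) → Commute s (A.img R.y) → Commute s (A.img y') := by
    intro s hs hsd hsy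
    obtain ⟨b, hb, rfl⟩ := A.exists_lift hs
    have hbd := (A.commute_iff hb hdl).2 hsd
    have hby := (A.commute_iff hb hyl).2 hsy
    have hbl : b ∈ link (conjugatesOf d) d := by
      refine ⟨c.cl ma.1.1 ▸ hb.1, fun e => hy.2.1 (e ▸ hby), hbd.symm⟩
    have hbs : c.s0 hy (c.img b) = b := c.s0_eq hy ⟨hbl, rfl⟩ hby
    have := h _ (c.img_pt hbl)
    rw [hbs] at this
    exact (A.commute_iff hb hyl').1 this
  -- the same point at `a` forces equality
  have same : ∀ z, Far d z → (∀ t, IsT t → Commute (c.s0 hy t) z) → A.img y' = A.img z → y' = z := by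
    intro z hz hzs e
    by_contra hne
    have hzl := c.mem_here ma.1.1 hz.1 (fun e => hz.2.1 (e ▸ ma.1.2.2)) (hzs t ht)
    have hcm : Commute y' z := (A.commute_iff hyl' hzl).2 (by rw [e])
    have hzy := c.mem_here hy'.1 hz.1 (Ne.symm hne) hcm
    obtain ⟨u, hu⟩ := (c.here hy'.1).img_pt hzy
    obtain ⟨s, v, hs, hns⟩ := exists_noncomm c.hF hu
    obtain ⟨t', ht', es⟩ := c.sec_surj hy' ⟨v, hs⟩
    have hsec : c.sec hy' ht' = c.s0 hy t' := c.sec_eq hy' ht' (c.s0_mem hy ht') (h t' ht')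
    refine hns ?_
    rw [← es, hsec]
    exact ((c.here hy'.1).commute_iff hzy (c.mem_here hy'.1 (c.s0_mem hy ht').1.1
      (fun e => hy'.2.1 (e ▸ (c.s0_mem hy ht').1.2.2)) (h t' ht').symm)).1 (hzs t' ht').symm
  obtain ⟨u, hu⟩ := A.img_pt hdl
  obtain ⟨v₀, hv₀⟩ := A.img_pt hyl
  obtain ⟨w, hw⟩ := A.img_pt hyl'
  have hncd : Cfsg.hermForm 4 F 2 v₀ u ≠ 0 := fun h0 =>
    hy.2.1 ((A.commute_iff hdl hyl).2 ((hu.commute_iff c.hF hv₀).2 ((comm_zero c.hF).1 h0)))
  have hv := hv₀.smul c.hF (inv_ne_zero hncd)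
  set v := (Cfsg.hermForm 4 F 2 v₀ u)⁻¹ • v₀ with hvdef
  have hvu : Cfsg.hermForm 4 F 2 v u = 1 := by rw [hvdef, smul_left c.hF, inv_mul_cancel₀ hncd]
  obtain ⟨e₂, f₂, Q⟩ := exists_quad_of c.hF hu.1 hv.1 hvu
  have hz : ∀ {z}, Isot 2 z → Cfsg.hermForm 4 F 2 z u = 0 → Cfsg.hermForm 4 F 2 z v = 0 →
      Cfsg.hermForm 4 F 2 w z = 0 := by
    intro z hz h1 h2
    have hzp := tv_spec c.hF hz
    exact (comm_zero c.hF).1 ((hzp.commute_iff c.hF hw).1 (htrace _ ⟨z, hzp⟩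
      ((hzp.commute_iff c.hF hu).2 h1) ((hzp.commute_iff c.hF hv).2 h2)))
  have hexp := Q.expand c.hF w
  rw [hz Q.i₂ Q.ee Q.ef, hz Q.j₂ Q.fe Q.ff, zero_smul, zero_smul, add_zero, add_zero] at hexp
  set a' := Cfsg.hermForm 4 F 2 w v
  set b' := Cfsg.hermForm 4 F 2 w u
  have hb' : b' ≠ 0 := fun h0 =>
    hy'.2.1 ((A.commute_iff hdl hyl').2 ((hu.commute_iff c.hF hw).2 ((comm_zero c.hF).1 h0)))
  by_cases ha' : a' = 0
  · left
    refine same R.y hy (fun t ht => c.s0_comm hy ht) ?_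
    rw [hexp, ha', zero_smul, zero_add] at hw
    exact hw.unique c.hF (hv.smul c.hF hb')
  · right
    have hab : a' = b' := by
      have hiso := hw.1.2
      rw [hexp] at hiso
      simp only [add_left c.hF, add_right c.hF, smul_left c.hF, SURadical.smul_right c.hF, hu.1.2, hv.1.2, hvu,
        comm_one c.hF hvu, mul_zero, mul_one, zero_add, add_zero] at hiso
      have h' : a' * b' * (a' + b') = 0 := by linear_combination hiso
      linear_combination ((mul_eq_zero.1 h').resolve_left (mul_ne_zero ha' hb')) - SURadical.add_self c.hF b'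
    have hdy : Far d (d * R.y * d) := by
      refine c.far_of ?_ fun hc => hy.2.1 ?_
      · simpa [c.inv_of (IsConj.refl d)] using c.conj_mem (g := d) hy.1
      · have := ((Commute.refl d).mul_right hc).mul_right (Commute.refl d)
        rwa [show d * (d * R.y * d) * d = (d * d) * R.y * (d * d) by group, c.sq, one_mul, mul_one] at this
    refine same _ hdy (fun t ht => ?_) ?_
    · exact ((link_comm (c.s0_mem hy ht).1).mul_right (c.s0_comm hy ht)).mul_right
        (link_comm (c.s0_mem hy ht).1)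
    · rw [A.img_mul ((link_comm hdl).mul_left (link_comm hyl)) (link_comm hdl),
        A.img_mul (link_comm hdl) (link_comm hyl)]
      refine (hw.unique c.hF ?_)
      rw [hexp, ← hab, ← smul_add]
      refine IsPt.smul c.hF ?_ ha'
      have := hu.cj c.hF hv
      rwa [hvu, one_smul, add_comm] at this

/-- Every conjugate at distance two is a translate of the base. -/
theorem Frame.exists_translate {y' : X} (hy' : Far d y') :
    ∃ g q, R.IsShift g q ∧ y' = g * R.y * g⁻¹ := by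
  have hy := R.far
  obtain ⟨e₂, f, f₂, Q⟩ := exists_quad c.hF R.iso
  have ex : ∀ {r}, Isot 2 r → ∃ α, Commute (R.lab α r) y' := fun {r} hr => by
    obtain ⟨a, ⟨ha, hay⟩, -⟩ := c.meet hy' (isT_tv c.hF hr)
    obtain ⟨α, rfl⟩ := R.lab_surj hr ha
    exact ⟨α, hay⟩
  obtain ⟨α₁, k₁⟩ := ex R.iso
  obtain ⟨α₂, k₂⟩ := ex Q.i₂
  obtain ⟨α₃, k₃⟩ := ex Q.j₁
  obtain ⟨α₄, k₄⟩ := ex Q.j₂
  set q := α₃ ^ 2 • R.w₀ + α₄ ^ 2 • e₂ + α₁ ^ 2 • f + α₂ ^ 2 • f₂ with hq
  have four : ∀ a : F, a ^ 4 = a := fun a => by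
    by_cases h : a = 0
    · rw [h]; ring
    · linear_combination a * SURadical.cube_eq_one c.hF h
  have hq1 : Cfsg.hermForm 4 F 2 R.w₀ q = α₁ ∧ Cfsg.hermForm 4 F 2 e₂ q = α₂ ∧
      Cfsg.hermForm 4 F 2 f q = α₃ ∧ Cfsg.hermForm 4 F 2 f₂ q = α₄ := by
    rw [hq]
    simp only [add_right c.hF, SURadical.smul_right c.hF, R.iso.2, Q.i₂.2, Q.j₁.2, Q.j₂.2, Q.h₁, Q.h₂,
      comm_one c.hF Q.h₁, comm_one c.hF Q.h₂, Q.ee, Q.ef, Q.fe, Q.ff, (comm_zero c.hF).1 Q.ee,
      (comm_zero c.hF).1 Q.ef, (comm_zero c.hF).1 Q.fe, (comm_zero c.hF).1 Q.ff, mul_zero, mul_one, add_zero,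
      zero_add]
    exact ⟨by linear_combination four α₁, by linear_combination four α₂, by linear_combination four α₃,
      by linear_combination four α₄⟩
  obtain ⟨g, hgg, hgd, hgi, hg⟩ := R.exists_shift q
  set z := g⁻¹ * y' * g with hz
  have hzF : Far d z := by
    refine c.far_of (by simpa [hz] using c.conj_mem (g := g⁻¹) hy'.1) fun hc => hy'.2.1 ?_
    have := (hgd.symm.mul_right hc).mul_right hgd.inv_left.symm
    rwa [hz, show g * (g⁻¹ * y' * g) * g⁻¹ = y' by group] at this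
  have hbase : ∀ {r α}, Isot 2 r → Commute (R.lab α r) y' → Cfsg.hermForm 4 F 2 r q = α →
      Commute (c.s0 hy (tv r)) z := by
    intro r α hr hk hα
    rw [← hα] at hk
    have e := hg r hr 0
    rw [zero_add] at e
    rw [← e] at hk
    have := hk.map (MulAut.conj g⁻¹).toMonoidHom
    simpa [MulAut.conj_apply, R.lab_zero, hz, mul_assoc] using this
  let Z : (Fin 4 → F) → Prop := fun r => Isot 2 r → Commute (c.s0 hy (tv r)) z
  have hall : ∀ t, IsT t → Commute (c.s0 hy t) z := by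
    rintro t ⟨r, hr⟩
    rw [← tv_eq c.hF hr]
    refine grid c.hF Q (Z := Z) ?_ ?_ (fun _ => hbase R.iso k₁ hq1.1) (fun _ => hbase Q.i₂ k₂ hq1.2.1)
      (fun _ => hbase Q.j₁ k₃ hq1.2.2.1) (fun _ => hbase Q.j₂ k₄ hq1.2.2.2) hr.1.2 hr.1
    · intro a v hv hav
      have ha : a ≠ 0 := fun h => hav.1 (by rw [h, zero_smul])
      have hv' : Isot 2 v := by
        have := c.isot_smul (inv_ne_zero ha) hav
        rwa [smul_inv_self ha] at this
      rw [c.tv_smul ha hv']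
      exact hv hv'
    · intro v w hv hw hvw Zv Zw hsum
      by_cases hv0 : v = 0
      · subst hv0; rw [zero_add] at hsum ⊢; exact Zw hsum
      by_cases hw0 : w = 0
      · subst hw0; rw [add_zero] at hsum ⊢; exact Zv hsum
      have iv : Isot 2 v := ⟨hv0, hv⟩
      have iw : Isot 2 w := ⟨hw0, hw⟩
      by_cases hdep : tv w = tv v
      · obtain ⟨a, ha, rfl⟩ := (hdep ▸ tv_spec c.hF iw).span_eq c.hF (tv_spec c.hF iv)
        have hne : a + 1 ≠ 0 := fun h => hsum.1 (by rw [show a • w + w = (a + 1) • w by rw [add_smul, one_smul], h, zero_smul])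
        rw [show a • w + w = (a + 1) • w by rw [add_smul, one_smul], c.tv_smul hne iw]
        exact Zw iw
      by_cases hdep' : tv (v + w) = tv v
      · rw [hdep']; exact Zv iv
      have sv := tv_spec c.hF iv
      have sw := tv_spec c.hF iw
      have ss := tv_spec c.hF hsum
      have hwv : Cfsg.hermForm 4 F 2 w v = 0 := (comm_zero c.hF).1 hvw
      exact R.line_eq (isT_tv c.hF iv) (isT_tv c.hF iw) (isT_tv c.hF hsum) ((sv.commute_iff c.hF sw).2 hvw)
        ((sv.commute_iff c.hF ss).2 (by rw [add_right c.hF, hv, hvw, add_zero]))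
        ((sw.commute_iff c.hF ss).2 (by rw [add_right c.hF, hwv, hw, add_zero])) hdep hdep' hzF (Zv iv) (Zw iw)
  rcases R.two_per_section hzF hall with h | h
  · exact ⟨g, q, ⟨hgg, hgd, hgi, hg⟩, by rw [← h, hz]; group⟩
  · refine ⟨g * d, q + 0, R.shift_mul ⟨hgg, hgd, hgi, hg⟩ R.shift_d, ?_⟩
    · rw [mul_inv_rev, c.inv_of (IsConj.refl d), show g * d * R.y * (d * g⁻¹) = g * (d * R.y * d) * g⁻¹ by group,
        ← h, hz]
      group

end Central

end CfsgLib.U6Central
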