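import Cfsg.Agent.Lib.U6Central.Coords

/-!
# Labels of the lifts and translations

The lifts over the point of `r` are labelled by `F`; products of two lifts of a point act as translations by
linear functionals.
-/

set_option autoImplicit false
set_option linter.unusedSectionVars false
set_option linter.style.haveILetI false
set_option linter.unusedSimpArgs false
set_option maxHeartbeats 600000

open scoped Classical

namespace CfsgLib.U6Central

open Cfsg CfsgLib.SURadical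
open CfsgLib.PSUAut (Isot act act_mul act_one act_form act_smul act_add act_inv_apply act_apply_inv)
open CfsgLib.ThreeTransp (link)

variable {X : Type*} [Group X] {d : X} {F : Type} [Field F] [Fintype F]

theorem four_cases (hF : Fintype.card F = 2 ^ 2) {h a b : F} (hh : h ≠ 0) (ha0 : a ≠ 0) (hah : a ≠ h)
    (hb0 : b ≠ 0) (hbh : b ≠ h) (hba : b ≠ a) : b = a + h := by
  classical
  by_contra hne
  have h5 : ({0, h, a, b, a + h} : Finset F).card = 5 := by
    have k1 : a + h ≠ 0 := fun e => hah (by linear_combination e - SURadical.add_self hF h)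
    have k2 : a + h ≠ h := fun e => ha0 (add_eq_right.1 e)
    have k3 : a + h ≠ a := fun e => hh (add_eq_left.1 e)
    simp [Ne.symm hh, Ne.symm ha0, Ne.symm hb0, Ne.symm k1, Ne.symm hah, Ne.symm hbh, Ne.symm k2, Ne.symm hba,
      Ne.symm k3, hne]
  have := Finset.card_le_univ ({0, h, a, b, a + h} : Finset F)
  rw [h5, hF] at this
  omega

theorem smul_inv_self {c : F} (hc : c ≠ 0) (v : Fin 4 → F) : c⁻¹ • c • v = v := by
  rw [smul_smul, inv_mul_cancel₀ hc, one_smul]

namespace Central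

variable [Finite X] (c : Central d F)
include c

theorem isot_smul {a : F} (ha : a ≠ 0) {r : Fin 4 → F} (hr : Isot 2 r) : Isot 2 (a • r) :=
  ⟨smul_ne_zero ha hr.1, by rw [SURadical.smul_norm c.hF ha, hr.2]⟩

theorem tv_smul {a : F} (ha : a ≠ 0) {r : Fin 4 → F} (hr : Isot 2 r) : tv (a • r) = tv r :=
  tv_eq c.hF ((tv_spec c.hF hr).smul c.hF ha)

theorem fix_scalar {g : Cfsg.SU 4 F 2} {r : Fin 4 → F} (hr : Isot 2 r) (h : Commute g (tv r)) :
    ∃ a : F, a ≠ 0 ∧ act g r = a • r := by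
  have hp := (tv_spec c.hF hr).conj g
  rw [h.eq, mul_inv_cancel_right] at hp
  exact (tv_spec c.hF hr).span_eq c.hF hp

theorem conj_tv {g : Cfsg.SU 4 F 2} {r : Fin 4 → F} (hr : Isot 2 r) : g * tv r * g⁻¹ = tv (act g r) :=
  (tv_eq c.hF ((tv_spec c.hF hr).conj g)).symm

section
variable {y : X} (hy : Far d y)
include hy

/-- The moved conjugates at distance two realise every lift. -/
theorem hit {t : Cfsg.SU 4 F 2} (ht : IsT t) {a : X} (ha : a ∈ c.fib t) :
    ∃ y', Far d y' ∧ Commute a y' := by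
  by_cases h : a = c.s0 hy t
  · exact ⟨y, hy, h ▸ c.s0_comm hy ht⟩
  obtain ⟨u, hu⟩ := id ht
  obtain ⟨p, v, hp, htp⟩ := exists_noncomm c.hF hu
  have hpT : IsT p := ⟨v, hp⟩
  have hpt : ¬ Commute p t := fun h => htp h.symm
  obtain ⟨b, hb, hbne⟩ := Set.exists_ne_of_one_lt_ncard (s := c.fib p) (by rw [c.fib_ncard hpT]; norm_num)
    (c.s0 hy p)
  have hm := c.isT_braid hpT ht
  set m := c.s0 hy (p * t * p)
  have hmf := c.s0_mem hy hm
  have hbd : Commute b d := link_comm hb.1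
  have hpm : ¬ Commute p (p * t * p) := c.t_noncomm hpT hpt
  have hxf : b * m * b ∈ c.fib t := by
    have := c.fib_braid hb hmf
    rwa [show p * (p * t * p) * p = (p * p) * t * (p * p) by group, c.t_sq hpT, one_mul, mul_one] at this
  have hxne : b * m * b ≠ c.s0 hy t := by
    intro e
    have hbm : ¬ Commute b m := c.noncomm_of hb hmf hpm
    have e2 : m * c.s0 hy t * m = b := by
      rw [← e, c.braid hb.1 hmf.1 hbm, show m * (m * b * m) * m = (m * m) * b * (m * m) by group,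
        c.sq_fib hmf, one_mul, mul_one]
    refine hbne (e2.symm.trans ?_)
    rw [c.s0_braid hy hm ht]
    congr 1
    have hbr : p * t * p = t * p * t := by
      obtain ⟨x, hx⟩ := c.exists_lift hpT
      obtain ⟨z, hz⟩ := c.exists_lift ht
      rw [← hx.2, ← hz.2, ← c.img_mul (link_comm hx.1) (link_comm hz.1),
        ← c.img_mul ((link_comm hx.1).mul_left (link_comm hz.1)) (link_comm hx.1),
        c.braid hx.1 hz.1 (c.noncomm_of (s := p) (t := t) hx hz hpt),
        c.img_mul ((link_comm hz.1).mul_left (link_comm hx.1)) (link_comm hz.1),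
        c.img_mul (link_comm hz.1) (link_comm hx.1)]
    rw [hbr]
    exact c.t_third ht hpT htp
  obtain ⟨k, hk, -, hka⟩ := c.trans3 hy ht ⟨hxf, hxne⟩ ⟨ha, h⟩
  obtain ⟨hkd, -⟩ := mem_cK.1 hk
  have hy' : Commute (b * m * b) (b * y * b) := by
    have := (c.s0_comm hy hm).map (MulAut.conj b).toMonoidHom
    simpa [MulAut.conj_apply, c.inv_of hb.1.1] using this
  refine ⟨k * (b * y * b) * k⁻¹, ?_, ?_⟩
  · refine c.far_of (c.conj_mem ?_) fun hc => hy.2.1 ?_
    · have := c.conj_mem (g := b) hy.1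
      rwa [c.inv_of hb.1.1] at this
    · have h1 := (hkd.inv_left.symm.mul_right hc).mul_right hkd.symm
      rw [show k⁻¹ * (k * (b * y * b) * k⁻¹) * k = b * y * b by group] at h1
      have h2 := (hbd.symm.mul_right h1).mul_right hbd.symm
      rwa [show b * (b * y * b) * b = (b * b) * y * (b * b) by group, c.sq_fib hb, one_mul, mul_one] at h2
  · rw [← hka]
    simpa [MulAut.conj_apply] using hy'.map (MulAut.conj k).toMonoidHom

/-- An element trivial on the points fixing one lift of a point fixes them all. -/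
theorem semireg {t : Cfsg.SU 4 F 2} (ht : IsT t) {h a : X} (hd : Commute h d) (hi : c.img h = 1)
    (ha : a ∈ c.fib t) (hha : Commute h a) : ∀ b ∈ c.fib t, Commute h b := by
  obtain ⟨y', hy', hay⟩ := c.hit hy ht ha
  exact c.semireg0 hy' ht hd hi (by rwa [c.s0_eq hy' ha hay])

/-- An element of the common centraliser fixing a vector fixes the lifts of its point. -/
theorem stab_fix {r : Fin 4 → F} (hr : Isot 2 r) {g : X} (hg : g ∈ cK d y) (hgr : act (c.img g) r = r) :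
    ∀ a ∈ c.fib (tv r), Commute g a := by
  set S := {t : Cfsg.SU 4 F 2 | ∃ v, IsPt t v ∧ Cfsg.hermForm 4 F 2 v r = 0} with hS
  have hST : ∀ t ∈ S, IsT t := fun t ⟨v, hv, _⟩ => ⟨v, hv⟩
  obtain ⟨k, hkS, hk, hki⟩ := c.exists_K_of hy hST (stab_closure c.hF hr hgr)
  obtain ⟨hgd, -⟩ := mem_cK.1 hg
  obtain ⟨hkd, -⟩ := mem_cK.1 hk
  have hr' := isT_tv c.hF hr
  have hka : ∀ a ∈ c.fib (tv r), Commute k a := by
    intro a ha
    have hle : Subgroup.closure (c.s0 hy '' S) ≤ Subgroup.centralizer ({a} : Set X) := by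
      refine (Subgroup.closure_le _).2 ?_
      rintro _ ⟨t, ⟨v, hv, hvr⟩, rfl⟩
      exact Subgroup.mem_centralizer_singleton_iff.2 (c.comm_of (c.s0_mem hy ⟨v, hv⟩) ha
        ((hv.commute_iff c.hF (tv_spec c.hF hr)).2 hvr))
    exact Subgroup.mem_centralizer_singleton_iff.1 (hle hkS)
  set h := k⁻¹ * g with hh
  have hi : c.img h = 1 := by rw [hh, c.img_mul hkd.inv_left hgd, c.img_inv hkd, hki, inv_mul_cancel]
  have hs : Commute h (c.s0 hy (tv r)) := by
    have := c.s0_conj hy hr' (g := h) (mul_mem (inv_mem hk) hg)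
    simp only [hi, one_mul, inv_one, mul_one] at this
    exact mul_inv_eq_iff_eq_mul.1 this
  intro a ha
  have := (hka a ha).mul_left (c.semireg0 hy hr' (hkd.inv_left.mul_left hgd) hi hs a ha)
  rwa [mul_inv_cancel_left] at this

end

/-- A base for the labels. -/
structure Frame where
  y : X
  far : Far d y
  w₀ : Fin 4 → F
  iso : Isot 2 w₀
  a₀ : X
  mem : a₀ ∈ c.oth far (tv w₀)

theorem exists_frame : Nonempty (Frame c) := by
  obtain ⟨y, hy⟩ := c.exists_far
  obtain ⟨t, w, hw⟩ := c.exists_link_pt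
  obtain ⟨a, ha⟩ : (c.oth hy (tv w)).Nonempty :=
    Set.nonempty_of_ncard_ne_zero (by rw [c.oth_card hy (isT_tv c.hF hw.1)]; norm_num)
  exact ⟨⟨y, hy, w, hw.1, a, ha⟩⟩

variable {c}
variable (R : Frame c)
include R

theorem Frame.exists_move {z : Fin 4 → F} (hz : Isot 2 z) :
    ∃ k ∈ cK d R.y, act (c.img k) R.w₀ = z := by
  have ht₀ := isT_tv c.hF R.iso
  obtain ⟨g, hg, hgt, hga⟩ := c.rot R.far R.mem.1 R.mem.2
  obtain ⟨e, he0, he⟩ := c.fix_scalar R.iso hgt
  have he1 : e ≠ 1 := fun h => hga (by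
    rw [(c.stab_fix R.far R.iso hg (by rw [he, h, one_smul]) _ R.mem.1).eq, mul_inv_cancel_right])
  have hsum : e ^ 2 + e + 1 = 0 := by
    have : (e - 1) * (e ^ 2 + e + 1) = 0 := by linear_combination SURadical.cube_eq_one c.hF he0
    exact (mul_eq_zero.1 this).resolve_left (sub_ne_zero.2 he1)
  obtain ⟨k, -, hk, hki⟩ := c.exists_K R.far (c.exists_g ht₀ (isT_tv c.hF hz)).choose
  have hconj := (c.exists_g ht₀ (isT_tv c.hF hz)).choose_spec
  rw [← hki] at hconj
  have hp := (tv_spec c.hF R.iso).conj (c.img k)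
  rw [hconj] at hp
  obtain ⟨a, ha0, ha⟩ := hp.span_eq c.hF (tv_spec c.hF hz)
  obtain ⟨hgd, -⟩ := mem_cK.1 hg
  obtain ⟨hkd, -⟩ := mem_cK.1 hk
  have h3 : (a - 1) * (a - e) * (a - e ^ 2) = 0 := by
    linear_combination SURadical.cube_eq_one c.hF ha0 + (-a ^ 2 + e * a - (e - 1)) * hsum
  rcases mul_eq_zero.1 h3 with h | h
  rcases mul_eq_zero.1 h with h' | h'
  · exact ⟨k, hk, by rw [ha, sub_eq_zero.1 h', one_smul]⟩
  · exact ⟨k * g, mul_mem hk hg, by rw [c.img_mul hkd hgd, act_mul, he, act_smul, ha, sub_eq_zero.1 h']⟩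
  · refine ⟨k * (g * g), mul_mem hk (mul_mem hg hg), ?_⟩
    rw [c.img_mul hkd (hgd.mul_left hgd), c.img_mul hgd hgd, act_mul, act_mul, he, act_smul, he, smul_smul,
      act_smul, ha, sub_eq_zero.1 h, pow_two]

/-- The lift of a vector. -/
noncomputable def Frame.Φ (z : Fin 4 → F) : X :=
  if h : Isot 2 z then (R.exists_move h).choose * R.a₀ * (R.exists_move h).choose⁻¹ else 1

theorem Frame.Φ_eq {k : X} (hk : k ∈ cK d R.y) {z : Fin 4 → F} (h : act (c.img k) R.w₀ = z) :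
    R.Φ z = k * R.a₀ * k⁻¹ := by
  have hz : Isot 2 z := h ▸ R.iso.act _
  rw [Frame.Φ, dif_pos hz]
  set k' := (R.exists_move hz).choose
  obtain ⟨hk', he⟩ := (R.exists_move hz).choose_spec
  obtain ⟨hkd, -⟩ := mem_cK.1 hk
  have := c.stab_fix R.far R.iso (mul_mem (inv_mem hk) hk') (by
    rw [c.img_mul hkd.inv_left (mem_cK.1 hk').1, c.img_inv hkd, act_mul, he, ← h, act_inv_apply]) R.a₀ R.mem.1
  calc k' * R.a₀ * k'⁻¹ = k * ((k⁻¹ * k') * R.a₀ * (k⁻¹ * k')⁻¹) * k⁻¹ := by group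
    _ = k * R.a₀ * k⁻¹ := by rw [this.eq, mul_inv_cancel_right]

theorem Frame.Φ_mem {z : Fin 4 → F} (hz : Isot 2 z) : R.Φ z ∈ c.oth R.far (tv z) := by
  obtain ⟨k, hk, rfl⟩ := R.exists_move hz
  rw [R.Φ_eq hk rfl, ← c.conj_tv R.iso]
  refine ⟨c.fib_conj R.mem.1 (mem_cK.1 hk).1, fun h => R.mem.2 ?_⟩
  have h' : k * R.a₀ * k⁻¹ = k * c.s0 R.far (tv R.w₀) * k⁻¹ := by
    rw [c.s0_conj R.far (isT_tv c.hF R.iso) hk]; exact h
  exact mul_left_cancel (mul_right_cancel h')

theorem Frame.Φ_conj {z : Fin 4 → F} (hz : Isot 2 z) {g : X} (hg : g ∈ cK d R.y) :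
    g * R.Φ z * g⁻¹ = R.Φ (act (c.img g) z) := by
  obtain ⟨k, hk, rfl⟩ := R.exists_move hz
  rw [R.Φ_eq hk rfl, R.Φ_eq (mul_mem hg hk) (by rw [c.img_mul (mem_cK.1 hg).1 (mem_cK.1 hk).1, act_mul])]
  group

theorem Frame.Φ_surj {z : Fin 4 → F} (hz : Isot 2 z) {b : X} (hb : b ∈ c.oth R.far (tv z)) :
    ∃ a : F, a ≠ 0 ∧ R.Φ (a • z) = b := by
  obtain ⟨g, hg, hgt, rfl⟩ := c.trans3 R.far (isT_tv c.hF hz) (R.Φ_mem hz) hb
  obtain ⟨a, ha0, ha⟩ := c.fix_scalar hz hgt
  exact ⟨a, ha0, by rw [R.Φ_conj hz hg, ha]⟩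

theorem Frame.Φ_inj {z : Fin 4 → F} (hz : Isot 2 z) {a b : F} (ha : a ≠ 0) (hb : b ≠ 0)
    (h : R.Φ (a • z) = R.Φ (b • z)) : a = b := by
  have hmem : ∀ e : {e : F // e ≠ 0}, R.Φ (e.1 • z) ∈ c.oth R.far (tv z) := fun e => by
    have := R.Φ_mem (c.isot_smul e.2 hz)
    rwa [c.tv_smul e.2 hz] at this
  let f : {e : F // e ≠ 0} → ↥(c.oth R.far (tv z)) := fun e => ⟨_, hmem e⟩
  have hsurj : Function.Surjective f := fun x => by
    obtain ⟨e, he, hx⟩ := R.Φ_surj hz x.2
    exact ⟨⟨e, he⟩, Subtype.ext hx⟩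
  have hb' := hsurj.bijective_of_nat_card_le (by
    rw [Nat.card_coe_set_eq, c.oth_card R.far (isT_tv c.hF hz), Nat.card_eq_fintype_card,
      Fintype.card_subtype_compl, c.hF]
    simp)
  exact congrArg Subtype.val (hb'.1 (a₁ := ⟨a, ha⟩) (a₂ := ⟨b, hb⟩) (Subtype.ext h))

/-- The label `(α, r)`: the lift of the point of `r` for the vector `α • v + r`. -/
noncomputable def Frame.lab (α : F) (r : Fin 4 → F) : X :=
  if α = 0 then c.s0 R.far (tv r) else R.Φ (α⁻¹ • r)

theorem Frame.lab_mem {r : Fin 4 → F} (hr : Isot 2 r) (α : F) : R.lab α r ∈ c.fib (tv r) := by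
  rw [Frame.lab]
  split_ifs with h
  · exact c.s0_mem R.far (isT_tv c.hF hr)
  · have := (R.Φ_mem (c.isot_smul (inv_ne_zero h) hr)).1
    rwa [c.tv_smul (inv_ne_zero h) hr] at this

theorem Frame.lab_inj {r : Fin 4 → F} (hr : Isot 2 r) {α β : F} (h : R.lab α r = R.lab β r) : α = β := by
  have key : ∀ {α : F}, α ≠ 0 → R.lab α r ≠ c.s0 R.far (tv r) := fun {α} ha => by
    have := (R.Φ_mem (c.isot_smul (inv_ne_zero ha) hr)).2
    rw [c.tv_smul (inv_ne_zero ha) hr] at this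
    rwa [Frame.lab, if_neg ha]
  by_cases ha : α = 0 <;> by_cases hb : β = 0
  · rw [ha, hb]
  · exact absurd (h.symm.trans (by rw [Frame.lab, if_pos ha])) (key hb)
  · exact absurd (h.trans (by rw [Frame.lab, if_pos hb])) (key ha)
  · rw [Frame.lab, Frame.lab, if_neg ha, if_neg hb] at h
    exact inv_inj.1 (R.Φ_inj hr (inv_ne_zero ha) (inv_ne_zero hb) h)

theorem Frame.lab_surj {r : Fin 4 → F} (hr : Isot 2 r) {a : X} (ha : a ∈ c.fib (tv r)) :
    ∃ α, R.lab α r = a := by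
  by_cases h : a = c.s0 R.far (tv r)
  · exact ⟨0, by rw [Frame.lab, if_pos rfl, h]⟩
  · obtain ⟨e, he, hx⟩ := R.Φ_surj hr ⟨ha, h⟩
    exact ⟨e⁻¹, by rw [Frame.lab, if_neg (inv_ne_zero he), inv_inv, hx]⟩

theorem Frame.lab_smul {r : Fin 4 → F} (hr : Isot 2 r) (α : F) {a : F} (ha : a ≠ 0) :
    R.lab (a * α) (a • r) = R.lab α r := by
  by_cases h : α = 0
  · rw [Frame.lab, Frame.lab, if_pos h, if_pos (by rw [h, mul_zero]), c.tv_smul ha hr]
  · rw [Frame.lab, Frame.lab, if_neg h, if_neg (mul_ne_zero ha h), smul_smul, mul_inv_rev, mul_assoc,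
      inv_mul_cancel₀ ha, mul_one]

/-- The product of the two lifts `Φ p` and `s0` of a point. -/
noncomputable def Frame.uel (p : Fin 4 → F) : X := R.Φ p * c.s0 R.far (tv p)

theorem Frame.uel_props {p : Fin 4 → F} (hp : Isot 2 p) :
    Commute (R.uel p) d ∧ c.img (R.uel p) = 1 ∧ R.uel p * R.uel p = 1 := by
  have hT := isT_tv c.hF hp
  have h1 := (R.Φ_mem hp).1
  have h2 := c.s0_mem R.far hT
  refine ⟨(link_comm h1.1).mul_left (link_comm h2.1), ?_, ?_⟩
  · rw [Frame.uel, c.img_mul (link_comm h1.1) (link_comm h2.1), h1.2, h2.2, c.t_sq hT]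
  · rw [Frame.uel]
    have hc : Commute (R.Φ p) (c.s0 R.far (tv p)) := c.comm_of h1 h2 (Commute.refl _)
    calc R.Φ p * c.s0 R.far (tv p) * (R.Φ p * c.s0 R.far (tv p))
        = R.Φ p * (c.s0 R.far (tv p) * R.Φ p) * c.s0 R.far (tv p) := by group
      _ = (R.Φ p * R.Φ p) * (c.s0 R.far (tv p) * c.s0 R.far (tv p)) := by rw [hc.symm.eq]; group
      _ = 1 := by rw [c.sq_fib h1, c.sq_fib h2, one_mul]

/-- Products of lifts translate. -/
theorem Frame.uel_conj {p r : Fin 4 → F} (hp : Isot 2 p) (hr : Isot 2 r) (α : F) :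
    R.uel p * R.lab α r * (R.uel p)⁻¹ = R.lab (α + Cfsg.hermForm 4 F 2 r p) r := by
  have hTp := isT_tv c.hF hp
  have hTr := isT_tv c.hF hr
  have h1 := (R.Φ_mem hp).1
  have h2 := c.s0_mem R.far hTp
  obtain ⟨hud, hui, huu⟩ := R.uel_props hp
  have hinv : (R.uel p)⁻¹ = R.uel p := inv_eq_of_mul_eq_one_left huu
  set h := Cfsg.hermForm 4 F 2 r p with hh
  have hLm := R.lab_mem hr
  have hmem : ∀ β, R.uel p * R.lab β r * (R.uel p)⁻¹ ∈ c.fib (tv r) := fun β => by
    have := c.fib_conj (hLm β) hud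
    simpa only [hui, one_mul, inv_one, mul_one] using this
  by_cases h0 : h = 0
  · have hcm : Commute (tv p) (tv r) :=
      ((tv_spec c.hF hp).commute_iff c.hF (tv_spec c.hF hr)).2 ((comm_zero c.hF).1 h0)
    rw [h0, add_zero, Frame.uel,
      ((c.comm_of h1 (hLm α) hcm).mul_left (c.comm_of h2 (hLm α) hcm)).eq, mul_inv_cancel_right]
  have hncp : ¬ Commute (tv p) (tv r) := fun hc =>
    h0 ((comm_zero c.hF).1 (((tv_spec c.hF hp).commute_iff c.hF (tv_spec c.hF hr)).1 hc))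
  have hTm := c.isT_braid hTp hTr
  have hmv := (tv_spec c.hF hp).cj c.hF (tv_spec c.hF hr)
  have hncm : ¬ Commute (tv p) (tv p * tv r * tv p) := c.t_noncomm hTp hncp
  have zero : R.uel p * R.lab 0 r * (R.uel p)⁻¹ = R.lab h r := by
    rw [Frame.lab, if_pos rfl, Frame.lab, if_neg h0, Frame.uel, mul_inv_rev, c.inv_of h2.1.1, c.inv_of h1.1.1,
      show R.Φ p * c.s0 R.far (tv p) * c.s0 R.far (tv r) * (c.s0 R.far (tv p) * R.Φ p) =
        R.Φ p * (c.s0 R.far (tv p) * c.s0 R.far (tv r) * c.s0 R.far (tv p)) * R.Φ p by group,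
      c.s0_braid R.far hTp hTr]
    set m := c.s0 R.far (tv p * tv r * tv p)
    have hm := c.s0_mem R.far hTm
    rw [c.braid h1.1 hm.1 (c.noncomm_of h1 hm hncm)]
    conv_lhs => arg 2; rw [← c.inv_of hm.1.1]
    rw [R.Φ_conj hp (c.s0_cK R.far hTm)]
    congr 1
    rw [hm.2, hmv.2, add_right c.hF, SURadical.smul_right c.hF, hp.2, mul_zero, add_zero,
      conj_form c.hF r p, smul_add, smul_smul, ← hh]
    have h3 := SURadical.cube_eq_one c.hF h0
    have hi : h⁻¹ = h ^ 2 := inv_eq_of_mul_eq_one_right (by linear_combination h3)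
    rw [hi, show h ^ 2 * h = 1 by linear_combination h3, one_smul, ← add_assoc]
    rw [add_comm p, add_assoc, SURadical.vadd_self c.hF, add_zero]
  have swap : R.uel p * R.lab h r * (R.uel p)⁻¹ = R.lab 0 r := by
    rw [← zero, hinv, show R.uel p * (R.uel p * R.lab 0 r * R.uel p) * R.uel p =
      (R.uel p * R.uel p) * R.lab 0 r * (R.uel p * R.uel p) by group, huu, one_mul, mul_one]
  by_cases ha0 : α = 0
  · rw [ha0, zero_add, zero]
  by_cases hah : α = h
  · rw [hah, swap, SURadical.add_self c.hF]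
  obtain ⟨β, hβ⟩ := R.lab_surj hr (hmem α)
  have back : R.uel p * R.lab β r * (R.uel p)⁻¹ = R.lab α r := by
    rw [hβ, hinv, show R.uel p * (R.uel p * R.lab α r * R.uel p) * R.uel p =
      (R.uel p * R.uel p) * R.lab α r * (R.uel p * R.uel p) by group, huu, one_mul, mul_one]
  have e1 : β ≠ 0 := fun e => hah (R.lab_inj hr (by rw [← back, e, zero]))
  have e2 : β ≠ h := fun e => ha0 (R.lab_inj hr (by rw [← back, e, swap]))
  have e3 : β ≠ α := fun e => by
    rw [e] at hβ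
    have hf : Commute (R.uel p) (R.lab α r) := mul_inv_eq_iff_eq_mul.1 hβ.symm
    have := c.semireg R.far hTr hud hui (hLm α) hf _ (hLm 0)
    rw [this.eq, mul_inv_cancel_right] at zero
    exact h0 (R.lab_inj hr zero).symm
  rw [← hβ, four_cases c.hF h0 ha0 hah e1 e2 e3]

end Central

end CfsgLib.U6Central
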