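import Cfsg.Agent.Lib.U6Central.Setup
import Cfsg.Agent.Lib.U6Central.Points

/-!
# The conjugates commuting with a given one: lifts of points, and the symmetry of being on a line
-/

set_option autoImplicit false
set_option linter.unusedSectionVars false

open scoped Classical

namespace CfsgLib.U6Central

open Cfsg CfsgLib.SURadical
open CfsgLib.PSUAut (Isot act)
open CfsgLib.ThreeTransp (link)

variable {X : Type*} [Group X] {d : X} {F : Type} [Field F] [Fintype F]

/-- `t` is a transvection. -/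
def IsT (t : Cfsg.SU 4 F 2) : Prop := ∃ w, IsPt t w

/-- The conjugates commuting with both. -/
def nb (d a b : X) : Set X := {x | x ∈ conjugatesOf d ∧ Commute x a ∧ Commute x b}

/-- Transport to a conjugate. -/
noncomputable def Base.move (c : Base d F) (k : X) : Base (k * d * k⁻¹) F := by
  let s : ↥(Subgroup.centralizer ({k * d * k⁻¹} : Set X)) ≃* ↥(Subgroup.centralizer ({d} : Set X)) :=
    { toFun := fun w => ⟨k⁻¹ * w * k, by
        have h := Subgroup.mem_centralizer_singleton_iff.1 w.2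
        rw [Subgroup.mem_centralizer_singleton_iff]
        calc k⁻¹ * (w : X) * k * d = k⁻¹ * ((w : X) * (k * d * k⁻¹)) * k := by group
          _ = d * (k⁻¹ * (w : X) * k) := by rw [h]; group⟩
      invFun := fun w => ⟨k * w * k⁻¹, by
        have h := Subgroup.mem_centralizer_singleton_iff.1 w.2
        rw [Subgroup.mem_centralizer_singleton_iff]
        calc k * (w : X) * k⁻¹ * (k * d * k⁻¹) = k * ((w : X) * d) * k⁻¹ := by group
          _ = k * d * k⁻¹ * (k * (w : X) * k⁻¹) := by rw [h]; group⟩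
      left_inv := fun w => Subtype.ext (by simp [mul_assoc])
      right_inv := fun w => Subtype.ext (by simp [mul_assoc])
      map_mul' := fun u v => Subtype.ext (by simp [mul_assoc]) }
  have hcl : conjugatesOf (k * d * k⁻¹) = conjugatesOf d :=
    (IsConj.conjugatesOf_eq (isConj_iff.2 ⟨k, rfl⟩)).symm
  have hc : ∀ {x y : X}, Commute x y → Commute (k⁻¹ * x * k) (k⁻¹ * y * k) := fun {x y} h => by
    simpa using h.map (MulAut.conj k⁻¹).toMonoidHom
  have hd : k⁻¹ * (k * d * k⁻¹) * k = d := by group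
  have hlink : ∀ {x : X}, x ∈ link (conjugatesOf (k * d * k⁻¹)) (k * d * k⁻¹) ↔
      k⁻¹ * x * k ∈ link (conjugatesOf d) d := by
    intro x
    rw [hcl]
    constructor
    · rintro ⟨h1, h2, h3⟩
      refine ⟨h1.trans (isConj_iff.2 ⟨k⁻¹, by group⟩), fun e => h2 ?_, ?_⟩
      · rw [← e]; group
      · have := hc h3
        rwa [hd] at this
    · rintro ⟨h1, h2, h3⟩
      refine ⟨h1.trans (isConj_iff.2 ⟨k, by group⟩), fun e => h2 ?_, ?_⟩
      · rw [e]; group
      · have := h3.map (MulAut.conj k).toMonoidHom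
        simp only [MulEquiv.coe_toMonoidHom, MulAut.conj_apply] at this
        rwa [show k * (k⁻¹ * x * k) * k⁻¹ = x by group] at this
  have hback : ∀ {x y : X}, Commute (k⁻¹ * x * k) (k⁻¹ * y * k) → Commute x y := fun {x y} h => by
    have := h.map (MulAut.conj k).toMonoidHom
    simpa [mul_assoc] using this
  refine ⟨c.hF, ?_, ?_, c.π.comp s.toMonoidHom, ?_, fun x hx => c.pt (s x) (hlink.1 hx), ?_, ?_, ?_, ?_⟩
  · calc k * d * k⁻¹ * (k * d * k⁻¹) = k * (d * d) * k⁻¹ := by group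
      _ = 1 := by rw [c.sq]; group
  · exact fun h => c.ne (conj_eq_one_iff.1 h)
  · rintro ⟨w, hw⟩
    obtain ⟨m, hm⟩ := c.ker_two ⟨s w, hw⟩
    refine ⟨m, Subtype.ext (s.injective ?_)⟩
    show s (w ^ 2 ^ m) = s 1
    rw [map_pow, map_one]
    exact congrArg Subtype.val hm
  · intro t w hw
    refine Eq.trans ?_ (c.lifts t w hw)
    refine Set.ncard_congr (fun x _ => s x) (fun x hx => ⟨hlink.1 hx.1, hx.2⟩) (fun a b _ _ e => s.injective e)
      fun y hy => ⟨s.symm y, ⟨hlink.2 ?_, ?_⟩, s.apply_symm_apply y⟩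
    · show ((s (s.symm y) : ↥(Subgroup.centralizer ({d} : Set X))) : X) ∈ _
      rw [s.apply_symm_apply]; exact hy.1
    · show c.π (s (s.symm y)) = t
      rw [s.apply_symm_apply]; exact hy.2
  · exact fun x y hx hy h => hback (c.comm (s x) (s y) (hlink.1 hx) (hlink.1 hy) h)
  · intro x hx h
    rw [hcl] at h
    refine c.mul_notMem _ (hlink.1 hx) ?_
    have e : k⁻¹ * x * k * d = k⁻¹ * (x * (k * d * k⁻¹)) * k := by group
    rw [e]
    exact h.trans (isConj_iff.2 ⟨k⁻¹, by group⟩)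
  · intro g hg hall
    rcases c.faithful (k⁻¹ * g * k) (hd ▸ hc hg) (fun x hx => by
        have h := hc (hall (k * x * k⁻¹) (hlink.2 (by convert hx using 1; group)))
        rwa [show k⁻¹ * (k * x * k⁻¹) * k = x by group] at h) with e | e
    · exact Or.inl (by rw [show g = k * (k⁻¹ * g * k) * k⁻¹ by group, e]; group)
    · exact Or.inr (by rw [show g = k * (k⁻¹ * g * k) * k⁻¹ by group, e])

namespace Base

variable (c : Base d F)
include c

/-- A model at every conjugate. -/
theorem exists_here {a : X} (ha : a ∈ conjugatesOf d) : Nonempty (Base a F) := by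
  obtain ⟨k, rfl⟩ := isConj_iff.1 ha
  exact ⟨c.move k⟩

/-- A model at every conjugate. -/
noncomputable def here {a : X} (ha : a ∈ conjugatesOf d) : Base a F := Classical.choice (c.exists_here ha)

/-- The image in `SU₄(2)`, extended by `1` off the centraliser. -/
noncomputable def img (x : X) : Cfsg.SU 4 F 2 :=
  if h : x ∈ Subgroup.centralizer ({d} : Set X) then c.π ⟨x, h⟩ else 1

omit c in
theorem mem_cent {x : X} : x ∈ Subgroup.centralizer ({d} : Set X) ↔ Commute x d :=
  Subgroup.mem_centralizer_singleton_iff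

theorem img_eq {x : X} (h : x ∈ Subgroup.centralizer ({d} : Set X)) : c.img x = c.π ⟨x, h⟩ := dif_pos h

theorem img_mul {x y : X} (hx : Commute x d) (hy : Commute y d) : c.img (x * y) = c.img x * c.img y := by
  rw [c.img_eq (mem_cent.2 hx), c.img_eq (mem_cent.2 hy), c.img_eq (mem_cent.2 (hx.mul_left hy)), ← map_mul]
  rfl

theorem img_one : c.img 1 = 1 := by
  rw [c.img_eq (one_mem _)]
  exact map_one _

theorem img_inv {x : X} (hx : Commute x d) : c.img x⁻¹ = (c.img x)⁻¹ := by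
  rw [c.img_eq (mem_cent.2 hx), c.img_eq (mem_cent.2 hx.inv_left), ← map_inv]
  rfl

theorem img_conj {x g : X} (hx : Commute x d) (hg : Commute g d) :
    c.img (g * x * g⁻¹) = c.img g * c.img x * (c.img g)⁻¹ := by
  rw [c.img_mul (hg.mul_left hx) hg.inv_left, c.img_mul hg hx, c.img_inv hg]

theorem cl {a : X} (ha : a ∈ conjugatesOf d) : conjugatesOf a = conjugatesOf d :=
  (IsConj.conjugatesOf_eq ha).symm

theorem sq_of {a : X} (ha : a ∈ conjugatesOf d) : a * a = 1 := (c.here ha).sq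

theorem ne_of {a : X} (ha : a ∈ conjugatesOf d) : a ≠ 1 := (c.here ha).ne

theorem inv_of {a : X} (ha : a ∈ conjugatesOf d) : a⁻¹ = a := inv_eq_of_mul_eq_one_left (c.sq_of ha)

theorem conj_mem {a g : X} (ha : a ∈ conjugatesOf d) : g * a * g⁻¹ ∈ conjugatesOf d :=
  ha.trans (isConj_iff.2 ⟨g, rfl⟩)

omit c in
theorem link_comm {x : X} (hx : x ∈ link (conjugatesOf d) d) : Commute x d := hx.2.2.symm

theorem link_conj {x g : X} (hg : Commute g d) (hx : x ∈ link (conjugatesOf d) d) :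
    g * x * g⁻¹ ∈ link (conjugatesOf d) d := by
  have e : g * d * g⁻¹ = d := by rw [hg.eq]; group
  refine ⟨c.conj_mem hx.1, fun h => hx.2.1 ?_, ?_⟩
  · calc x = g⁻¹ * (g * x * g⁻¹) * g := by group
      _ = g⁻¹ * (g * d * g⁻¹) * g := by rw [h, e]
      _ = d := by group
  · have := hx.2.2.map (MulAut.conj g).toMonoidHom
    simp only [MulEquiv.coe_toMonoidHom, MulAut.conj_apply] at this
    rwa [e] at this

theorem img_pt {x : X} (hx : x ∈ link (conjugatesOf d) d) : IsT (c.img x) := by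
  rw [c.img_eq (mem_cent.2 (link_comm hx))]
  exact c.pt _ hx

/-- The lifts of a point. -/
def fib (t : Cfsg.SU 4 F 2) : Set X := {x | x ∈ link (conjugatesOf d) d ∧ c.img x = t}

theorem fib_ncard {t : Cfsg.SU 4 F 2} (ht : IsT t) : (c.fib t).ncard = 4 := by
  obtain ⟨w, hw⟩ := ht
  refine Eq.trans ?_ (c.lifts t w hw)
  refine Set.ncard_congr (fun x hx => ⟨x, mem_cent.2 (link_comm hx.1)⟩) ?_ ?_ ?_
  · intro x hx
    exact ⟨hx.1, (c.img_eq _).symm.trans hx.2⟩
  · intro a b _ _ e
    exact congrArg Subtype.val e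
  · intro y hy
    exact ⟨y, ⟨hy.1, (c.img_eq y.2).trans hy.2⟩, rfl⟩

theorem exists_lift {t : Cfsg.SU 4 F 2} (ht : IsT t) : ∃ x, x ∈ link (conjugatesOf d) d ∧ c.img x = t :=
  Set.nonempty_of_ncard_ne_zero (s := c.fib t) (by rw [c.fib_ncard ht]; norm_num)

theorem commute_iff {x y : X} (hx : x ∈ link (conjugatesOf d) d) (hy : y ∈ link (conjugatesOf d) d) :
    Commute x y ↔ Commute (c.img x) (c.img y) := by
  rw [c.img_eq (mem_cent.2 (link_comm hx)), c.img_eq (mem_cent.2 (link_comm hy))]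
  refine ⟨fun h => ?_, fun h => c.comm _ _ hx hy h⟩
  exact (show Commute (⟨x, mem_cent.2 (link_comm hx)⟩ : ↥(Subgroup.centralizer ({d} : Set X)))
    ⟨y, mem_cent.2 (link_comm hy)⟩ from Subtype.ext h.eq).map c.π

theorem conj_t {t g : Cfsg.SU 4 F 2} (ht : IsT t) : IsT (g * t * g⁻¹) := by
  obtain ⟨w, hw⟩ := ht
  exact ⟨_, hw.conj g⟩

/-- The number of points orthogonal to a point. -/
noncomputable def perpNum (t : Cfsg.SU 4 F 2) : ℕ := {s : Cfsg.SU 4 F 2 | IsT s ∧ Commute s t}.ncard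

theorem perpNum_eq {s t : Cfsg.SU 4 F 2} (hs : IsT s) (ht : IsT t) : perpNum s = perpNum t := by
  obtain ⟨u, hu⟩ := hs
  obtain ⟨v, hv⟩ := ht
  obtain ⟨g, hg⟩ := IsPt.exists_conj c.hF hu hv
  subst hg
  refine Set.ncard_congr (fun x _ => g * x * g⁻¹) (fun x hx => ⟨c.conj_t hx.1, ?_⟩)
    (fun a b _ _ e => mul_left_cancel (mul_right_cancel e)) fun y hy => ⟨g⁻¹ * y * g, ⟨?_, ?_⟩, by group⟩
  · simpa [MulAut.conj_apply] using hx.2.map (MulAut.conj g).toMonoidHom
  · have := c.conj_t (g := g⁻¹) hy.1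
    rwa [inv_inv] at this
  · have := hy.2.map (MulAut.conj g⁻¹).toMonoidHom
    simpa [MulAut.conj_apply, mul_assoc] using this

variable [Finite X]

theorem nb_card {b : X} (hb : b ∈ link (conjugatesOf d) d) :
    (nb d d b).ncard = 1 + 4 * perpNum (c.img b) := by
  have hset : nb d d b = insert d {x | x ∈ link (conjugatesOf d) d ∧ Commute (c.img x) (c.img b)} := by
    ext x
    constructor
    · rintro ⟨h1, h2, h3⟩
      by_cases e : x = d
      · exact Or.inl e
      · exact Or.inr ⟨⟨h1, e, h2.symm⟩, (c.commute_iff ⟨h1, e, h2.symm⟩ hb).1 h3⟩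
    · rintro (rfl | ⟨h1, h2⟩)
      · exact ⟨IsConj.refl _, Commute.refl _, hb.2.2⟩
      · exact ⟨h1.1, link_comm h1, (c.commute_iff h1 hb).2 h2⟩
  rw [hset, Set.ncard_insert_of_notMem (fun h => h.1.2.1 rfl), add_comm 1, add_left_inj]
  letI : Fintype X := Fintype.ofFinite X
  set S := {x : X | x ∈ link (conjugatesOf d) d ∧ Commute (c.img x) (c.img b)} with hS
  set T := {s : Cfsg.SU 4 F 2 | IsT s ∧ Commute s (c.img b)} with hT
  show S.ncard = 4 * T.ncard
  rw [Set.ncard_eq_toFinset_card' S, Set.ncard_eq_toFinset_card' T,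
    Finset.card_eq_sum_card_fiberwise (t := T.toFinset) (f := c.img) ?_,
    Finset.sum_congr rfl (g := fun _ => 4) ?_, Finset.sum_const, smul_eq_mul, mul_comm]
  · intro t ht
    rw [Set.mem_toFinset] at ht
    refine Eq.trans ?_ (c.fib_ncard ht.1)
    rw [Set.ncard_eq_toFinset_card']
    congr 1
    ext x
    rw [Finset.mem_filter, Set.mem_toFinset, Set.mem_toFinset]
    exact ⟨fun h => ⟨h.1.1, h.2⟩, fun h => ⟨⟨h.1, h.2.symm ▸ ht.2⟩, h.2⟩⟩
  · intro x hx
    rw [Finset.mem_coe, Set.mem_toFinset] at hx ⊢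
    exact ⟨c.img_pt hx.1, hx.2⟩

theorem nb_here {a : X} (ha : a ∈ conjugatesOf d) (b : X) : nb a a b = nb d a b := by
  unfold nb
  rw [c.cl ha]

theorem mem_here {a b : X} (ha : a ∈ conjugatesOf d) (hb : b ∈ conjugatesOf d) (hne : b ≠ a)
    (h : Commute a b) : b ∈ link (conjugatesOf a) a := by
  rw [c.cl ha]; exact ⟨hb, hne, h⟩

theorem nb_ncard_eq {a b a' b' : X} (ha : a ∈ conjugatesOf d) (hb : b ∈ conjugatesOf d) (hne : b ≠ a)
    (h : Commute a b) (ha' : a' ∈ conjugatesOf d) (hb' : b' ∈ conjugatesOf d) (hne' : b' ≠ a')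
    (h' : Commute a' b') : (nb d a b).ncard = (nb d a' b').ncard := by
  have h₁ := c.mem_here ha hb hne h
  have h₂ := c.mem_here ha' hb' hne' h'
  rw [← c.nb_here ha, ← c.nb_here ha', (c.here ha).nb_card h₁, (c.here ha').nb_card h₂,
    c.perpNum_eq ((c.here ha).img_pt h₁) ((c.here ha').img_pt h₂)]

/-- Two members have the same point iff they commute with the same members. -/
theorem same_iff {b b' : X} (hb : b ∈ link (conjugatesOf d) d) (hb' : b' ∈ link (conjugatesOf d) d) :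
    c.img b = c.img b' ↔ nb d d b = nb d d b' := by
  constructor
  · intro h
    ext x
    by_cases e : x = d
    · subst e
      exact iff_of_true ⟨IsConj.refl _, Commute.refl _, hb.2.2⟩ ⟨IsConj.refl _, Commute.refl _, hb'.2.2⟩
    · constructor <;> rintro ⟨h1, h2, h3⟩ <;> refine ⟨h1, h2, ?_⟩
      · rw [c.commute_iff ⟨h1, e, h2.symm⟩ hb', ← h, ← c.commute_iff ⟨h1, e, h2.symm⟩ hb]; exact h3
      · rw [c.commute_iff ⟨h1, e, h2.symm⟩ hb, h, ← c.commute_iff ⟨h1, e, h2.symm⟩ hb']; exact h3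
  · intro h
    obtain ⟨u, hu⟩ := c.img_pt hb
    obtain ⟨w, hw⟩ := c.img_pt hb'
    refine pt_ext c.hF hu hw fun t ht => ?_
    obtain ⟨x, hx, rfl⟩ := c.exists_lift ht
    rw [← c.commute_iff hx hb, ← c.commute_iff hx hb']
    have hmem : ∀ y, x ∈ nb d d y ↔ Commute x y := fun y =>
      ⟨fun h => h.2.2, fun h => ⟨hx.1, link_comm hx, h⟩⟩
    rw [← hmem, ← hmem, h]

/-- Being on a line is symmetric. -/
theorem line_symm {a b x : X} (ha : a ∈ conjugatesOf d) (hb : b ∈ conjugatesOf d) (hx : x ∈ conjugatesOf d)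
    (hab : a ≠ b) (hbx : x ≠ b) (h₁ : Commute a b) (h₃ : Commute b x)
    (h : nb d a b = nb d a x) : nb d a b = nb d b x := by
  refine Set.eq_of_subset_of_ncard_le (fun y hy => ⟨hy.1, hy.2.2, (h ▸ hy).2.2⟩) (le_of_eq ?_) (Set.toFinite _)
  exact c.nb_ncard_eq hb hx hbx h₃ ha hb hab.symm h₁

theorem nb_comm (a b : X) : nb d a b = nb d b a := by
  ext y; exact ⟨fun h => ⟨h.1, h.2.2, h.2.1⟩, fun h => ⟨h.1, h.2.2, h.2.1⟩⟩

end Base

namespace Central

theorem mem_cent {x : X} : x ∈ Subgroup.centralizer ({d} : Set X) ↔ Commute x d :=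
  Subgroup.mem_centralizer_singleton_iff

theorem link_comm {x : X} (hx : x ∈ link (conjugatesOf d) d) : Commute x d := hx.2.2.symm

/-- The condition on centralisers holds at every conjugate. -/
theorem cent_at (c : Central d F) {a : X} (ha : a ∈ conjugatesOf d) :
    ∀ v : X, v * v = 1 → v ≠ 1 → Commute v a → ∀ g : X, Commute g v → Linked a (g * a * g⁻¹) := by
  obtain ⟨k, rfl⟩ := isConj_iff.1 ha
  have hcl : conjugatesOf (k * d * k⁻¹) = conjugatesOf d :=
    (IsConj.conjugatesOf_eq (isConj_iff.2 ⟨k, rfl⟩)).symm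
  have hc : ∀ {x y : X}, Commute x y → Commute (k⁻¹ * x * k) (k⁻¹ * y * k) := fun {x y} h => by
    simpa using h.map (MulAut.conj k⁻¹).toMonoidHom
  have hd : k⁻¹ * (k * d * k⁻¹) * k = d := by group
  intro v hv hv1 hvd g hg
  have h := c.cent (k⁻¹ * v * k)
    (by rw [show k⁻¹ * v * k * (k⁻¹ * v * k) = k⁻¹ * (v * v) * k by group, hv]; group)
    (fun e => hv1 (by rw [show v = k * (k⁻¹ * v * k) * k⁻¹ by group, e]; group))
    (hd ▸ hc hvd) (k⁻¹ * g * k) (hc hg)
  have h' : Relation.ReflTransGen (fun a b => b ∈ conjugatesOf (k * d * k⁻¹) ∧ Commute a b)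
      (k * d * k⁻¹) (k * (k⁻¹ * g * k * d * (k⁻¹ * g * k)⁻¹) * k⁻¹) := by
    clear * - h hcl
    unfold Linked at h
    generalize k⁻¹ * g * k * d * (k⁻¹ * g * k)⁻¹ = y at h ⊢
    induction h with
    | refl => exact .refl
    | @tail a b _ hab ih =>
      refine .tail ih ⟨hcl.symm ▸ hab.1.trans (isConj_iff.2 ⟨k, rfl⟩), ?_⟩
      simpa [MulAut.conj_apply] using hab.2.map (MulAut.conj k).toMonoidHom
  unfold Linked
  convert h' using 1
  group

/-- A model at every conjugate. -/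
noncomputable def here (c : Central d F) {a : X} (ha : a ∈ conjugatesOf d) : Central a F :=
  ⟨c.toBase.here ha, c.cent_at ha⟩

end Central

end CfsgLib.U6Central
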