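import Cfsg.Agent.Lib.U6Central.Connected
import Cfsg.Agent.Lib.Invol.ZStarFinal
import Cfsg.Agent.Lib.Invol.FusionFixedCentral

/-!
# The centraliser of a product of two commuting conjugates

Modulo the product `v = d e` the image of `d` is isolated in the centraliser of `v`, and the odd core of that
centraliser is trivial because `d`, `e` and the two other factors of a line invert it.
-/

set_option autoImplicit false
set_option linter.unusedSectionVars false
set_option linter.style.haveILetI false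

open scoped Classical

namespace CfsgLib.U6Central

open Cfsg CfsgLib.SURadical
open CfsgLib.PSUAut (Isot act)
open CfsgLib.ThreeTransp (link)

variable {X : Type*} [Group X]

/-- An involution whose centraliser in `C(v)` has trivial odd core inverts the odd core of `C(v)`. -/
theorem core_inverts_cent [Finite X] {v a : X} (hav : Commute a v) (haa : a * a = 1)
    (hA : Cfsg.oddCore ↥(Subgroup.centralizer ({a} : Set X) ⊓ Subgroup.centralizer ({v} : Set X)) = ⊥)
    (x : ↥(Subgroup.centralizer ({v} : Set X))) (hx : x ∈ Cfsg.oddCore ↥(Subgroup.centralizer ({v} : Set X))) :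
    a * (x : X) * a⁻¹ = (x : X)⁻¹ := by
  haveI : (Cfsg.oddCore ↥(Subgroup.centralizer ({v} : Set X))).Normal := by
    have := CfsgLib.Cores.pPrimeCore_characteristic (G := ↥(Subgroup.centralizer ({v} : Set X))) 2
    infer_instance
  set a' : ↥(Subgroup.centralizer ({v} : Set X)) := ⟨a, Subgroup.mem_centralizer_singleton_iff.2 hav⟩
  let φ := (MulAut.conjNormal a' : MulAut ↥(Cfsg.oddCore ↥(Subgroup.centralizer ({v} : Set X))))
  have haa' : a' * a' = 1 := Subtype.ext haa
  have hfpf : MonoidHom.FixedPointFree φ := by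
    intro y hy
    set H := Subgroup.centralizer ({a} : Set X) ⊓ Subgroup.centralizer ({v} : Set X)
    let ι : ↥H →* ↥(Subgroup.centralizer ({v} : Set X)) := Subgroup.inclusion inf_le_right
    set L := (Cfsg.oddCore ↥(Subgroup.centralizer ({v} : Set X))).comap ι
    have hodd : Odd (Nat.card L) := by
      refine Odd.of_dvd_nat (CfsgLib.Cores.odd_card_oddCore (G := ↥(Subgroup.centralizer ({v} : Set X)))) ?_
      refine Subgroup.card_dvd_of_injective ((ι.comp L.subtype).codRestrict _ fun y => y.2) fun p q h => ?_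
      exact Subtype.ext (Subgroup.inclusion_injective inf_le_right (congrArg Subtype.val h))
    have hy' : Commute a ((y : ↥(Subgroup.centralizer ({v} : Set X))) : X) := by
      have h := congrArg (fun t : ↥(Cfsg.oddCore ↥(Subgroup.centralizer ({v} : Set X))) =>
        ((t : ↥(Subgroup.centralizer ({v} : Set X))) : X)) hy
      simp only [φ, MulAut.conjNormal_apply, Subgroup.coe_mul, Subgroup.coe_inv] at h
      exact mul_inv_eq_iff_eq_mul.1 h
    have hmem : (⟨_, Subgroup.mem_inf.2 ⟨Subgroup.mem_centralizer_singleton_iff.2 hy'.eq.symm, y.1.2⟩⟩ : ↥H) ∈ L :=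
      Subgroup.mem_comap.2 y.2
    haveI : L.Normal := Subgroup.Normal.comap inferInstance ι
    have h1 := (hA ▸ CfsgLib.Cores.le_oddCore_of_odd hodd) hmem
    exact Subtype.ext (Subtype.ext (congrArg (fun t : ↥H => (t : X)) (Subgroup.mem_bot.1 h1)))
  have hinv : Function.Involutive φ := fun y => by
    show φ (φ y) = y
    rw [← MulAut.mul_apply, ← map_mul, haa', map_one]
    rfl
  have := congrFun (hfpf.coe_eq_inv_of_involutive hinv) ⟨x, hx⟩
  have h := congrArg (fun t : ↥(Cfsg.oddCore ↥(Subgroup.centralizer ({v} : Set X))) =>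
    ((t : ↥(Subgroup.centralizer ({v} : Set X))) : X)) this
  simpa [φ, MulAut.conjNormal_apply] using h

/-- A conjugate of a subgroup with trivial odd core has trivial odd core. -/
theorem oddCore_conj {k : X} {L L' : Subgroup X} (h : ∀ y, y ∈ L' ↔ k⁻¹ * y * k ∈ L) (hL : Cfsg.oddCore ↥L = ⊥) :
    Cfsg.oddCore ↥L' = ⊥ := by
  let e : ↥L ≃* ↥L' :=
    { toFun := fun y => ⟨k * (y : X) * k⁻¹, (h _).2 (by
        rw [show k⁻¹ * (k * (y : X) * k⁻¹) * k = y by group]; exact y.2)⟩
      invFun := fun y => ⟨k⁻¹ * (y : X) * k, (h _).1 y.2⟩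
      left_inv := fun y => Subtype.ext (by simp [mul_assoc])
      right_inv := fun y => Subtype.ext (by simp [mul_assoc])
      map_mul' := fun p q => Subtype.ext (by simp [mul_assoc]) }
  have := CfsgLib.Cores.map_pPrimeCore_equiv (p := 2) e
  show Cfsg.pPrimeCore 2 ↥L' = ⊥
  rw [← this, show Cfsg.pPrimeCore 2 ↥L = ⊥ from hL, Subgroup.map_bot]

namespace Base

variable {d : X} {F : Type} [Field F] [Fintype F] [Finite X] (c : Base d F)
include c

variable (hline : ∀ a ∈ link (conjugatesOf d) d, ∀ b ∈ link (conjugatesOf d) d, ∀ e ∈ link (conjugatesOf d) d,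
    ∀ f ∈ link (conjugatesOf d) d, [a, b, e, f].Nodup → c.img a = c.img b → c.img a = c.img e → c.img a = c.img f →
      a * b * e * f = d)
  (hcore : ∀ v : X, (v ∈ link (conjugatesOf d) d ∨ ∃ a b, a ∈ link (conjugatesOf d) d ∧
      b ∈ link (conjugatesOf d) d ∧ a ≠ b ∧ c.img a = c.img b ∧ v = a * b) →
    Cfsg.oddCore ↥(Subgroup.centralizer ({d} : Set X) ⊓ Subgroup.centralizer ({v} : Set X)) = ⊥)

include hline hcore in
theorem oddCore_centralizer_pair {e : X} (he : e ∈ link (conjugatesOf d) d) :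
    Cfsg.oddCore ↥(Subgroup.centralizer ({d * e} : Set X)) = ⊥ := by
  have hde : Commute d e := he.2.2
  set v := d * e with hvdef
  have hdv : Commute d v := (Commute.refl d).mul_right hde
  have hev : Commute e v := hde.symm.mul_right (Commute.refl e)
  have hee := c.sq_of he.1
  have hce := hcore e (.inl he)
  have hevd : e * v = d := by rw [hvdef, hde.eq, ← mul_assoc, hee, one_mul]
  have hdvd : d * v = e := by rw [hvdef, ← mul_assoc, c.sq, one_mul]
  have hCd : Cfsg.oddCore ↥(Subgroup.centralizer ({d} : Set X) ⊓ Subgroup.centralizer ({v} : Set X)) = ⊥ := by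
    refine oddCore_conj (k := 1) (fun y => ?_) hce
    simp only [Subgroup.mem_inf, Subgroup.mem_centralizer_singleton_iff, inv_one, one_mul, mul_one]
    constructor
    · rintro ⟨h1, h2⟩
      refine ⟨h1, ?_⟩
      rw [← hdvd]
      exact (Commute.mul_right h1 h2).eq
    · rintro ⟨h1, h2⟩
      exact ⟨h1, (Commute.mul_right h1 h2).eq⟩
  have hCe : Cfsg.oddCore ↥(Subgroup.centralizer ({e} : Set X) ⊓ Subgroup.centralizer ({v} : Set X)) = ⊥ := by
    refine oddCore_conj (k := 1) (fun y => ?_) hce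
    simp only [Subgroup.mem_inf, Subgroup.mem_centralizer_singleton_iff, inv_one, one_mul, mul_one]
    constructor
    · rintro ⟨h1, h2⟩
      refine ⟨?_, h1⟩
      rw [← hevd]
      exact (Commute.mul_right h1 h2).eq
    · rintro ⟨h1, h2⟩
      exact ⟨h2, (Commute.mul_right h1 h2).eq⟩
  -- the other factors of the line of `e`
  have hsub : ({e} : Set X) ⊆ c.fib (c.img e) := by
    rintro x rfl
    exact ⟨he, rfl⟩
  have hS : (c.fib (c.img e) \ {e}).ncard = 3 := by
    rw [Set.ncard_sdiff hsub, c.fib_ncard (c.img_pt he), Set.ncard_singleton]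
  obtain ⟨f, g, h, hfg, hfh, hgh, hSeq⟩ := Set.ncard_eq_three.1 hS
  obtain ⟨hf, hfe⟩ : f ∈ c.fib (c.img e) \ {e} := by rw [hSeq]; simp
  obtain ⟨hg, hge⟩ : g ∈ c.fib (c.img e) \ {e} := by rw [hSeq]; simp
  obtain ⟨hh, hhe⟩ : h ∈ c.fib (c.img e) \ {e} := by rw [hSeq]; simp
  rw [Set.mem_singleton_iff] at hfe hge hhe
  have comm4 : ∀ {p q}, p ∈ c.fib (c.img e) → q ∈ c.fib (c.img e) → Commute p q := fun hp hq =>
    (c.commute_iff hp.1 hq.1).2 (by rw [hp.2, hq.2])
  -- each of them inverts the odd core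
  have hfac : ∀ f g h, f ∈ c.fib (c.img e) → g ∈ c.fib (c.img e) → h ∈ c.fib (c.img e) → f ≠ e → g ≠ e → h ≠ e →
      f ≠ g → f ≠ h → g ≠ h →
      Cfsg.oddCore ↥(Subgroup.centralizer ({f} : Set X) ⊓ Subgroup.centralizer ({v} : Set X)) = ⊥ := by
    intro f g h hf hg hh hfe hge hhe hfg hfh hgh
    have hl := hline e he f hf.1 g hg.1 h hh.1 (by simp [Ne.symm hfe, Ne.symm hge, Ne.symm hhe, hfg, hfh, hgh])
      hf.2.symm hg.2.symm hh.2.symm
    have hv' : v = f * (g * h) := by
      have h1 : e * d = f * (g * h) := by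
        rw [← hl]
        calc e * (e * f * g * h) = (e * e) * (f * (g * h)) := by group
          _ = _ := by rw [hee, one_mul]
      rw [hvdef, hde.eq, h1]
    obtain ⟨k, hk⟩ := isConj_iff.1 hf.1.1
    have hcm : ∀ {x y : X}, Commute x y → Commute (k⁻¹ * x * k) (k⁻¹ * y * k) := fun {x y} hxy => by
      simpa using hxy.map (MulAut.conj k⁻¹).toMonoidHom
    have hkd : k⁻¹ * f * k = d := by rw [← hk]; group
    have hmem : ∀ {x}, x ∈ conjugatesOf d → x ≠ f → Commute f x → k⁻¹ * x * k ∈ link (conjugatesOf d) d :=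
      fun {x} hx hxf hfx => ⟨by simpa using c.conj_mem (g := k⁻¹) hx, fun h0 => hxf (by
        rw [← hk, ← h0]; group), by simpa [hkd] using hcm hfx⟩
    have hgl := hmem hg.1.1 (Ne.symm hfg) (comm4 hf hg)
    have hhl := hmem hh.1.1 (Ne.symm hfh) (comm4 hf hh)
    have hnb : nb d f g = nb d f h := by
      have e1 := c.line_symm (IsConj.refl d) hf.1.1 hg.1.1 hf.1.2.1.symm (Ne.symm hfg) hf.1.2.2 (comm4 hf hg)
        ((c.same_iff hf.1 hg.1).1 (hf.2.trans hg.2.symm))
      have e2 := c.line_symm (IsConj.refl d) hf.1.1 hh.1.1 hf.1.2.1.symm (Ne.symm hfh) hf.1.2.2 (comm4 hf hh)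
        ((c.same_iff hf.1 hh.1).1 (hf.2.trans hh.2.symm))
      rw [← e1, ← e2]
    have himg : c.img (k⁻¹ * g * k) = c.img (k⁻¹ * h * k) := by
      rw [c.same_iff hgl hhl]
      have hconj : ∀ {x y}, Commute (k * x * k⁻¹) y ↔ Commute x (k⁻¹ * y * k) := fun {x y} =>
        ⟨fun hxy => by
          have := hcm hxy
          rwa [show k⁻¹ * (k * x * k⁻¹) * k = x by group] at this,
        fun hxy => by
          have := hxy.map (MulAut.conj k).toMonoidHom
          simpa [mul_assoc] using this⟩
      ext x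
      have key : ∀ y, x ∈ nb d d (k⁻¹ * y * k) ↔ k * x * k⁻¹ ∈ nb d f y := fun y => by
        constructor
        · rintro ⟨h1, h2, h3⟩
          exact ⟨c.conj_mem h1, hconj.2 (by rwa [hkd]), hconj.2 h3⟩
        · rintro ⟨h1, h2, h3⟩
          refine ⟨?_, by rw [← hkd]; exact hconj.1 h2, hconj.1 h3⟩
          have := c.conj_mem (g := k⁻¹) h1
          rwa [inv_inv, show k⁻¹ * (k * x * k⁻¹) * k = x by group] at this
      rw [key, key, hnb]
    have hne' : k⁻¹ * g * k ≠ k⁻¹ * h * k := fun h0 => hgh (mul_left_cancel (mul_right_cancel h0))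
    refine oddCore_conj (k := k) (fun y => ?_) (hcore _ (.inr ⟨_, _, hgl, hhl, hne', himg, rfl⟩))
    have hiff : ∀ x y : X, Commute (k⁻¹ * x * k) (k⁻¹ * y * k) ↔ Commute x y := fun x y => ⟨fun hxy => by
      have := hxy.map (MulAut.conj k).toMonoidHom
      simpa [mul_assoc] using this, hcm⟩
    have hgh' : k⁻¹ * g * k * (k⁻¹ * h * k) = k⁻¹ * (g * h) * k := by group
    simp only [Subgroup.mem_inf, Subgroup.mem_centralizer_singleton_iff]
    rw [hgh']
    have hd' := hiff y f
    rw [hkd] at hd'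
    constructor
    · rintro ⟨h1, h2⟩
      refine ⟨(hd'.2 h1).eq, ((hiff y (g * h)).2 ?_).eq⟩
      have := (show Commute y f from h1).inv_right.mul_right (show Commute y v from h2)
      rwa [hv', inv_mul_cancel_left] at this
    · rintro ⟨h1, h2⟩
      refine ⟨(hd'.1 h1).eq, ?_⟩
      rw [hv']
      exact ((hd'.1 h1).mul_right ((hiff y (g * h)).1 h2)).eq
  have hfv : ∀ {p}, p ∈ c.fib (c.img e) → Commute p v := fun {p} hp =>
    (link_comm hp.1).mul_right (comm4 hp ⟨he, rfl⟩)
  rw [Subgroup.eq_bot_iff_forall]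
  intro x hx
  have i1 := core_inverts_cent hdv c.sq hCd x hx
  have ie := core_inverts_cent hev hee hCe x hx
  have i_f := core_inverts_cent (hfv hf) (c.sq_of hf.1.1) (hfac f g h hf hg hh hfe hge hhe hfg hfh hgh) x hx
  have i_g := core_inverts_cent (hfv hg) (c.sq_of hg.1.1) (hfac g f h hg hf hh hge hfe hhe (Ne.symm hfg) hgh hfh) x hx
  have i_h := core_inverts_cent (hfv hh) (c.sq_of hh.1.1) (hfac h f g hh hf hg hhe hfe hge (Ne.symm hfh) (Ne.symm hgh) hfg) x hx
  have hl := hline e he f hf.1 g hg.1 h hh.1 (by simp [Ne.symm hfe, Ne.symm hge, Ne.symm hhe, hfg, hfh, hgh])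
    hf.2.symm hg.2.symm hh.2.symm
  have flip : ∀ {p : X}, p * (x : X) * p⁻¹ = (x : X)⁻¹ → p * (x : X)⁻¹ * p⁻¹ = (x : X) := fun {p} hp => by
    calc p * (x : X)⁻¹ * p⁻¹ = (p * (x : X) * p⁻¹)⁻¹ := by group
      _ = x := by rw [hp, inv_inv]
  have hfix : d * (x : X) * d⁻¹ = x := by
    rw [← hl]
    calc e * f * g * h * (x : X) * (e * f * g * h)⁻¹ = e * (f * (g * (h * x * h⁻¹) * g⁻¹) * f⁻¹) * e⁻¹ := by group
      _ = _ := by rw [i_h, flip i_g, i_f, flip ie]
  rw [hfix] at i1
  -- an element of odd order equal to its inverse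
  have h2 : x ^ 2 = 1 := Subtype.ext (by
    rw [pow_two]
    show (x : X) * x = 1
    nth_rw 2 [i1]
    exact mul_inv_cancel _)
  have hodd := CfsgLib.Cores.odd_card_oddCore (G := ↥(Subgroup.centralizer ({v} : Set X)))
  have h1 : orderOf x ∣ Nat.card ↥(Cfsg.oddCore ↥(Subgroup.centralizer ({v} : Set X))) := by
    have := orderOf_dvd_natCard (⟨x, hx⟩ : ↥(Cfsg.oddCore ↥(Subgroup.centralizer ({v} : Set X))))
    rwa [← Subgroup.orderOf_coe] at this
  have h3 := Nat.dvd_gcd (orderOf_dvd_of_pow_eq_one h2) h1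
  rw [Nat.Coprime.gcd_eq_one (Nat.coprime_two_left.2 hodd)] at h3
  exact orderOf_eq_one_iff.1 (Nat.dvd_one.1 h3)

include hline hcore in
/-- The centraliser of `d e` fixes the pair. -/
theorem pair_cent {e : X} (he : e ∈ link (conjugatesOf d) d) {g : X} (hg : Commute g (d * e)) :
    g * d * g⁻¹ = d ∨ g * d * g⁻¹ = e := by
  have hde : Commute d e := he.2.2
  set v := d * e with hvdef
  have hdv : Commute d v := (Commute.refl d).mul_right hde
  have hvv : v * v = 1 := by
    rw [hvdef, show d * e * (d * e) = d * (e * d) * e by group, ← hde.eq,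
      show d * (d * e) * e = (d * d) * (e * e) by group, c.sq, c.sq_of he.1, one_mul]
  have hdvd : d * v = e := by rw [hvdef, ← mul_assoc, c.sq, one_mul]
  have hv1 : v ≠ 1 := fun h => he.2.1 (by rw [← hdvd, h, mul_one])
  -- the conjugates under the centraliser whose images commute
  have iso : ∀ k : X, Commute k v →
      (Commute d (k * d * k⁻¹) ∨ d * (k * d * k⁻¹) * d = k * d * k⁻¹ * v) →
      k * d * k⁻¹ = d ∨ k * d * k⁻¹ = e := by
    intro k hk hcase
    set d' := k * d * k⁻¹ with hd'
    set e' := k * e * k⁻¹ with he'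
    have hd'D : d' ∈ conjugatesOf d := isConj_iff.2 ⟨k, rfl⟩
    have he'D : e' ∈ conjugatesOf d := c.conj_mem he.1
    have hv' : d' * e' = v := by
      rw [hd', he', show k * d * k⁻¹ * (k * e * k⁻¹) = k * v * k⁻¹ by rw [hvdef]; group, hk.eq,
        mul_inv_cancel_right]
    have hd'e' : Commute d' e' := by simpa [hd', he', MulAut.conj_apply] using hde.map (MulAut.conj k).toMonoidHom
    have hd'v : Commute d' v := by rw [← hv']; exact (Commute.refl d').mul_right hd'e'
    have unique : Commute d' d → d' = d ∨ d' = e := fun hc => by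
      refine c.pair_unique_of_comm hd'D he'D (IsConj.refl d) he.1
        (fun h => he.2.1 (mul_left_cancel (mul_right_cancel h))) hv' hd'e' hc ?_ hde
      rw [← hdvd]
      exact hc.mul_right hd'v
    rcases hcase with hc | hc
    · exact unique hc.symm
    exfalso
    have hd'sq := c.sq_of hd'D
    have hd'i := c.inv_of hd'D
    have hdd' : d' * d * d' = e := by
      calc d' * d * d' = d' * (d * d' * d) * d := by
            rw [show d' * (d * d' * d) * d = d' * d * d' * (d * d) by group, c.sq, mul_one]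
        _ = d' * (d' * v) * d := by rw [hc]
        _ = (d' * d') * (v * d) := by group
        _ = e := by rw [hd'sq, one_mul, ← hdv.eq, hdvd]
    have hnc : ¬ Commute d d' := fun h => by
      refine hv1 ?_
      have h1 : d' = d' * v := by rw [← hc, h.eq, mul_assoc, c.sq, mul_one]
      exact (mul_eq_left.1 h1.symm)
    obtain ⟨y, hy, hyc⟩ := c.exists_fixed (v := d') hd'sq (by
      rw [hd'i, hdd']
      exact .single ⟨he.1, hde⟩)
    rcases c.linked_cases (.tail hy ⟨hd'D, hyc.symm⟩) with h | h | h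
    · exact hnc (by rw [h])
    · exact hnc h.2.2
    · have h2 : d' * v = e := by rw [← hc, c.braid_far h, hdd']
      have h3 : d' = d := by
        calc d' = d' * v * v := by rw [mul_assoc, hvv, mul_one]
          _ = e * v := by rw [h2]
          _ = d := by rw [hvdef, hde.eq, ← mul_assoc, c.sq_of he.1, one_mul]
      exact hnc (by rw [h3])
  -- the image is isolated
  set H := Subgroup.centralizer ({v} : Set X) with hH
  set vh : ↥H := ⟨v, Subgroup.mem_centralizer_singleton_iff.2 rfl⟩ with hvh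
  set N := Subgroup.zpowers vh with hN
  have hNc : N ≤ Subgroup.center ↥H := by
    rw [hN, Subgroup.zpowers_le, Subgroup.mem_center_iff]
    exact fun y => Subtype.ext (Subgroup.mem_centralizer_singleton_iff.1 y.2)
  haveI : N.Normal := ⟨fun n hn g => by rw [Subgroup.mem_center_iff.1 (hNc hn) g, mul_inv_cancel_right]; exact hn⟩
  have hvh2 : vh ^ 2 = 1 := by rw [pow_two]; exact Subtype.ext hvv
  have hNmem : ∀ y : ↥H, y ∈ N → (y : X) = 1 ∨ (y : X) = v := by
    intro y hy
    obtain ⟨i, rfl⟩ := Subgroup.mem_zpowers_iff.1 hy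
    rcases Int.even_or_odd i with ⟨j, rfl⟩ | ⟨j, rfl⟩
    · left
      rw [← two_mul, zpow_mul, show vh ^ (2 : ℤ) = 1 from by exact_mod_cast hvh2, one_zpow]; rfl
    · right
      rw [zpow_add, zpow_mul, show vh ^ (2 : ℤ) = 1 from by exact_mod_cast hvh2, one_zpow, one_mul, zpow_one]
  have hN2 : IsPGroup 2 N := fun y => ⟨1, Subtype.ext (by
    obtain ⟨i, hi⟩ := Subgroup.mem_zpowers_iff.1 y.2
    show ((y ^ 2 ^ 1 : ↥N) : ↥H) = 1
    rw [pow_one, SubmonoidClass.coe_pow, ← hi, ← zpow_natCast, ← zpow_mul, mul_comm, zpow_mul, zpow_natCast, hvh2,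
      one_zpow])⟩
  set dh : ↥H := ⟨d, Subgroup.mem_centralizer_singleton_iff.2 hdv⟩ with hdh
  set π := QuotientGroup.mk' N with hπ
  have hcl : ∀ y : ↥H, π y = π dh → (y : X) = d ∨ (y : X) = e := by
    intro y hy
    rcases hNmem _ (QuotientGroup.eq.1 hy.symm) with h | h <;>
      simp only [Subgroup.coe_mul, Subgroup.coe_inv, hdh] at h
    · exact .inl (inv_mul_eq_one.1 h).symm
    · exact .inr ((inv_mul_eq_iff_eq_mul.1 h).trans hdvd)
  have hπd1 : π dh ≠ 1 := fun h => by
    rcases hNmem _ ((QuotientGroup.eq_one_iff dh).1 h) with h' | h'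
    · exact c.ne h'
    · refine c.ne_of he.1 ?_
      rw [← hdvd, ← h']
      exact c.sq
  have hisol : Cfsg.IsIsolatedInvolution (π dh) := by
    refine ⟨orderOf_eq_prime (by rw [pow_two, ← map_mul, show dh * dh = 1 from Subtype.ext c.sq, map_one]) hπd1, ?_⟩
    intro q hq
    obtain ⟨k, rfl⟩ := QuotientGroup.mk'_surjective N q
    rw [← map_inv, ← map_mul, ← map_mul] at hq ⊢
    set dh' := k * dh * k⁻¹ with hdh'
    have hc : (dh' : X) = d ∨ (dh' : X) = e := by
      refine iso k (Subgroup.mem_centralizer_singleton_iff.1 k.2) ?_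
      have hq' : π (dh * dh' * dh) = π dh' := by
        rw [map_mul, map_mul, hq.eq, mul_assoc, ← map_mul π dh dh, show dh * dh = 1 from Subtype.ext c.sq, map_one,
          mul_one]
      rcases hNmem _ (QuotientGroup.eq.1 hq'.symm) with h | h <;>
        simp only [hdh, Subgroup.coe_mul, Subgroup.coe_inv] at h
      · left
        have h1 := (inv_mul_eq_one.1 h).symm
        show d * _ = _ * d
        calc d * ((k : X) * d * (k : X)⁻¹) = d * ((k : X) * d * (k : X)⁻¹) * d * d := by
              rw [mul_assoc _ d d, c.sq, mul_one]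
          _ = (k : X) * d * (k : X)⁻¹ * d := by rw [show d * ((k : X) * d * (k : X)⁻¹) * d = _ from h1]; rfl
      · right
        exact inv_mul_eq_iff_eq_mul.1 h
    refine QuotientGroup.eq.2 ?_
    rcases hc with h | h
    · rw [show dh' = dh from Subtype.ext h, inv_mul_cancel]; exact N.one_mem
    · rw [show dh' = dh * vh from Subtype.ext (h.trans hdvd.symm), mul_inv_rev, inv_mul_cancel_right]
      exact N.inv_mem (Subgroup.mem_zpowers vh)
  have hO := CfsgLib.Invol.oddCore_quotient_central_two (c.oddCore_centralizer_pair hline hcore he) N hN2 hNc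
  have hcen := CfsgLib.Invol.zstar_center hisol hO
  set gh : ↥H := ⟨g, Subgroup.mem_centralizer_singleton_iff.2 hg⟩
  refine hcl (gh * dh * gh⁻¹) ?_
  rw [map_mul, map_mul, map_inv, Subgroup.mem_center_iff.1 hcen (π gh), mul_inv_cancel_right]

include hline hcore in
/-- The condition on products of two. -/
theorem pairFix : PairFix d := fun _ he _ hg => c.pair_cent hline hcore he hg

end Base

end CfsgLib.U6Central
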