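import Cfsg.Agent.Lib.U6Central.Whole
import Cfsg.Agent.Lib.Cores.Basic

/-!
# The odd core of the centraliser of `d e`

The conjugates over the point of `e`, and `d`, invert it; `d` is the product of the four lifts of that point.
-/

set_option autoImplicit false
set_option linter.unusedSectionVars false

open scoped Classical

namespace CfsgLib.U6Central

open Cfsg CfsgLib.SURadical
open CfsgLib.ThreeTransp (link)

variable {X : Type*} [Group X] {d : X} {F : Type} [Field F] [Fintype F]

/-- No odd subgroup but the trivial one is normalised. -/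
def NoOdd (H : Subgroup X) : Prop :=
  ∀ O : Subgroup X, O ≤ H → H ≤ Subgroup.normalizer (O : Set X) → Odd (Nat.card ↥O) → O = ⊥

theorem noOdd_of_oddCore [Finite X] {H : Subgroup X} (h : Cfsg.oddCore ↥H = ⊥) : NoOdd H := by
  intro O hle hn hodd
  have : (O.subgroupOf H).Normal := (Subgroup.normal_subgroupOf_iff_le_normalizer hle).2 hn
  have h1 : O.subgroupOf H ≤ ⊥ := h ▸ CfsgLib.Cores.le_oddCore_of_odd (by
    rwa [Nat.card_congr (Subgroup.subgroupOfEquivOfLe hle).toEquiv])
  rwa [le_bot_iff, Subgroup.subgroupOf_eq_bot, disjoint_iff, inf_of_le_left hle] at h1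

theorem NoOdd.conj [Finite X] {H : Subgroup X} (h : NoOdd H) (k : X) :
    NoOdd (H.map (MulAut.conj k).toMonoidHom) := by
  intro O hle hn hodd
  have hH : (H.map (MulAut.conj k).toMonoidHom).map (MulAut.conj k⁻¹).toMonoidHom = H := by
    rw [Subgroup.map_map]
    convert Subgroup.map_id H using 2
    ext x
    simp [MulAut.conj_apply, mul_assoc]
  have hO := h (O.map (MulAut.conj k⁻¹).toMonoidHom) (by
      conv_rhs => rw [← hH]
      exact Subgroup.map_mono hle) (by
      conv_lhs => rw [← hH]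
      exact (Subgroup.map_mono hn).trans (Subgroup.le_normalizer_map _))
    (by rwa [Subgroup.card_map_of_injective (MulAut.conj k⁻¹).injective])
  rwa [Subgroup.map_eq_bot_iff_of_injective _ (MulAut.conj k⁻¹).injective] at hO

/-- An involution without fixed points on an odd normal subgroup inverts it. -/
theorem inverts_of_noOdd [Finite X] {H O : Subgroup X} {x : X} (hx : x * x = 1) (hxH : x ∈ H) (hle : O ≤ H)
    (hn : H ≤ Subgroup.normalizer (O : Set X)) (hodd : Odd (Nat.card ↥O))
    (h : NoOdd (Subgroup.centralizer ({x} : Set X) ⊓ H)) {o : X} (ho : o ∈ O) : x * o * x = o⁻¹ := by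
  have hxi : x⁻¹ = x := inv_eq_of_mul_eq_one_right hx
  have hxO : ∀ {y : X}, y ∈ O → x * y * x ∈ O := fun {y} hy => by
    have := (Subgroup.mem_normalizer_iff.1 (hn hxH) y).1 hy
    rwa [hxi] at this
  have hfix : O ⊓ Subgroup.centralizer ({x} : Set X) = ⊥ := by
    refine h _ (le_inf inf_le_right (inf_le_left.trans hle)) (fun k hk => Subgroup.mem_normalizer_iff.2 fun y => ?_)
      (hodd.of_dvd_nat (Subgroup.card_dvd_of_le inf_le_left))
    obtain ⟨hk1, hk2⟩ : k ∈ Subgroup.centralizer ({x} : Set X) ∧ k ∈ H := Subgroup.mem_inf.1 hk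
    refine and_congr (Subgroup.mem_normalizer_iff.1 (hn hk2) y) ⟨fun hy => ?_, fun hy => ?_⟩
    · exact Subgroup.mul_mem _ (Subgroup.mul_mem _ hk1 hy) (Subgroup.inv_mem _ hk1)
    · have := Subgroup.mul_mem _ (Subgroup.mul_mem _ (Subgroup.inv_mem _ hk1) hy) hk1
      rwa [show k⁻¹ * (k * y * k⁻¹) * k = y by group] at this
  let φ : ↥O →* ↥O :=
    { toFun := fun y => ⟨x * y * x, hxO y.2⟩
      map_one' := Subtype.ext (by simp [hx])
      map_mul' := fun a b => Subtype.ext (by
        show x * ((a : X) * (b : X)) * x = x * (a : X) * x * (x * (b : X) * x)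
        rw [show x * (a : X) * x * (x * (b : X) * x) = x * (a : X) * (x * x) * (b : X) * x by group, hx]
        group) }
  have hfp : MonoidHom.FixedPointFree φ := fun y hy => by
    have hy' : x * (y : X) * x = (y : X) := congrArg Subtype.val hy
    have hm : (y : X) ∈ O ⊓ Subgroup.centralizer ({x} : Set X) := by
      refine ⟨y.2, Subgroup.mem_centralizer_singleton_iff.2 ?_⟩
      calc (y : X) * x = x * (y : X) * x * x := by rw [hy']
        _ = x * (y : X) := by rw [mul_assoc _ x x, hx, mul_one]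
    rw [hfix, Subgroup.mem_bot] at hm
    exact Subtype.ext hm
  have hinv : Function.Involutive φ := fun y => Subtype.ext (by
    show x * (x * (y : X) * x) * x = (y : X)
    rw [show x * (x * (y : X) * x) * x = (x * x) * (y : X) * (x * x) by group, hx, one_mul, mul_one])
  exact congrArg Subtype.val (congrFun (hfp.coe_eq_inv_of_involutive hinv) ⟨o, ho⟩)

theorem centralizer_inf_eq {x v : X} (hx : x * x = 1) :
    Subgroup.centralizer ({x} : Set X) ⊓ Subgroup.centralizer ({v} : Set X) =
      Subgroup.centralizer ({x} : Set X) ⊓ Subgroup.centralizer ({x * v} : Set X) := by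
  ext g
  simp only [Subgroup.mem_inf, Subgroup.mem_centralizer_singleton_iff]
  refine and_congr_right fun h1 => ⟨fun h2 => ?_, fun h2 => ?_⟩
  · rw [← mul_assoc, h1, mul_assoc, h2, mul_assoc]
  · have : x * (g * v) = x * (v * g) := by rw [← mul_assoc x g, ← h1, mul_assoc g, h2, mul_assoc]
    exact mul_left_cancel this

namespace Base

variable [Finite X] (c : Base d F)
include c

/-- The odd core of the centraliser of `d e` is trivial. -/
theorem oddCore_pair
    (hline : ∀ a ∈ link (conjugatesOf d) d, ∀ b ∈ link (conjugatesOf d) d, ∀ e ∈ link (conjugatesOf d) d,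
      ∀ f ∈ link (conjugatesOf d) d, [a, b, e, f].Nodup → c.img a = c.img b → c.img a = c.img e →
        c.img a = c.img f → a * b * e * f = d)
    (hcore : ∀ v, (v ∈ link (conjugatesOf d) d ∨ ∃ a ∈ link (conjugatesOf d) d, ∃ b ∈ link (conjugatesOf d) d,
      a ≠ b ∧ c.img a = c.img b ∧ v = a * b) →
      Cfsg.oddCore ↥(Subgroup.centralizer ({d} : Set X) ⊓ Subgroup.centralizer ({v} : Set X)) = ⊥)
    {e : X} (he : e ∈ link (conjugatesOf d) d) :
    Cfsg.oddCore ↥(Subgroup.centralizer ({d * e} : Set X)) = ⊥ := by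
  set H := Subgroup.centralizer ({d * e} : Set X)
  set O := (Cfsg.oddCore ↥H).map H.subtype with hOdef
  have hle : O ≤ H := Subgroup.map_subtype_le _
  have hodd : Odd (Nat.card ↥O) := by
    rw [hOdef, Subgroup.card_map_of_injective Subtype.val_injective]
    exact CfsgLib.Cores.odd_card_oddCore
  have hn : H ≤ Subgroup.normalizer (O : Set X) := by
    refine (Subgroup.normal_subgroupOf_iff_le_normalizer hle).1 ?_
    have hsub : O.subgroupOf H = Cfsg.oddCore ↥H :=
      Subgroup.comap_map_eq_self_of_injective Subtype.val_injective _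
    rw [hsub]
    infer_instance
  have hed : Commute d e := he.2.2
  have hmemH : ∀ {x : X}, Commute x d → Commute x e → x ∈ H := fun h1 h2 =>
    Subgroup.mem_centralizer_singleton_iff.2 (h1.mul_right h2).eq
  have hcd : NoOdd (Subgroup.centralizer ({d} : Set X) ⊓ H) := by
    have := noOdd_of_oddCore (hcore e (.inl he))
    rwa [centralizer_inf_eq c.sq] at this
  have hdinv : ∀ {o}, o ∈ O → d * o * d = o⁻¹ := fun ho =>
    inverts_of_noOdd c.sq (hmemH (Commute.refl d) hed) hle hn hodd hcd ho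
  have heinv : ∀ {o}, o ∈ O → e * o * e = o⁻¹ := fun ho => by
    refine inverts_of_noOdd (c.sq_of he.1) (hmemH hed.symm (Commute.refl e)) hle hn hodd ?_ ho
    have := noOdd_of_oddCore (hcore e (.inl he))
    rw [inf_comm, centralizer_inf_eq (c.sq_of he.1)] at this
    rwa [← hed.eq] at this
  have hS : (c.fib (c.img e) \ {e}).ncard = 3 := by
    rw [Set.ncard_sdiff_singleton_of_mem (show e ∈ c.fib (c.img e) from ⟨he, rfl⟩), c.fib_ncard (c.img_pt he)]
  obtain ⟨f, g, h, hfg, hfh, hgh, hS'⟩ := Set.ncard_eq_three.1 hS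
  have hmem : ∀ {x}, x ∈ ({f, g, h} : Set X) → x ∈ link (conjugatesOf d) d ∧ c.img x = c.img e ∧ x ≠ e := by
    intro x hx
    rw [← hS'] at hx
    exact ⟨hx.1.1, hx.1.2, hx.2⟩
  -- another lift inverts
  have key : ∀ {f g h : X}, f ∈ link (conjugatesOf d) d → g ∈ link (conjugatesOf d) d →
      h ∈ link (conjugatesOf d) d → c.img f = c.img e → c.img g = c.img e → c.img h = c.img e →
      [e, f, g, h].Nodup → ∀ {o}, o ∈ O → f * o * f = o⁻¹ := by
    intro f g h hf hg hh hfi hgi hhi hnd o ho
    have hl := hline e he f hf g hg h hh hnd hfi.symm hgi.symm hhi.symm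
    simp only [List.nodup_cons, List.mem_cons, List.not_mem_nil, or_false, not_or, List.nodup_nil, and_true,
      not_false_eq_true] at hnd
    obtain ⟨-, ⟨hfg, hfh⟩, hgh⟩ := hnd
    have hfe : Commute f e := (c.commute_iff hf he).2 (by rw [hfi])
    refine inverts_of_noOdd (c.sq_of hf.1) (hmemH (link_comm hf) hfe) hle hn hodd ?_ ho
    have hv : f * (d * e) = g * h := by
      calc f * (d * e) = f * (e * d) := by rw [hed.eq]
        _ = f * (e * (e * f * g * h)) := by rw [hl]
        _ = (f * (e * e) * f) * (g * h) := by group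
        _ = g * h := by rw [c.sq_of he.1, mul_one, c.sq_of hf.1, one_mul]
    rw [centralizer_inf_eq (v := d * e) (c.sq_of hf.1), hv]
    obtain ⟨k, hk⟩ := isConj_iff.1 hf.1
    have hcm : ∀ {x y : X}, Commute x y → Commute (k⁻¹ * x * k) (k⁻¹ * y * k) := fun {x y} hxy => by
      simpa using hxy.map (MulAut.conj k⁻¹).toMonoidHom
    have hd : k⁻¹ * f * k = d := by rw [← hk]; group
    have hlk : ∀ {x}, x ∈ conjugatesOf d → x ≠ f → Commute f x → k⁻¹ * x * k ∈ link (conjugatesOf d) d :=
      fun {x} hx hne hfx => ⟨hx.trans (isConj_iff.2 ⟨k⁻¹, by group⟩),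
        fun e' => hne (by rw [← hk, ← e']; group), hd ▸ hcm hfx⟩
    have hg' := hlk hg.1 (Ne.symm hfg) ((c.commute_iff hf hg).2 (by rw [hfi, hgi]))
    have hh' := hlk hh.1 (Ne.symm hfh) ((c.commute_iff hf hh).2 (by rw [hfi, hhi]))
    have hnb : nb d f g = nb d f h := by
      rw [← c.line_symm (IsConj.refl d) hf.1 hg.1 hf.2.1.symm (Ne.symm hfg) hf.2.2
          ((c.commute_iff hf hg).2 (by rw [hfi, hgi])) ((c.same_iff hf hg).1 (hfi.trans hgi.symm)),
        ← c.line_symm (IsConj.refl d) hf.1 hh.1 hf.2.1.symm (Ne.symm hfh) hf.2.2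
          ((c.commute_iff hf hh).2 (by rw [hfi, hhi])) ((c.same_iff hf hh).1 (hfi.trans hhi.symm))]
    have himg : c.img (k⁻¹ * g * k) = c.img (k⁻¹ * h * k) := by
      refine (c.same_iff hg' hh').2 ?_
      have hback : ∀ {x y : X}, Commute x (k⁻¹ * y * k) ↔ Commute (k * x * k⁻¹) y := fun {x y} => by
        constructor <;> intro hxy
        · have := hxy.map (MulAut.conj k).toMonoidHom
          simpa [MulAut.conj_apply, mul_assoc] using this
        · have := hcm hxy
          rwa [show k⁻¹ * (k * x * k⁻¹) * k = x by group] at this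
      ext x
      have hx := Set.ext_iff.1 hnb (k * x * k⁻¹)
      simp only [nb, Set.mem_setOf_eq] at hx ⊢
      have e1 : x ∈ conjugatesOf d ↔ k * x * k⁻¹ ∈ conjugatesOf d :=
        ⟨fun hx => hx.trans (isConj_iff.2 ⟨k, rfl⟩), fun hx => hx.trans (isConj_iff.2 ⟨k⁻¹, by group⟩)⟩
      have e2 : Commute x d ↔ Commute (k * x * k⁻¹) f := by rw [← hd]; exact hback
      rw [hback, hback, e1, e2]
      exact hx
    have h1 := (noOdd_of_oddCore (hcore _ (.inr ⟨_, hg', _, hh', fun e' => hgh (by simpa using e'), himg, rfl⟩))).conj k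
    convert h1 using 1
    have hmap : ∀ y : X, (Subgroup.centralizer ({k⁻¹ * y * k} : Set X)).map (MulAut.conj k).toMonoidHom =
        Subgroup.centralizer ({y} : Set X) := by
      intro y
      ext x
      rw [Subgroup.mem_map_equiv, Subgroup.mem_centralizer_singleton_iff, Subgroup.mem_centralizer_singleton_iff,
        MulAut.conj_symm_apply]
      constructor <;> intro hxy
      · calc x * y = k * (k⁻¹ * x * k * (k⁻¹ * y * k)) * k⁻¹ := by group
          _ = y * x := by rw [hxy]; group
      · calc k⁻¹ * x * k * (k⁻¹ * y * k) = k⁻¹ * (x * y) * k := by group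
          _ = k⁻¹ * y * k * (k⁻¹ * x * k) := by rw [hxy]; group
    rw [Subgroup.map_inf _ _ _ (MulAut.conj k).injective, ← hd, hmap,
      show k⁻¹ * g * k * (k⁻¹ * h * k) = k⁻¹ * (g * h) * k by group, hmap]
  obtain ⟨hf, hfi, hfe⟩ := hmem (x := f) (by simp)
  obtain ⟨hg, hgi, hge⟩ := hmem (x := g) (by simp)
  obtain ⟨hh, hhi, hhe⟩ := hmem (x := h) (by simp)
  have hnd : [e, f, g, h].Nodup := by simp [Ne.symm hfe, Ne.symm hge, Ne.symm hhe, hfg, hfh, hgh]
  have hfinv : ∀ {o}, o ∈ O → f * o * f = o⁻¹ := key hf hg hh hfi hgi hhi hnd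
  have hginv : ∀ {o}, o ∈ O → g * o * g = o⁻¹ := key hg hf hh hgi hfi hhi
    (by simp [Ne.symm hfe, Ne.symm hge, Ne.symm hhe, hfg.symm, hfh, hgh])
  have hhinv : ∀ {o}, o ∈ O → h * o * h = o⁻¹ := key hh hf hg hhi hfi hgi
    (by simp [Ne.symm hfe, Ne.symm hge, Ne.symm hhe, hfg, hfh.symm, hgh.symm])
  have hl := hline e he f hf g hg h hh hnd hfi.symm hgi.symm hhi.symm
  rw [Subgroup.eq_bot_iff_forall]
  intro x hx
  have hxO : (x : X) ∈ O := ⟨x, hx, rfl⟩
  have e4 : d * (x : X) * d = (x : X) := by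
    have hd' : d = h⁻¹ * g⁻¹ * f⁻¹ * e⁻¹ := by
      rw [show h⁻¹ * g⁻¹ * f⁻¹ * e⁻¹ = (e * f * g * h)⁻¹ by group, hl, c.inv_of (IsConj.refl d)]
    have e1 := hd'
    rw [c.inv_of hh.1, c.inv_of hg.1, c.inv_of hf.1, c.inv_of he.1] at e1
    calc d * (x : X) * d = e * f * g * h * (x : X) * (h * g * f * e) := by
          conv_lhs => arg 1; arg 1; rw [← hl]
          conv_lhs => arg 2; rw [e1]
      _ = e * (f * (g * (h * (x : X) * h) * g) * f) * e := by group
      _ = (x : X) := by
          rw [hhinv hxO, hginv (inv_mem hxO), inv_inv, hfinv hxO, heinv (inv_mem hxO), inv_inv]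
  have e2 : (x : X) * (x : X) = 1 := by
    have := hdinv hxO
    rw [e4] at this
    nth_rw 2 [this]
    exact mul_inv_cancel _
  have h2 : orderOf (⟨(x : X), hxO⟩ : ↥O) ∣ Nat.gcd 2 (Nat.card ↥O) :=
    Nat.dvd_gcd (orderOf_dvd_of_pow_eq_one (Subtype.ext (by rw [SubmonoidClass.coe_pow, pow_two]; exact e2)))
      (orderOf_dvd_natCard _)
  rw [(Nat.coprime_two_left.2 hodd).gcd_eq_one, Nat.dvd_one, orderOf_eq_one_iff] at h2
  exact Subtype.ext (congrArg (fun y : ↥O => (y : X)) h2)

end Base

end CfsgLib.U6Central
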