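import Cfsg.Agent.Lib.U6Central.Para

/-!
# Two groups with the same local data have isomorphic commuting graphs of conjugates

The translations of the two groups correspond; so do the conjugates, by labels and by translations of the bases.
-/

set_option autoImplicit false
set_option linter.unusedSectionVars false
set_option linter.unusedSimpArgs false
set_option maxHeartbeats 600000

open scoped Classical

namespace CfsgLib.U6Central

open Cfsg CfsgLib.SURadical
open CfsgLib.PSUAut (Isot act)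
open CfsgLib.ThreeTransp (link)

variable {X X' : Type*} [Group X] [Group X'] [Finite X] [Finite X'] {d : X} {d' : X'}
  {F : Type} [Field F] [Fintype F] {c : Central d F} {c' : Central d' F}

theorem twist {G : Type*} [Group G] {u v e z : G} (hu : Commute u e) (he : Commute v e) (hz : Commute z e)
    (hzu : Commute z u) (h : u * v * u⁻¹ = v * z) : u * e * (v * e) = v * e * (u * e) * z := by
  have h' : u * v = v * z * u := mul_inv_eq_iff_eq_mul.1 h
  have hz2 : Commute z (e * e) := hz.mul_right hz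
  calc u * e * (v * e) = u * (e * v) * e := by group
    _ = u * v * (e * e) := by rw [he.symm.eq]; group
    _ = v * (u * z) * (e * e) := by rw [h', mul_assoc v z u, hzu.eq]
    _ = v * u * (z * (e * e)) := by group
    _ = v * (u * e) * e * z := by rw [hz2.eq]; group
    _ = v * (e * u) * e * z := by rw [hu.eq]
    _ = v * e * (u * e) * z := by group

theorem commute_conj_pair {Y : Type*} [Group Y] {g h y : Y} :
    Commute (g * y * g⁻¹) (h * y * h⁻¹) ↔ Commute y (g⁻¹ * h * y * (g⁻¹ * h)⁻¹) := by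
  constructor <;> intro k
  · simpa [MulAut.conj_apply, mul_assoc] using k.map (MulAut.conj g⁻¹).toMonoidHom
  · simpa [MulAut.conj_apply, mul_assoc] using k.map (MulAut.conj g).toMonoidHom

/-- `z` is `1` or the central pair. -/
def IsZPair (d : X) (d' : X') (z : X × X') : Prop := z = 1 ∨ z = (d, d')

namespace Central

variable (R : Frame c) (R' : Frame c')
include R R'

local notation "H4" => Cfsg.hermForm 4 F 2

/-- The pair of the translations by an isotropic vector. -/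
noncomputable def Frame.vv (p : Fin 4 → F) : X × X' := (R.vel p, R'.vel p)

/-- The corresponding translations. -/
def Frame.pairs : Subgroup (X × X') :=
  Subgroup.closure (insert (d, d') (Frame.vv R R' '' {p | Cfsg.hermForm 4 F 2 p p = 0}))

theorem Frame.dd_mem : (d, d') ∈ Frame.pairs R R' := Subgroup.subset_closure (Set.mem_insert _ _)

theorem Frame.vv_mem {p : Fin 4 → F} (hp : H4 p p = 0) : Frame.vv R R' p ∈ Frame.pairs R R' :=
  Subgroup.subset_closure (Set.mem_insert_of_mem _ ⟨p, hp, rfl⟩)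

theorem Frame.pairs_shift {γ : X × X'} (h : γ ∈ Frame.pairs R R') :
    ∃ q, R.IsShift γ.1 q ∧ R'.IsShift γ.2 q := by
  induction h using Subgroup.closure_induction with
  | mem x hx =>
    rcases hx with rfl | ⟨p, hp, rfl⟩
    · exact ⟨0, R.shift_d, R'.shift_d⟩
    · exact ⟨p, R.vel_shift hp, R'.vel_shift hp⟩
  | one => exact ⟨0, R.shift_zero, R'.shift_zero⟩
  | mul a b _ _ iha ihb =>
    obtain ⟨p, hp, hp'⟩ := iha
    obtain ⟨q, hq, hq'⟩ := ihb
    exact ⟨p + q, R.shift_mul hp hq, R'.shift_mul hp' hq'⟩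
  | inv a _ iha =>
    obtain ⟨p, hp, hp'⟩ := iha
    exact ⟨p, R.shift_inv hp, R'.shift_inv hp'⟩

theorem Frame.z_mul {z w : X × X'} (hz : IsZPair d d' z) (hw : IsZPair d d' w) : IsZPair d d' (z * w) := by
  rcases hz with rfl | rfl
  · rw [one_mul]; exact hw
  rcases hw with rfl | rfl
  · rw [mul_one]; exact Or.inr rfl
  · exact Or.inl (Prod.ext c.sq c'.sq)

theorem Frame.z_comm {z : X × X'} (hz : IsZPair d d' z) {γ : X × X'} (h : γ ∈ Frame.pairs R R') :
    Commute z γ := by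
  rcases hz with rfl | rfl
  · exact Commute.one_left _
  · obtain ⟨q, hq, hq'⟩ := Frame.pairs_shift R R' h
    exact Prod.ext hq.2.1.symm.eq hq'.2.1.symm.eq

theorem Frame.vv_add {p q : Fin 4 → F} (hp : H4 p p = 0) (hq : H4 q q = 0) (hpq : H4 p q = 0) :
    Frame.vv R R' (p + q) = Frame.vv R R' p * Frame.vv R R' q :=
  Prod.ext (R.vel_add hp hq hpq) (R'.vel_add hp hq hpq)

theorem Frame.vel_one {p : Fin 4 → F} (hp : H4 p p = 0) : R.vel p * R.vel p = 1 ∧ R'.vel p * R'.vel p = 1 := by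
  rw [← R.vel_add hp hp hp, ← R'.vel_add hp hp hp, SURadical.vadd_self c.hF]
  exact ⟨if_pos rfl, if_pos rfl⟩

theorem Frame.vv_inv {p : Fin 4 → F} (hp : H4 p p = 0) : (Frame.vv R R' p)⁻¹ = Frame.vv R R' p :=
  inv_eq_of_mul_eq_one_left (Prod.ext (Frame.vel_one R R' hp).1 (Frame.vel_one R R' hp).2)

theorem Frame.vv_comm {p q : Fin 4 → F} (hp : H4 p p = 0) (hq : H4 q q = 0) :
    ∃ z, IsZPair d d' z ∧ Frame.vv R R' p * Frame.vv R R' q = Frame.vv R R' q * Frame.vv R R' p * z := by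
  by_cases h0 : H4 q p = 0
  · refine ⟨1, Or.inl rfl, ?_⟩
    rw [mul_one, ← Frame.vv_add R R' hp hq ((comm_zero c.hF).1 h0), ← Frame.vv_add R R' hq hp h0, add_comm p q]
  have hp0 : p ≠ 0 := fun h => h0 (by rw [h, zero_right c.hF])
  have hq0 : q ≠ 0 := fun h => h0 (by rw [h, zero_left c.hF])
  have ip : Isot 2 p := ⟨hp0, hp⟩
  have iq : Isot 2 q := ⟨hq0, hq⟩
  have k₁ := R.uel_conj_uel ip iq h0
  have k₂ := R'.uel_conj_uel ip iq h0
  have cp := (R.uel_props ip).1
  have cq := (R.uel_props iq).1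
  have cp' := (R'.uel_props ip).1
  have cq' := (R'.uel_props iq).1
  simp only [Frame.vv, Frame.vel, if_neg hp0, if_neg hq0]
  by_cases h1 : H4 q p = 1
  · rw [if_pos h1] at k₁ k₂
    refine ⟨1, Or.inl rfl, Prod.ext ?_ ?_⟩
    · exact twist cp cq (Commute.one_left _) (Commute.one_left _) ((mul_one (R.uel q)).symm ▸ k₁)
    · exact twist cp' cq' (Commute.one_left _) (Commute.one_left _) ((mul_one (R'.uel q)).symm ▸ k₂)
  · rw [if_neg h1] at k₁ k₂
    exact ⟨(d, d'), Or.inr rfl, Prod.ext (twist cp cq (Commute.refl d) cp.symm k₁)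
      (twist cp' cq' (Commute.refl d') cp'.symm k₂)⟩

/-- Every pair is a product over a quadrangle. -/
theorem Frame.normal_form {e₁ e₂ f₁ f₂ : Fin 4 → F} (Q : Quad e₁ e₂ f₁ f₂) {γ : X × X'}
    (h : γ ∈ Frame.pairs R R') : ∃ a b u v : F, ∃ z, IsZPair d d' z ∧
      γ = Frame.vv R R' (a • e₁) * Frame.vv R R' (b • e₂) * Frame.vv R R' (u • f₁) *
        Frame.vv R R' (v • f₂) * z := by
  have iso : ∀ {e : Fin 4 → F}, Isot 2 e → ∀ a : F, H4 (a • e) (a • e) = 0 := fun he a => by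
    rw [smul_left c.hF, SURadical.smul_right c.hF, he.2, mul_zero, mul_zero]
  have Pm : ∀ {e : Fin 4 → F}, Isot 2 e → ∀ a : F, Frame.vv R R' (a • e) ∈ Frame.pairs R R' :=
    fun he a => Frame.vv_mem R R' (iso he a)
  set S : Set (X × X') := insert (d, d') {x | ∃ (e : Fin 4 → F) (a : F), (e = e₁ ∨ e = e₂ ∨ e = f₁ ∨ e = f₂) ∧
    x = Frame.vv R R' (a • e)}
  have hγ : γ ∈ Subgroup.closure S := by
    refine (Subgroup.closure_le _).2 ?_ h
    rintro x (rfl | ⟨p, hp, rfl⟩)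
    · exact Subgroup.subset_closure (Set.mem_insert _ _)
    have hb : ∀ e : Fin 4 → F, (e = e₁ ∨ e = e₂ ∨ e = f₁ ∨ e = f₂) → ∀ a : F,
        Frame.vv R R' (a • e) ∈ Subgroup.closure S :=
      fun e he a => Subgroup.subset_closure (Set.mem_insert_of_mem _ ⟨e, a, he, rfl⟩)
    have := grid c.hF Q (Z := fun v => ∀ a : F, Frame.vv R R' (a • v) ∈ Subgroup.closure S)
      (fun a v hv b => by rw [smul_smul]; exact hv _)
      (fun v w hv hw hvw Zv Zw a => by
        rw [smul_add, Frame.vv_add R R' (by rw [smul_left c.hF, SURadical.smul_right c.hF, hv, mul_zero, mul_zero])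
          (by rw [smul_left c.hF, SURadical.smul_right c.hF, hw, mul_zero, mul_zero])
          (by rw [smul_left c.hF, SURadical.smul_right c.hF, hvw, mul_zero, mul_zero])]
        exact mul_mem (Zv a) (Zw a))
      (hb _ (Or.inl rfl)) (hb _ (Or.inr (Or.inl rfl))) (hb _ (Or.inr (Or.inr (Or.inl rfl))))
      (hb _ (Or.inr (Or.inr (Or.inr rfl)))) (x := p) hp 1
    rwa [one_smul] at this
  have addP : ∀ {e : Fin 4 → F}, Isot 2 e → ∀ a b : F,
      Frame.vv R R' (a • e) * Frame.vv R R' (b • e) = Frame.vv R R' ((a + b) • e) := fun he a b => by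
    rw [add_smul, Frame.vv_add R R' (iso he a) (iso he b)
      (by rw [smul_left c.hF, SURadical.smul_right c.hF, he.2, mul_zero, mul_zero])]
  have Zc : ∀ {z}, IsZPair d d' z → ∀ {e : Fin 4 → F}, Isot 2 e → ∀ a : F,
      z * Frame.vv R R' (a • e) = Frame.vv R R' (a • e) * z :=
    fun hz _ he a => Frame.z_comm R R' hz (Pm he a)
  have step : ∀ a b u v : F, ∀ z, IsZPair d d' z → ∀ (e : Fin 4 → F) (t : F), (e = e₁ ∨ e = e₂ ∨ e = f₁ ∨ e = f₂) →
      ∃ a' b' u' v' : F, ∃ z', IsZPair d d' z' ∧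
        Frame.vv R R' (a • e₁) * Frame.vv R R' (b • e₂) * Frame.vv R R' (u • f₁) * Frame.vv R R' (v • f₂) * z *
          Frame.vv R R' (t • e) =
        Frame.vv R R' (a' • e₁) * Frame.vv R R' (b' • e₂) * Frame.vv R R' (u' • f₁) *
          Frame.vv R R' (v' • f₂) * z' := by
    intro a b u v z hz e t he
    rcases he with rfl | rfl | rfl | rfl
    · obtain ⟨z₄, h₄, k₄⟩ := Frame.vv_comm R R' (iso Q.j₂ v) (iso Q.i₁ t)
      obtain ⟨z₃, h₃, k₃⟩ := Frame.vv_comm R R' (iso Q.j₁ u) (iso Q.i₁ t)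
      obtain ⟨z₂, h₂, k₂⟩ := Frame.vv_comm R R' (iso Q.i₂ b) (iso Q.i₁ t)
      refine ⟨a + t, b, u, v, z₂ * (z₃ * (z₄ * z)), Frame.z_mul R R' h₂ (Frame.z_mul R R' h₃
        (Frame.z_mul R R' h₄ hz)), ?_⟩
      rw [← addP Q.i₁ a t]
      have cT := Zc hz Q.i₁ t
      have c3V := Zc h₃ Q.j₂ v
      have c2U := Zc h₂ Q.j₁ u
      have c2V := Zc h₂ Q.j₂ v
      set A := Frame.vv R R' (a • e)
      set B := Frame.vv R R' (b • e₂)
      set U := Frame.vv R R' (u • f₁)
      set V := Frame.vv R R' (v • f₂)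
      set T := Frame.vv R R' (t • e)
      calc A * B * U * V * z * T = A * B * U * (V * T) * z := by rw [mul_assoc _ z T, cT]; group
        _ = A * B * (U * T) * V * (z₄ * z) := by rw [k₄]; group
        _ = A * B * T * U * (z₃ * V) * (z₄ * z) := by rw [k₃]; group
        _ = A * B * T * U * V * (z₃ * (z₄ * z)) := by rw [c3V]; group
        _ = A * (B * T) * U * V * (z₃ * (z₄ * z)) := by group
        _ = A * T * B * (z₂ * U) * V * (z₃ * (z₄ * z)) := by rw [k₂]; group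
        _ = A * T * B * U * (z₂ * V) * (z₃ * (z₄ * z)) := by rw [c2U]; group
        _ = A * T * B * U * V * (z₂ * (z₃ * (z₄ * z))) := by rw [c2V]; group
    · obtain ⟨z₄, h₄, k₄⟩ := Frame.vv_comm R R' (iso Q.j₂ v) (iso Q.i₂ t)
      obtain ⟨z₃, h₃, k₃⟩ := Frame.vv_comm R R' (iso Q.j₁ u) (iso Q.i₂ t)
      refine ⟨a, b + t, u, v, z₃ * (z₄ * z), Frame.z_mul R R' h₃ (Frame.z_mul R R' h₄ hz), ?_⟩
      rw [← addP Q.i₂ b t]
      have cT := Zc hz Q.i₂ t
      have c3V := Zc h₃ Q.j₂ v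
      set A := Frame.vv R R' (a • e₁)
      set B := Frame.vv R R' (b • e)
      set U := Frame.vv R R' (u • f₁)
      set V := Frame.vv R R' (v • f₂)
      set T := Frame.vv R R' (t • e)
      calc A * B * U * V * z * T = A * B * U * (V * T) * z := by rw [mul_assoc _ z T, cT]; group
        _ = A * B * (U * T) * V * (z₄ * z) := by rw [k₄]; group
        _ = A * B * T * U * (z₃ * V) * (z₄ * z) := by rw [k₃]; group
        _ = A * (B * T) * U * V * (z₃ * (z₄ * z)) := by rw [c3V]; group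
    · obtain ⟨z₄, h₄, k₄⟩ := Frame.vv_comm R R' (iso Q.j₂ v) (iso Q.j₁ t)
      refine ⟨a, b, u + t, v, z₄ * z, Frame.z_mul R R' h₄ hz, ?_⟩
      rw [← addP Q.j₁ u t]
      have cT := Zc hz Q.j₁ t
      set A := Frame.vv R R' (a • e₁)
      set B := Frame.vv R R' (b • e₂)
      set U := Frame.vv R R' (u • e)
      set V := Frame.vv R R' (v • f₂)
      set T := Frame.vv R R' (t • e)
      calc A * B * U * V * z * T = A * B * U * (V * T) * z := by rw [mul_assoc _ z T, cT]; group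
        _ = A * B * (U * T) * V * (z₄ * z) := by rw [k₄]; group
    · refine ⟨a, b, u, v + t, z, hz, ?_⟩
      rw [← addP Q.j₂ v t, mul_assoc _ z, Zc hz Q.j₂ t]
      group
  have hinvS : ∀ x ∈ S, x⁻¹ = x := by
    rintro x (rfl | ⟨e, a, he, rfl⟩)
    · exact inv_eq_of_mul_eq_one_left (Prod.ext c.sq c'.sq)
    · refine Frame.vv_inv R R' (iso ?_ a)
      rcases he with rfl | rfl | rfl | rfl
      exacts [Q.i₁, Q.i₂, Q.j₁, Q.j₂]
  have h0 : Frame.vv R R' 0 = 1 := Prod.ext (if_pos rfl) (if_pos rfl)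
  have mul_gen : ∀ x y, y ∈ S → (∃ a b u v : F, ∃ z, IsZPair d d' z ∧
      x = Frame.vv R R' (a • e₁) * Frame.vv R R' (b • e₂) * Frame.vv R R' (u • f₁) *
        Frame.vv R R' (v • f₂) * z) → ∃ a b u v : F, ∃ z, IsZPair d d' z ∧
      x * y = Frame.vv R R' (a • e₁) * Frame.vv R R' (b • e₂) * Frame.vv R R' (u • f₁) *
        Frame.vv R R' (v • f₂) * z := by
    rintro x y (rfl | ⟨e, t, he, rfl⟩) ⟨a, b, u, v, z, hz, rfl⟩
    · exact ⟨a, b, u, v, z * (d, d'), Frame.z_mul R R' hz (Or.inr rfl), by group⟩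
    · exact step a b u v z hz e t he
  clear h
  induction hγ using Subgroup.closure_induction_right with
  | one => exact ⟨0, 0, 0, 0, 1, Or.inl rfl, by simp only [zero_smul, h0, mul_one]⟩
  | mul_right x _ y hy ih => exact mul_gen x y hy ih
  | mul_inv_cancel x _ y hy ih => rw [hinvS y hy]; exact mul_gen x y hy ih

theorem Frame.pairs_zero {γ : X × X'} (h : γ ∈ Frame.pairs R R')
    (hq : R.IsShift γ.1 0 ∨ R'.IsShift γ.2 0) : IsZPair d d' γ := by
  obtain ⟨e₂, f, f₂, Q⟩ := exists_quad c.hF R.iso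
  obtain ⟨a, b, u, v, z, hz, rfl⟩ := Frame.normal_form R R' Q h
  have iso : ∀ {e : Fin 4 → F}, Isot 2 e → ∀ a : F, H4 (a • e) (a • e) = 0 := fun he a => by
    rw [smul_left c.hF, SURadical.smul_right c.hF, he.2, mul_zero, mul_zero]
  have hzs : R.IsShift z.1 0 ∧ R'.IsShift z.2 0 := by
    rcases hz with rfl | rfl
    exacts [⟨R.shift_zero, R'.shift_zero⟩, ⟨R.shift_d, R'.shift_d⟩]
  have h0 : a • R.w₀ + b • e₂ + u • f + v • f₂ + 0 = (0 : Fin 4 → F) := by
    rcases hq with hq | hq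
    · exact R.shift_unique (R.shift_mul (R.shift_mul (R.shift_mul (R.shift_mul (R.vel_shift (iso R.iso a))
        (R.vel_shift (iso Q.i₂ b))) (R.vel_shift (iso Q.j₁ u))) (R.vel_shift (iso Q.j₂ v))) hzs.1) hq
    · exact R'.shift_unique (R'.shift_mul (R'.shift_mul (R'.shift_mul (R'.shift_mul (R'.vel_shift (iso R.iso a))
        (R'.vel_shift (iso Q.i₂ b))) (R'.vel_shift (iso Q.j₁ u))) (R'.vel_shift (iso Q.j₂ v))) hzs.2) hq
  rw [add_zero] at h0
  have k1 := congrArg (fun w => H4 w f) h0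
  have k2 := congrArg (fun w => H4 w f₂) h0
  have k3 := congrArg (fun w => H4 w R.w₀) h0
  have k4 := congrArg (fun w => H4 w e₂) h0
  simp only [add_left c.hF, smul_left c.hF, zero_left c.hF, Q.i₁.2, Q.i₂.2, Q.j₁.2, Q.j₂.2, Q.h₁, Q.h₂,
    comm_one c.hF Q.h₁, comm_one c.hF Q.h₂, Q.ee, Q.ef, Q.fe, Q.ff, (comm_zero c.hF).1 Q.ee,
    (comm_zero c.hF).1 Q.ef, (comm_zero c.hF).1 Q.fe, (comm_zero c.hF).1 Q.ff, mul_zero, mul_one, add_zero,
    zero_add] at k1 k2 k3 k4
  subst k1 k2 k3 k4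
  have h1 : Frame.vv R R' 0 = 1 := Prod.ext (if_pos rfl) (if_pos rfl)
  simpa [zero_smul, h1] using hz

theorem Frame.pairs_total (q : Fin 4 → F) : ∃ γ ∈ Frame.pairs R R', R.IsShift γ.1 q ∧ R'.IsShift γ.2 q := by
  obtain ⟨e₂, f, f₂, Q⟩ := exists_quad c.hF R.iso
  have iso : ∀ {e : Fin 4 → F}, Isot 2 e → ∀ a : F, H4 (a • e) (a • e) = 0 := fun he a => by
    rw [smul_left c.hF, SURadical.smul_right c.hF, he.2, mul_zero, mul_zero]
  refine ⟨Frame.vv R R' (H4 q f • R.w₀) * Frame.vv R R' (H4 q f₂ • e₂) * Frame.vv R R' (H4 q R.w₀ • f) *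
    Frame.vv R R' (H4 q e₂ • f₂), mul_mem (mul_mem (mul_mem (Frame.vv_mem R R' (iso R.iso _))
      (Frame.vv_mem R R' (iso Q.i₂ _))) (Frame.vv_mem R R' (iso Q.j₁ _))) (Frame.vv_mem R R' (iso Q.j₂ _)), ?_, ?_⟩
  · rw [Q.expand c.hF q]
    convert R.shift_mul (R.shift_mul (R.shift_mul (R.vel_shift (iso R.iso (H4 q f))) (R.vel_shift (iso Q.i₂ (H4 q f₂))))
      (R.vel_shift (iso Q.j₁ (H4 q R.w₀)))) (R.vel_shift (iso Q.j₂ (H4 q e₂))) using 1
    · rw [← Q.expand c.hF q]; rfl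
  · rw [Q.expand c.hF q]
    convert R'.shift_mul (R'.shift_mul (R'.shift_mul (R'.vel_shift (iso R.iso (H4 q f))) (R'.vel_shift (iso Q.i₂ (H4 q f₂))))
      (R'.vel_shift (iso Q.j₁ (H4 q R.w₀)))) (R'.vel_shift (iso Q.j₂ (H4 q e₂))) using 1
    · rw [← Q.expand c.hF q]; rfl

theorem Frame.pairs_left {g : X} {q : Fin 4 → F} (hg : R.IsShift g q) :
    ∃ γ ∈ Frame.pairs R R', γ.1 = g := by
  obtain ⟨γ, hγ, h1, -⟩ := Frame.pairs_total R R' q
  rcases R.shift_eq h1 hg with e | e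
  · exact ⟨γ, hγ, e.symm⟩
  · exact ⟨γ * (d, d'), mul_mem hγ (Frame.dd_mem R R'), e.symm⟩

theorem Frame.pairs_right {g : X'} {q : Fin 4 → F} (hg : R'.IsShift g q) :
    ∃ γ ∈ Frame.pairs R R', γ.2 = g := by
  obtain ⟨γ, hγ, -, h2⟩ := Frame.pairs_total R R' q
  rcases R'.shift_eq h2 hg with e | e
  · exact ⟨γ, hγ, e.symm⟩
  · exact ⟨γ * (d, d'), mul_mem hγ (Frame.dd_mem R R'), e.symm⟩

/-- Corresponding conjugates. -/
def Frame.Rel (x : X) (x' : X') : Prop :=
  (x = d ∧ x' = d') ∨ (∃ r α, Isot 2 r ∧ x = R.lab α r ∧ x' = R'.lab α r) ∨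
    ∃ γ ∈ Frame.pairs R R', x = γ.1 * R.y * γ.1⁻¹ ∧ x' = γ.2 * R'.y * γ.2⁻¹

theorem Frame.rel_left {x : X} (hx : x ∈ conjugatesOf d) : ∃ x', Frame.Rel R R' x x' := by
  rcases c.cases hx with h | h | h
  · exact ⟨d', Or.inl ⟨h, rfl⟩⟩
  · obtain ⟨w, hw⟩ := c.img_pt h
    obtain ⟨α, rfl⟩ := R.lab_surj hw.1 (a := x) ⟨h, (tv_eq c.hF hw).symm⟩
    exact ⟨_, Or.inr (Or.inl ⟨w, α, hw.1, rfl, rfl⟩)⟩
  · obtain ⟨g, q, hg, rfl⟩ := R.exists_translate h
    obtain ⟨γ, hγ, rfl⟩ := Frame.pairs_left R R' hg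
    exact ⟨_, Or.inr (Or.inr ⟨γ, hγ, rfl, rfl⟩)⟩

theorem Frame.rel_right {x : X'} (hx : x ∈ conjugatesOf d') : ∃ x₀, Frame.Rel R R' x₀ x := by
  rcases c'.cases hx with h | h | h
  · exact ⟨d, Or.inl ⟨rfl, h⟩⟩
  · obtain ⟨w, hw⟩ := c'.img_pt h
    obtain ⟨α, rfl⟩ := R'.lab_surj hw.1 (a := x) ⟨h, (tv_eq c'.hF hw).symm⟩
    exact ⟨_, Or.inr (Or.inl ⟨w, α, hw.1, rfl, rfl⟩)⟩
  · obtain ⟨g, q, hg, rfl⟩ := R'.exists_translate h
    obtain ⟨γ, hγ, rfl⟩ := Frame.pairs_right R R' hg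
    exact ⟨_, Or.inr (Or.inr ⟨γ, hγ, rfl, rfl⟩)⟩

end Central

namespace Central

local notation "H4" => Cfsg.hermForm 4 F 2

variable (R : Frame c)
include R

theorem Frame.lab_commute {r s : Fin 4 → F} (hr : Isot 2 r) (hs : Isot 2 s) (α β : F) :
    Commute (R.lab α r) (R.lab β s) ↔ H4 r s = 0 := by
  rw [c.commute_iff (R.lab_mem hr α).1 (R.lab_mem hs β).1, (R.lab_mem hr α).2, (R.lab_mem hs β).2,
    (tv_spec c.hF hr).commute_iff c.hF (tv_spec c.hF hs)]

theorem Frame.lab_commute_y {r : Fin 4 → F} (hr : Isot 2 r) (α : F) : Commute (R.lab α r) R.y ↔ α = 0 := by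
  constructor
  · intro h
    have := c.s0_eq R.far (R.lab_mem hr α) h
    rw [← R.lab_zero] at this
    exact (R.lab_inj hr this).symm
  · rintro rfl
    rw [R.lab_zero]
    exact c.s0_comm R.far (isT_tv c.hF hr)

theorem Frame.lab_commute_far {g : X} {q r : Fin 4 → F} (hg : R.IsShift g q) (hr : Isot 2 r) (α : F) :
    Commute (R.lab α r) (g * R.y * g⁻¹) ↔ α + H4 r q = 0 := by
  rw [← R.lab_commute_y hr]
  have e := (R.shift_inv hg).2.2.2 r hr α
  rw [inv_inv] at e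
  rw [← e]
  constructor <;> intro h
  · simpa [MulAut.conj_apply, mul_assoc] using h.map (MulAut.conj g⁻¹).toMonoidHom
  · simpa [MulAut.conj_apply, mul_assoc] using h.map (MulAut.conj g).toMonoidHom

theorem Frame.d_far {g : X} {q : Fin 4 → F} (hg : R.IsShift g q) : ¬ Commute d (g * R.y * g⁻¹) := fun h => by
  have := (hg.2.1.inv_left.symm.mul_right h).mul_right hg.2.1.symm
  rw [show g⁻¹ * (g * R.y * g⁻¹) * g = R.y by group] at this
  exact R.far.2.1 this

theorem Frame.not_commute_dyd : ¬ Commute R.y (d * R.y * d⁻¹) := fun h => by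
  rw [c.inv_of (IsConj.refl d)] at h
  exact c.isTT.not_commute_cj_right (IsConj.refl d) R.far.1 R.far.2.1 h

/-- The translation `vel` moves the base to a neighbour. -/
theorem Frame.vel_commute {q : Fin 4 → F} (hq : H4 q q = 0) :
    Commute R.y (R.vel q * R.y * (R.vel q)⁻¹) := by
  by_cases h0 : q = 0
  · rw [Frame.vel, if_pos h0, one_mul, inv_one, mul_one]
  obtain ⟨ω, hω0, hω⟩ := exists_omega' c.hF
  have hω1 : ω * ω ≠ 0 := mul_ne_zero hω0 hω0
  have i1 : Isot 2 (ω • q) := c.isot_smul hω0 ⟨h0, hq⟩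
  have i2 : Isot 2 ((ω * ω) • q) := c.isot_smul hω1 ⟨h0, hq⟩
  have horth : H4 (ω • q) ((ω * ω) • q) = 0 := by
    rw [smul_left c.hF, SURadical.smul_right c.hF, hq, mul_zero, mul_zero]
  have hsum : ω • q + (ω * ω) • q = q := by
    rw [← add_smul, show ω + ω * ω = 1 by linear_combination hω - SURadical.add_self c.hF (1 : F), one_smul]
  rw [← hsum, R.vel_add i1.2 i2.2 horth]
  have h := (R.uel_commute i1 i2).2 horth
  rw [Frame.vel, Frame.vel, if_neg i1.1, if_neg i2.1]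
  set u := R.uel (ω • q)
  set w := R.uel ((ω * ω) • q)
  have hud : Commute u d := (R.uel_props i1).1
  have hwd : Commute w d := (R.uel_props i2).1
  have huu : u * u = 1 := (R.uel_props i1).2.2
  have hu : u⁻¹ = u := inv_eq_of_mul_eq_one_left huu
  have e : u * d * (w * d) = u * w := by
    rw [mul_assoc u d, ← mul_assoc d w d, hwd.symm.eq, mul_assoc w d d, c.sq, mul_one]
  rw [e]
  have := h.map (MulAut.conj u).toMonoidHom
  simp only [MulEquiv.coe_toMonoidHom, MulAut.conj_apply] at this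
  have e1 : u * (u * R.y * u⁻¹) * u⁻¹ = R.y := by
    rw [hu, show u * (u * R.y * u) * u = (u * u) * R.y * (u * u) by group, huu, one_mul, mul_one]
  rw [e1] at this
  convert this using 1
  group

/-- The other translate is not a neighbour. -/
theorem Frame.vel_d_noncommute {q : Fin 4 → F} (hiso : H4 q q = 0) :
    ¬ Commute R.y (R.vel q * d * R.y * (R.vel q * d)⁻¹) := by
  intro hc
  have h1 := R.vel_commute hiso
  have ht := c.isTT
  have hmem : R.vel q * R.y * (R.vel q)⁻¹ ∈ conjugatesOf d := c.conj_mem R.far.1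
  have hd : d * (R.vel q * R.y * (R.vel q)⁻¹) * d = R.vel q * d * R.y * (R.vel q * d)⁻¹ := by
    rw [mul_inv_rev, c.inv_of (IsConj.refl d),
      show d * (R.vel q * R.y * (R.vel q)⁻¹) * d = d * R.vel q * R.y * ((R.vel q)⁻¹ * d) by group,
      (R.vel_shift hiso).2.1.symm.eq, (R.vel_shift hiso).2.1.inv_left.eq]
  rw [← hd] at hc
  have hbr := ht.braid (IsConj.refl d) hmem (R.d_far (R.vel_shift hiso))
  rw [hbr] at hc
  exact R.far.2.1 ((ht.commute_cj_iff hmem h1).1 hc).symm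

end Central

namespace Central

variable (R : Frame c) (R' : Frame c')
include R R'

local notation "H4" => Cfsg.hermForm 4 F 2

theorem Frame.rel_far {γ : X × X'} (h : γ ∈ Frame.pairs R R') :
    Commute R.y (γ.1 * R.y * γ.1⁻¹) ↔ Commute R'.y (γ.2 * R'.y * γ.2⁻¹) := by
  obtain ⟨q, hq, hq'⟩ := Frame.pairs_shift R R' h
  by_cases hiso : H4 q q = 0
  swap
  · exact iff_of_false (fun hc => hiso (R.isot_of_commute hq hc)) (fun hc => hiso (R'.isot_of_commute hq' hc))
  have hz0 : R.IsShift (((Frame.vv R R' q)⁻¹ * γ).1) 0 := by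
    have := R.shift_mul (R.shift_inv (R.vel_shift hiso)) hq
    rwa [SURadical.vadd_self c.hF] at this
  rcases Frame.pairs_zero R R' (mul_mem (inv_mem (Frame.vv_mem R R' hiso)) h) (Or.inl hz0) with e | e
  · rw [← inv_mul_eq_one.1 e]
    exact iff_of_true (R.vel_commute hiso) (R'.vel_commute hiso)
  · have eγ : γ = Frame.vv R R' q * (d, d') := by rw [← e, mul_inv_cancel_left]
    rw [eγ]
    exact iff_of_false (R.vel_d_noncommute hiso) (R'.vel_d_noncommute hiso)

theorem Frame.rel_commute {x z : X} {x' z' : X'} (hx : Frame.Rel R R' x x') (hz : Frame.Rel R R' z z') :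
    Commute x z ↔ Commute x' z' := by
  rcases hx with ⟨rfl, rfl⟩ | ⟨r, α, hr, rfl, rfl⟩ | ⟨γ, hγ, rfl, rfl⟩ <;>
    rcases hz with ⟨hh, hh'⟩ | ⟨s, β, hs, hh, hh'⟩ | ⟨δ, hδ, hh, hh'⟩ <;> subst hh hh'
  · exact iff_of_true (Commute.refl _) (Commute.refl _)
  · exact iff_of_true (R.lab_mem hs β).1.2.2 (R'.lab_mem hs β).1.2.2
  · obtain ⟨q, hq, hq'⟩ := Frame.pairs_shift R R' hδ
    exact iff_of_false (R.d_far hq) (R'.d_far hq')
  · exact iff_of_true (link_comm (R.lab_mem hr α).1) (link_comm (R'.lab_mem hr α).1)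
  · rw [R.lab_commute hr hs, R'.lab_commute hr hs]
  · obtain ⟨q, hq, hq'⟩ := Frame.pairs_shift R R' hδ
    rw [R.lab_commute_far hq hr, R'.lab_commute_far hq' hr]
  · obtain ⟨q, hq, hq'⟩ := Frame.pairs_shift R R' hγ
    exact iff_of_false (fun h => R.d_far hq h.symm) (fun h => R'.d_far hq' h.symm)
  · obtain ⟨q, hq, hq'⟩ := Frame.pairs_shift R R' hγ
    rw [Commute.symm_iff, R.lab_commute_far hq hs, Commute.symm_iff, R'.lab_commute_far hq' hs]
  · rw [commute_conj_pair, commute_conj_pair]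
    exact Frame.rel_far R R' (mul_mem (inv_mem hγ) hδ)

end Central

end CfsgLib.U6Central
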