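import Cfsg.Agent.Lib.U6Central.Far

/-!
# The translations and the conjugates at distance two

The conjugates generate; the translations by isotropic vectors satisfy fixed relations; a translate of the base
commutes with it only for translations by isotropic vectors.
-/

set_option autoImplicit false
set_option linter.unusedSectionVars false
set_option linter.style.haveILetI false
set_option linter.unusedSimpArgs false
set_option maxHeartbeats 600000

open scoped Classical

namespace CfsgLib.U6Central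

open Cfsg CfsgLib.SURadical
open CfsgLib.PSUAut (Isot act)
open CfsgLib.ThreeTransp (link)

variable {X : Type*} [Group X] {d : X} {F : Type} [Field F] [Fintype F]

namespace Central

variable [Finite X] {c : Central d F} (R : Frame c)
include R

theorem Frame.eq_of_perp {p q : Fin 4 → F}
    (h : ∀ r, Isot 2 r → Cfsg.hermForm 4 F 2 r p = Cfsg.hermForm 4 F 2 r q) : p = q := by
  obtain ⟨e₂, f, f₂, Q⟩ := exists_quad c.hF R.iso
  have k : ∀ r, Isot 2 r → Cfsg.hermForm 4 F 2 p r = Cfsg.hermForm 4 F 2 q r := fun r hr => by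
    rw [conj_form c.hF r p, conj_form c.hF r q, h r hr]
  rw [Q.expand c.hF p, Q.expand c.hF q, k _ Q.j₁, k _ Q.j₂, k _ R.iso, k _ Q.i₂]

theorem Frame.shift_unique {g : X} {p q : Fin 4 → F} (hg : R.IsShift g p) (hg' : R.IsShift g q) : p = q := by
  refine R.eq_of_perp fun r hr => ?_
  have := R.lab_inj hr ((hg.2.2.2 r hr 0).symm.trans (hg'.2.2.2 r hr 0))
  rwa [zero_add, zero_add] at this

theorem Frame.commute_of_shift_zero {g : X} (hg : R.IsShift g 0) :
    ∀ x ∈ link (conjugatesOf d) d, Commute g x := by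
  intro x hx
  obtain ⟨w, hw⟩ := c.img_pt hx
  obtain ⟨α, rfl⟩ := R.lab_surj hw.1 (a := x) ⟨hx, (tv_eq c.hF hw).symm⟩
  have := hg.2.2.2 w hw.1 α
  rw [zero_right c.hF, add_zero] at this
  exact mul_inv_eq_iff_eq_mul.1 this

theorem Frame.shift_inv {g : X} {q : Fin 4 → F} (hg : R.IsShift g q) : R.IsShift g⁻¹ q := by
  refine ⟨inv_mem hg.1, hg.2.1.inv_left, by rw [c.img_inv hg.2.1, hg.2.2.1, inv_one], fun r hr α => ?_⟩
  have := hg.2.2.2 r hr (α + Cfsg.hermForm 4 F 2 r q)
  rw [add_assoc, SURadical.add_self c.hF, add_zero] at this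
  conv_lhs => rw [← this]
  group

theorem Frame.shift_eq {g g' : X} {q : Fin 4 → F} (hg : R.IsShift g q) (hg' : R.IsShift g' q) :
    g' = g ∨ g' = g * d := by
  have hz := R.shift_mul (R.shift_inv hg) hg'
  rw [SURadical.vadd_self c.hF] at hz
  rcases c.faithful _ hz.2.1 (R.commute_of_shift_zero hz) with h | h
  · exact Or.inl (inv_mul_eq_one.1 h).symm
  · exact Or.inr (by rw [← h, mul_inv_cancel_left])

/-- The centraliser of `d` is generated by conjugates. -/
theorem Frame.cent_le_gen {g : X} (hg : Commute g d) : g ∈ gen d := by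
  obtain ⟨k, hkc, hk, hki⟩ := c.exists_K R.far (c.img g)
  obtain ⟨hkd, hky⟩ := mem_cK.1 hk
  have hkg : k ∈ gen d := by
    refine (Subgroup.closure_le _).2 ?_ hkc
    rintro _ ⟨t, ht, rfl⟩
    exact Subgroup.subset_closure (c.s0_mem R.far ht).1.1
  set h := k⁻¹ * g with hh
  have hhd : Commute h d := hkd.inv_left.mul_left hg
  have hhi : c.img h = 1 := by rw [hh, c.img_mul hkd.inv_left hg, c.img_inv hkd, hki, inv_mul_cancel]
  have hz : Far d (h * R.y * h⁻¹) := by
    refine c.far_of (c.conj_mem R.far.1) fun hc => R.far.2.1 ?_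
    have := (hhd.inv_left.symm.mul_right hc).mul_right hhd.symm
    rwa [show h⁻¹ * (h * R.y * h⁻¹) * h = R.y by group] at this
  obtain ⟨t, q, ht, he⟩ := R.exists_translate hz
  set h' := t⁻¹ * h with hh'
  have hh'd : Commute h' d := ht.2.1.inv_left.mul_left hhd
  have hh'i : c.img h' = 1 := by rw [hh', c.img_mul ht.2.1.inv_left hhd, c.img_inv ht.2.1, ht.2.2.1, hhi, inv_one,
    one_mul]
  have hh'y : Commute h' R.y := mul_inv_eq_iff_eq_mul.1 (by
    calc h' * R.y * h'⁻¹ = t⁻¹ * (h * R.y * h⁻¹) * t := by rw [hh']; group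
      _ = R.y := by rw [he]; group)
  have hall : ∀ x ∈ link (conjugatesOf d) d, Commute h' x := by
    intro x hx
    have hT := c.img_pt hx
    refine c.semireg0 R.far hT hh'd hh'i ?_ x ⟨hx, rfl⟩
    have := c.s0_conj R.far hT (g := h') (mem_cK.2 ⟨hh'd, hh'y⟩)
    simp only [hh'i, one_mul, inv_one, mul_one] at this
    exact mul_inv_eq_iff_eq_mul.1 this
  have hh'g : h' ∈ gen d := by
    rcases c.faithful h' hh'd hall with e | e <;> rw [e]
    · exact one_mem _
    · exact Subgroup.subset_closure (IsConj.refl d)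
  have : g = k * t * h' := by rw [hh', hh]; group
  rw [this]
  exact mul_mem (mul_mem hkg ht.1) hh'g

theorem Frame.conj_gen_far {y' : X} (hy' : Far d y') : ∃ g ∈ gen d, g * d * g⁻¹ = y' := by
  refine ⟨d * y' * d, mul_mem (mul_mem (Subgroup.subset_closure (IsConj.refl d)) (Subgroup.subset_closure hy'.1))
    (Subgroup.subset_closure (IsConj.refl d)), ?_⟩
  have hi : (d * y' * d)⁻¹ = d * y' * d := by
    rw [mul_inv_rev, mul_inv_rev, c.inv_of (IsConj.refl d), c.inv_of hy'.1, mul_assoc]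
  rw [hi]
  exact ThreeTransp.cj_cj c.sq (c.sq_of hy'.1) (c.braid_far hy')

/-- The conjugates generate. -/
theorem Frame.gen_top : gen d = ⊤ := by
  refine eq_top_iff.2 fun g _ => ?_
  suffices h : ∀ x ∈ conjugatesOf d, ∃ k ∈ gen d, k * d * k⁻¹ = x by
    obtain ⟨k, hk, he⟩ := h (g * d * g⁻¹) (c.conj_mem (IsConj.refl d))
    have hkg : Commute (k⁻¹ * g) d := mul_inv_eq_iff_eq_mul.1 (by
      calc k⁻¹ * g * d * (k⁻¹ * g)⁻¹ = k⁻¹ * (g * d * g⁻¹) * k := by group
        _ = d := by rw [← he]; group)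
    simpa using mul_mem hk (R.cent_le_gen hkg)
  intro x hx
  rcases c.cases hx with rfl | hl | hf
  · exact ⟨1, one_mem _, by group⟩
  · obtain ⟨a, ha, hne⟩ := Set.exists_ne_of_one_lt_ncard (s := c.fib (c.img x))
      (by rw [c.fib_ncard (c.img_pt hl)]; norm_num) x
    obtain ⟨y', hy', hay⟩ := c.hit R.far (c.img_pt hl) ha
    have hxy : ¬ Commute x y' := fun h =>
      hne ((c.meet hy' (c.img_pt hl)).unique ⟨ha, hay⟩ ⟨⟨hl, rfl⟩, h⟩)
    obtain ⟨k, hk, hkd⟩ := R.conj_gen_far hy'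
    refine ⟨y' * x * y' * k, mul_mem (mul_mem (mul_mem (Subgroup.subset_closure hy'.1) (Subgroup.subset_closure hx))
      (Subgroup.subset_closure hy'.1)) hk, ?_⟩
    have hi : (y' * x * y')⁻¹ = y' * x * y' := by
      rw [mul_inv_rev, mul_inv_rev, c.inv_of hy'.1, c.inv_of hx, mul_assoc]
    calc y' * x * y' * k * d * (y' * x * y' * k)⁻¹ = y' * x * y' * (k * d * k⁻¹) * (y' * x * y')⁻¹ := by group
      _ = x := by
        rw [hkd, hi]
        exact ThreeTransp.cj_cj (c.sq_of hy'.1) (c.sq_of hx) (c.isTT.braid hy'.1 hx fun h => hxy h.symm)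
  · exact R.conj_gen_far hf

/-- The translation by an isotropic vector moving the base to a neighbour. -/
noncomputable def Frame.vel (p : Fin 4 → F) : X := if p = 0 then 1 else R.uel p * d

theorem Frame.vel_shift {p : Fin 4 → F} (hp : Cfsg.hermForm 4 F 2 p p = 0) : R.IsShift (R.vel p) p := by
  by_cases h : p = 0
  · rw [Frame.vel, if_pos h, h]; exact R.shift_zero
  · have := R.shift_mul (R.shift_uel ⟨h, hp⟩) R.shift_d
    rw [add_zero] at this
    rwa [Frame.vel, if_neg h]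

theorem Frame.move_uel {p : Fin 4 → F} (hp : Isot 2 p) :
    R.uel p * R.y * (R.uel p)⁻¹ = R.y * R.Φ p * R.y ∧ ¬ Commute (R.uel p * R.y * (R.uel p)⁻¹) R.y := by
  have h1 := (R.Φ_mem hp).1
  have h2 := c.s0_mem R.far (isT_tv c.hF hp)
  have hc := c.s0_comm R.far (isT_tv c.hF hp)
  have hay : ¬ Commute (R.Φ p) R.y := fun h => (R.Φ_mem hp).2 (c.s0_eq R.far h1 h).symm
  have e : R.uel p * R.y * (R.uel p)⁻¹ = R.y * R.Φ p * R.y := by
    rw [← c.isTT.braid h1.1.1 R.far.1 hay, Frame.uel, mul_inv_rev, c.inv_of h1.1.1, c.inv_of h2.1.1]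
    calc R.Φ p * c.s0 R.far (tv p) * R.y * (c.s0 R.far (tv p) * R.Φ p)
        = R.Φ p * (c.s0 R.far (tv p) * R.y * c.s0 R.far (tv p)) * R.Φ p := by group
      _ = R.Φ p * R.y * R.Φ p := by rw [hc.eq, mul_assoc R.y, c.sq_fib h2, mul_one]
  exact ⟨e, fun h => hay ((c.isTT.commute_cj_iff R.far.1 (Commute.refl R.y)).1 (e ▸ h).symm).symm⟩

theorem Frame.uel_commute {p q : Fin 4 → F} (hp : Isot 2 p) (hq : Isot 2 q) :
    Commute (R.uel p * R.y * (R.uel p)⁻¹) (R.uel q * R.y * (R.uel q)⁻¹) ↔ Cfsg.hermForm 4 F 2 p q = 0 := by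
  rw [(R.move_uel hp).1, (R.move_uel hq).1]
  have hi := c.inv_of R.far.1
  have e : Commute (R.y * R.Φ p * R.y) (R.y * R.Φ q * R.y) ↔ Commute (R.Φ p) (R.Φ q) := by
    constructor <;> intro h
    · have := h.map (MulAut.conj R.y).toMonoidHom
      simpa [MulAut.conj_apply, hi, mul_assoc, ThreeTransp.cancel₂ (c.sq_of R.far.1), c.sq_of R.far.1] using this
    · simpa [MulAut.conj_apply, hi] using h.map (MulAut.conj R.y).toMonoidHom
  rw [e, c.commute_iff (R.Φ_mem hp).1.1 (R.Φ_mem hq).1.1, (R.Φ_mem hp).1.2, (R.Φ_mem hq).1.2,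
    (tv_spec c.hF hp).commute_iff c.hF (tv_spec c.hF hq)]

theorem Frame.uel_add {p q : Fin 4 → F} (hp : Isot 2 p) (hq : Isot 2 q)
    (hpq : Cfsg.hermForm 4 F 2 p q = 0) (hs : Isot 2 (p + q)) : R.uel p * R.uel q = R.uel (p + q) * d := by
  refine (R.shift_eq (R.shift_uel hs) (R.shift_mul (R.shift_uel hp) (R.shift_uel hq))).resolve_left fun h => ?_
  refine (R.move_uel hs).2 ?_
  rw [← h]
  have hu := inv_eq_of_mul_eq_one_left (R.uel_props hp).2.2
  have := ((R.uel_commute hp hq).2 hpq).map (MulAut.conj (R.uel p)).toMonoidHom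
  simp only [MulEquiv.coe_toMonoidHom, MulAut.conj_apply] at this
  have e1 : R.uel p * (R.uel p * R.y * (R.uel p)⁻¹) * (R.uel p)⁻¹ = R.y := by
    rw [hu, show R.uel p * (R.uel p * R.y * R.uel p) * R.uel p =
      (R.uel p * R.uel p) * R.y * (R.uel p * R.uel p) by group, (R.uel_props hp).2.2, one_mul, mul_one]
  rw [e1] at this
  rw [mul_inv_rev]
  convert this.symm using 1
  group

theorem Frame.vel_add {p q : Fin 4 → F} (hp : Cfsg.hermForm 4 F 2 p p = 0) (hq : Cfsg.hermForm 4 F 2 q q = 0)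
    (hpq : Cfsg.hermForm 4 F 2 p q = 0) : R.vel (p + q) = R.vel p * R.vel q := by
  by_cases hp0 : p = 0
  · subst hp0; simp [Frame.vel]
  by_cases hq0 : q = 0
  · subst hq0; simp [Frame.vel]
  have ip : Isot 2 p := ⟨hp0, hp⟩
  have iq : Isot 2 q := ⟨hq0, hq⟩
  have hdc : ∀ {u : Fin 4 → F}, Isot 2 u → Commute (R.uel u) d := fun hu => (R.uel_props hu).1
  rw [Frame.vel, Frame.vel, Frame.vel, if_neg hp0, if_neg hq0,
    show R.uel p * d * (R.uel q * d) = R.uel p * (d * R.uel q) * d by group, (hdc iq).symm.eq,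
    show R.uel p * (R.uel q * d) * d = R.uel p * R.uel q * (d * d) by group, c.sq, mul_one]
  by_cases hs : p + q = 0
  · have : q = p := by
      have := eq_neg_of_add_eq_zero_right hs
      rwa [neg_eq_of_add_eq_zero_left (SURadical.vadd_self c.hF p)] at this
    rw [if_pos hs, this, (R.uel_props ip).2.2]
  · rw [if_neg hs]
    exact (R.uel_add ip iq hpq ⟨hs, by
      rw [add_left c.hF, add_right c.hF, add_right c.hF, hp, hq, hpq, (comm_zero c.hF).1 hpq, add_zero,
        add_zero]⟩).symm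

/-- The commutator of two translations. -/
theorem Frame.uel_conj_uel {p q : Fin 4 → F} (hp : Isot 2 p) (hq : Isot 2 q)
    (h0 : Cfsg.hermForm 4 F 2 q p ≠ 0) :
    R.uel p * R.uel q * (R.uel p)⁻¹ =
      if Cfsg.hermForm 4 F 2 q p = 1 then R.uel q else R.uel q * d := by
  set h := Cfsg.hermForm 4 F 2 q p with hh
  have hΦ : R.Φ q = R.lab 1 q := by rw [Frame.lab, if_neg one_ne_zero, inv_one, one_smul]
  have e : R.uel p * R.uel q * (R.uel p)⁻¹ = R.lab (1 + h) q * R.lab h q := by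
    rw [show R.uel q = R.Φ q * c.s0 R.far (tv q) from rfl, hΦ, ← R.lab_zero q,
      show R.uel p * (R.lab 1 q * R.lab 0 q) * (R.uel p)⁻¹ =
        R.uel p * R.lab 1 q * (R.uel p)⁻¹ * (R.uel p * R.lab 0 q * (R.uel p)⁻¹) by group,
      R.uel_conj hp hq, R.uel_conj hp hq, ← hh, zero_add]
  have hTq := isT_tv c.hF hq
  have s2 := c.s0_mem R.far hTq
  have hu : ∀ {a : F}, a ≠ 0 → R.lab a q = R.uel (a⁻¹ • q) * c.s0 R.far (tv q) := fun {a} ha => by
    rw [Frame.uel, c.tv_smul (inv_ne_zero ha) hq, mul_assoc, c.sq_fib s2, mul_one, Frame.lab, if_neg ha]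
  rw [e]
  by_cases h1 : h = 1
  · rw [if_pos h1, h1, SURadical.add_self c.hF, R.lab_zero, ← hΦ, Frame.uel]
    exact (c.comm_of s2 (R.Φ_mem hq).1 (Commute.refl _)).eq
  · rw [if_neg h1]
    have ha : (1 : F) + h ≠ 0 := fun e0 => h1 (by linear_combination e0 - SURadical.add_self c.hF (1 : F))
    have hsum : h ^ 2 + h + 1 = 0 := by
      have : (h - 1) * (h ^ 2 + h + 1) = 0 := by linear_combination SURadical.cube_eq_one c.hF h0
      exact (mul_eq_zero.1 this).resolve_left (sub_ne_zero.2 h1)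
    have i1 : Isot 2 ((1 + h)⁻¹ • q) := c.isot_smul (inv_ne_zero ha) hq
    have i2 : Isot 2 (h⁻¹ • q) := c.isot_smul (inv_ne_zero h0) hq
    have hcs : Commute (c.s0 R.far (tv q)) (R.uel (h⁻¹ • q)) := by
      rw [Frame.uel]
      refine (c.comm_of s2 (R.Φ_mem i2).1 ?_).mul_right (c.comm_of s2 (c.s0_mem R.far (isT_tv c.hF i2)) ?_)
      all_goals rw [c.tv_smul (inv_ne_zero h0) hq]
    rw [hu ha, hu h0, show R.uel ((1 + h)⁻¹ • q) * c.s0 R.far (tv q) * (R.uel (h⁻¹ • q) * c.s0 R.far (tv q)) =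
      R.uel ((1 + h)⁻¹ • q) * (c.s0 R.far (tv q) * R.uel (h⁻¹ • q)) * c.s0 R.far (tv q) by group, hcs.eq,
      mul_assoc, mul_assoc, c.sq_fib s2, mul_one]
    have hk : (1 + h)⁻¹ + h⁻¹ = 1 := by
      field_simp
      linear_combination -hsum + SURadical.add_self c.hF (1 + h)
    have hsum' : (1 + h)⁻¹ • q + h⁻¹ • q = q := by rw [← add_smul, hk, one_smul]
    rw [R.uel_add i1 i2 (by rw [smul_left c.hF, SURadical.smul_right c.hF, hq.2, mul_zero, mul_zero])
      (by rw [hsum']; exact hq), hsum']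

/-- The base commutes with a translate only for isotropic vectors. -/
theorem Frame.isot_of_commute {g : X} {q : Fin 4 → F} (hg : R.IsShift g q)
    (hc : Commute R.y (g * R.y * g⁻¹)) : Cfsg.hermForm 4 F 2 q q = 0 := by
  by_cases hy : g * R.y * g⁻¹ = R.y
  · suffices q = 0 by rw [this, zero_left c.hF]
    refine R.eq_of_perp fun r hr => ?_
    have hm := R.lab_mem hr (Cfsg.hermForm 4 F 2 r q)
    have hcm : Commute (R.lab (Cfsg.hermForm 4 F 2 r q) r) R.y := by
      have e := hg.2.2.2 r hr 0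
      rw [zero_add, R.lab_zero] at e
      have := (c.s0_comm R.far (isT_tv c.hF hr)).map (MulAut.conj g).toMonoidHom
      simp only [MulEquiv.coe_toMonoidHom, MulAut.conj_apply] at this
      rwa [hy, e] at this
    have := (c.s0_eq R.far hm hcm).symm
    rw [← R.lab_zero] at this
    rw [zero_right c.hF]
    exact R.lab_inj hr this
  set z := g * R.y * g⁻¹
  have hzl := c.mem_here R.far.1 (c.conj_mem R.far.1) hy hc
  obtain ⟨t, ht, e⟩ := c.sec_surj R.far ((c.here R.far.1).img_pt hzl)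
  have hs : c.s0 R.far t = c.sec R.far ht := by rw [Central.s0, dif_pos ht]
  obtain ⟨r₀, hr₀⟩ := id ht
  have hyl : ∀ {t'} (ht' : IsT t'), c.s0 R.far t' ∈ link (conjugatesOf R.y) R.y := fun {t'} ht' =>
    c.mem_here R.far.1 (c.s0_mem R.far ht').1.1 (fun h => R.far.2.1 (h ▸ (c.s0_mem R.far ht').1.2.2))
      (c.s0_comm R.far ht').symm
  have hperp : ∀ r, Isot 2 r → Cfsg.hermForm 4 F 2 r r₀ = 0 → Cfsg.hermForm 4 F 2 r q = 0 := by
    intro r hr hrr
    have hr' := isT_tv c.hF hr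
    have h1 : Commute (c.s0 R.far (tv r)) (c.s0 R.far t) :=
      c.comm_of (c.s0_mem R.far hr') (c.s0_mem R.far ht) (((tv_spec c.hF hr).commute_iff c.hF hr₀).2 hrr)
    have h2 : Commute (c.s0 R.far (tv r)) z := by
      rw [(c.here R.far.1).commute_iff (hyl hr') hzl, ← e, ← hs]
      exact ((c.here R.far.1).commute_iff (hyl hr') (hyl ht)).1 h1
    have e' := hg.2.2.2 r hr 0
    rw [zero_add, R.lab_zero] at e'
    have hz' : Commute (R.lab (Cfsg.hermForm 4 F 2 r q) r) z := by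
      rw [← e']
      simpa [MulAut.conj_apply, z] using (c.s0_comm R.far hr').map (MulAut.conj g).toMonoidHom
    have hzfar : Far d z := c.far_of (c.conj_mem R.far.1) fun hh => R.far.2.1 (by
      have := (hg.2.1.inv_left.symm.mul_right hh).mul_right hg.2.1.symm
      rwa [show g⁻¹ * (g * R.y * g⁻¹) * g = R.y by group] at this)
    have := (c.meet hzfar hr').unique ⟨R.lab_mem hr _, hz'⟩ ⟨c.s0_mem R.far hr', h2⟩
    rw [← R.lab_zero] at this
    exact R.lab_inj hr this
  obtain ⟨e₂, f, f₂, Q⟩ := exists_quad c.hF hr₀.1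
  have hexp := Q.expand c.hF q
  rw [(comm_zero c.hF).1 (hperp e₂ Q.i₂ Q.ee), (comm_zero c.hF).1 (hperp f₂ Q.j₂ Q.fe),
    (comm_zero c.hF).1 (hperp r₀ hr₀.1 hr₀.1.2), zero_smul, zero_smul, zero_smul, add_zero, add_zero,
    add_zero] at hexp
  rw [hexp, smul_left c.hF, SURadical.smul_right c.hF, hr₀.1.2, mul_zero, mul_zero]

end Central

end CfsgLib.U6Central
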