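import Cfsg.Agent.Lib.U6Central.Pairing

/-!
# Any two groups with the local data over the same field are isomorphic

The correspondence of conjugates preserves commuting, hence conjugation; both groups are centreless and generated
by these conjugates.
-/

set_option autoImplicit false
set_option linter.unusedSectionVars false

open scoped Classical

namespace CfsgLib.U6Central

open Cfsg CfsgLib.SURadical
open CfsgLib.PSUAut (Isot act)
open CfsgLib.ThreeTransp (link)

variable {F : Type} [Field F] [Fintype F]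

namespace Central

section
variable {X : Type*} [Group X] [Finite X] {d : X} (c : Central d F)
include c

theorem ext_nbhd_base {z : X} (hz : z ∈ conjugatesOf d)
    (h : ∀ u ∈ conjugatesOf d, Commute d u ↔ Commute z u) : z = d := by
  by_contra hne
  have hdz : Commute d z := (h z hz).2 (Commute.refl z)
  have hzl : z ∈ link (conjugatesOf d) d := ⟨hz, hne, hdz⟩
  obtain ⟨w, hw⟩ := c.img_pt hzl
  obtain ⟨s, v, hs, hns⟩ := exists_noncomm c.hF hw
  obtain ⟨x, hx, rfl⟩ := c.exists_lift ⟨v, hs⟩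
  exact hns ((c.commute_iff hzl hx).1 ((h x hx.1).1 hx.2.2))

theorem ext_nbhd {x z : X} (hx : x ∈ conjugatesOf d) (hz : z ∈ conjugatesOf d)
    (h : ∀ u ∈ conjugatesOf d, Commute x u ↔ Commute z u) : z = x :=
  (c.here hx).ext_nbhd_base (by rw [c.cl hx]; exact hz) (by rw [c.cl hx]; exact h)

/-- The reflected member is the only other one with the same common neighbours. -/
theorem flip_eq_base {y z : X} (hy : y ∈ conjugatesOf d) (hdy : ¬ Commute d y) (hz : z ∈ conjugatesOf d)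
    (hzy : z ≠ y) (hdz : ¬ Commute d z)
    (h : ∀ w ∈ conjugatesOf d, Commute d w → Commute w y → Commute w z) : z = d * y * d := by
  obtain ⟨R₀⟩ := c.exists_frame
  have hyF := c.far_of hy hdy
  obtain ⟨a, ha⟩ : (c.oth hyF (tv R₀.w₀)).Nonempty :=
    Set.nonempty_of_ncard_ne_zero (by rw [c.oth_card hyF (isT_tv c.hF R₀.iso)]; norm_num)
  let R : Frame c := ⟨y, hyF, R₀.w₀, R₀.iso, a, ha⟩
  refine (R.two_per_section (c.far_of hz hdz) fun t ht => ?_).resolve_left hzy
  exact h _ (c.s0_mem hyF ht).1.1 (c.s0_mem hyF ht).1.2.2 (c.s0_comm hyF ht)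

theorem flip_eq {x y z : X} (hx : x ∈ conjugatesOf d) (hy : y ∈ conjugatesOf d) (hxy : ¬ Commute x y)
    (hz : z ∈ conjugatesOf d) (hzy : z ≠ y) (hxz : ¬ Commute x z)
    (h : ∀ w ∈ conjugatesOf d, Commute x w → Commute w y → Commute w z) : z = x * y * x :=
  (c.here hx).flip_eq_base (by rw [c.cl hx]; exact hy) hxy (by rw [c.cl hx]; exact hz) hzy hxz
    (by rw [c.cl hx]; exact h)

end

variable {X X' : Type*} [Group X] [Group X'] [Finite X] [Finite X'] {d : X} {d' : X'}
  (c : Central d F) (c' : Central d' F)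
include c c'

/-- A bijection of the conjugates commuting with conjugation. -/
theorem exists_equiv : ∃ e : {x // x ∈ conjugatesOf d} ≃ {x // x ∈ conjugatesOf d'},
    ∀ x y z, (z.1 = x.1 * y.1 * x.1⁻¹ → (e z).1 = (e x).1 * (e y).1 * (e x).1⁻¹) := by
  obtain ⟨R⟩ := c.exists_frame
  obtain ⟨R'⟩ := c'.exists_frame
  have hmem : ∀ {x x'}, Frame.Rel R R' x x' → x ∈ conjugatesOf d ∧ x' ∈ conjugatesOf d' := by
    rintro x x' (⟨rfl, rfl⟩ | ⟨r, α, hr, rfl, rfl⟩ | ⟨γ, -, rfl, rfl⟩)
    · exact ⟨IsConj.refl _, IsConj.refl _⟩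
    · exact ⟨(R.lab_mem hr α).1.1, (R'.lab_mem hr α).1.1⟩
    · exact ⟨c.conj_mem R.far.1, c'.conj_mem R'.far.1⟩
  have hl : ∀ x : {x // x ∈ conjugatesOf d}, ∃ x' : {x // x ∈ conjugatesOf d'}, Frame.Rel R R' x.1 x'.1 :=
    fun x => by
      obtain ⟨x', h⟩ := Frame.rel_left R R' x.2
      exact ⟨⟨x', (hmem h).2⟩, h⟩
  choose f hf using hl
  have hcomm : ∀ x y, Commute x.1 y.1 ↔ Commute (f x).1 (f y).1 := fun x y =>
    Frame.rel_commute R R' (hf x) (hf y)
  have hinj : Function.Injective f := by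
    intro x y e
    refine Subtype.ext (c.ext_nbhd y.2 x.2 fun u hu => ?_)
    rw [hcomm y ⟨u, hu⟩, hcomm x ⟨u, hu⟩, e]
  have hsurj : Function.Surjective f := by
    rintro ⟨x', hx'⟩
    obtain ⟨x, h⟩ := Frame.rel_right R R' hx'
    refine ⟨⟨x, (hmem h).1⟩, Subtype.ext (c'.ext_nbhd hx' (f _).2 fun u hu => ?_)⟩
    obtain ⟨v, hv⟩ := Frame.rel_right R R' hu
    rw [← Frame.rel_commute R R' h hv, ← Frame.rel_commute R R' (hf ⟨x, (hmem h).1⟩) hv]
  refine ⟨Equiv.ofBijective f ⟨hinj, hsurj⟩, fun x y z hz => ?_⟩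
  show (f z).1 = (f x).1 * (f y).1 * (f x).1⁻¹
  rw [c.inv_of x.2] at hz
  rw [c'.inv_of (f x).2]
  by_cases hxy : Commute x.1 y.1
  · have hzy : z = y := Subtype.ext (by rw [hz, hxy.eq, mul_assoc, c.sq_of x.2, mul_one])
    rw [hzy, ((hcomm x y).1 hxy).eq, mul_assoc, c'.sq_of (f x).2, mul_one]
  have hTT := c.isTT
  have hzy : z ≠ y := fun e => by
    rw [e] at hz
    refine hxy ?_
    have := congrArg (fun w => w * x.1) hz
    simp only [mul_assoc, c.sq_of x.2, mul_one] at this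
    exact this.symm
  refine c'.flip_eq (f x).2 (f y).2 (fun h => hxy ((hcomm x y).2 h)) (f z).2 (fun e => hzy (hinj (Subtype.ext e)))
    (fun h => ?_) fun w hw hxw hwy => ?_
  · have hc := (hcomm x z).2 h
    rw [hz] at hc
    exact hTT.not_commute_cj_left x.2 hxy hc
  · obtain ⟨⟨v, hv⟩, hve⟩ := hsurj ⟨w, hw⟩
    have e : (f ⟨v, hv⟩).1 = w := congrArg Subtype.val hve
    rw [← e] at hxw hwy ⊢
    rw [← hcomm] at hxw hwy
    rw [← hcomm, hz]
    exact (hTT.commute_cj_iff x.2 hxw.symm).2 hwy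

end Central

/-- Uniqueness. -/
theorem Central.exists_iso {X X' : Type*} [Group X] [Group X'] [Finite X] [Finite X'] {d : X} {d' : X'}
    (c : Central d F) (c' : Central d' F) : Nonempty (X ≃* X') := by
  obtain ⟨e, he⟩ := c.exists_equiv c'
  let ρ : X →* Equiv.Perm {x // x ∈ conjugatesOf d} :=
    { toFun := fun g =>
        { toFun := fun x => ⟨g * x.1 * g⁻¹, c.conj_mem x.2⟩
          invFun := fun x => ⟨g⁻¹ * x.1 * g, by simpa using c.conj_mem (g := g⁻¹) x.2⟩
          left_inv := fun x => Subtype.ext (by simp [mul_assoc])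
          right_inv := fun x => Subtype.ext (by simp [mul_assoc]) }
      map_one' := Equiv.ext fun x => Subtype.ext (by simp)
      map_mul' := fun a b => Equiv.ext fun x => Subtype.ext (by simp [mul_assoc]) }
  let ρ' : X' →* Equiv.Perm {x // x ∈ conjugatesOf d} :=
    { toFun := fun g =>
        { toFun := fun x => e.symm ⟨g * (e x).1 * g⁻¹, c'.conj_mem (e x).2⟩
          invFun := fun x => e.symm ⟨g⁻¹ * (e x).1 * g, by simpa using c'.conj_mem (g := g⁻¹) (e x).2⟩
          left_inv := fun x => by simp [mul_assoc]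
          right_inv := fun x => by simp [mul_assoc] }
      map_one' := Equiv.ext fun x => by simp
      map_mul' := fun a b => Equiv.ext fun x => by simp [mul_assoc] }
  have inj : ∀ {Y : Type _} [Group Y] [Finite Y] {b : Y} (k : Central b F) (g : Y),
      (∀ x ∈ conjugatesOf b, g * x * g⁻¹ = x) → g = 1 := by
    intro Y _ _ b k g hg
    have hc : ∀ x ∈ conjugatesOf b, Commute g x := fun x hx => mul_inv_eq_iff_eq_mul.1 (hg x hx)
    rcases k.faithful g (hc b (IsConj.refl b)) (fun x hx => hc x hx.1) with h | h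
    · exact h
    · exfalso
      obtain ⟨y, hy⟩ := k.exists_far
      exact hy.2.1 (h ▸ hc y hy.1)
  have hρ : Function.Injective ρ := by
    refine (injective_iff_map_eq_one ρ).2 fun g hg => inj c g fun x hx => ?_
    exact congrArg Subtype.val (Equiv.ext_iff.1 hg ⟨x, hx⟩)
  have hρ' : Function.Injective ρ' := by
    refine (injective_iff_map_eq_one ρ').2 fun g hg => ?_
    obtain ⟨y, hy⟩ := c'.exists_far
    have hc : ∀ x ∈ conjugatesOf d', Commute g x := fun x hx => by
      have h1 := Equiv.ext_iff.1 hg (e.symm ⟨x, hx⟩)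
      have h2 := congrArg (fun u => (e u).1) h1
      simp [ρ'] at h2
      exact mul_inv_eq_iff_eq_mul.1 h2
    rcases c'.faithful g (hc d' (IsConj.refl d')) (fun x hx => hc x hx.1) with h | h
    · exact h
    · exact absurd (h ▸ hc y hy.1) hy.2.1
  have key : ∀ (a : X) (ha : a ∈ conjugatesOf d), ρ' (e ⟨a, ha⟩).1 = ρ a := fun a ha => Equiv.ext fun x => by
    show e.symm ⟨(e ⟨a, ha⟩).1 * (e x).1 * (e ⟨a, ha⟩).1⁻¹, _⟩ = ⟨a * x.1 * a⁻¹, c.conj_mem x.2⟩
    rw [Equiv.symm_apply_eq]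
    exact Subtype.ext (he ⟨a, ha⟩ x ⟨a * x.1 * a⁻¹, c.conj_mem x.2⟩ rfl).symm
  obtain ⟨R⟩ := c.exists_frame
  obtain ⟨R'⟩ := c'.exists_frame
  have hr : ρ.range = ρ'.range := by
    rw [MonoidHom.range_eq_map, MonoidHom.range_eq_map, ← R.gen_top, ← R'.gen_top, gen, gen,
      MonoidHom.map_closure, MonoidHom.map_closure]
    refine congrArg Subgroup.closure (Set.ext fun p => ⟨?_, ?_⟩)
    · rintro ⟨a, ha, rfl⟩
      exact ⟨_, (e ⟨a, ha⟩).2, key a ha⟩
    · rintro ⟨b, hb, rfl⟩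
      refine ⟨(e.symm ⟨b, hb⟩).1, (e.symm ⟨b, hb⟩).2, ?_⟩
      rw [← key _ (e.symm ⟨b, hb⟩).2]
      simp
  exact ⟨(MonoidHom.ofInjective hρ).trans ((MulEquiv.subgroupCongr hr).trans (MonoidHom.ofInjective hρ').symm)⟩

end CfsgLib.U6Central
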