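import Cfsg.Agent.Lib.U6Central.Comp

/-!
# All conjugates are in the component of `d` and form 3-transpositions
-/

set_option autoImplicit false
set_option linter.unusedSectionVars false
set_option linter.style.haveILetI false

open scoped Classical

namespace CfsgLib.U6Central

open Cfsg CfsgLib.SURadical
open CfsgLib.PSUAut (Isot act)
open CfsgLib.ThreeTransp (link)

variable {X : Type*} [Group X] {d : X} {F : Type} [Field F] [Fintype F]

theorem linked_mem {d x : X} (h : Linked d x) : x ∈ conjugatesOf d := by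
  induction h with
  | refl => exact IsConj.refl d
  | tail _ h _ => exact h.1

theorem linked_cl {a : X} (ha : a ∈ conjugatesOf d) {x : X} (h : Linked a x) :
    Relation.ReflTransGen (fun p q => q ∈ conjugatesOf d ∧ Commute p q) a x := by
  unfold Linked at h
  rwa [(IsConj.conjugatesOf_eq ha).symm] at h

theorem linked_trans {x y : X} (h₁ : Linked d x) (h₂ : Linked x y) : Linked d y :=
  Relation.ReflTransGen.trans h₁ (linked_cl (linked_mem h₁) h₂)

theorem linked_step {a b x : X} (ha : a ∈ conjugatesOf d) (hb : b ∈ conjugatesOf d) (hab : Commute b a)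
    (h : Linked a x) : Linked b x := by
  unfold Linked at h ⊢
  rw [(IsConj.conjugatesOf_eq ha).symm] at h
  rw [(IsConj.conjugatesOf_eq hb).symm]
  exact .head ⟨ha, hab⟩ h

theorem linked_symm {x : X} (h : Linked d x) : Linked x d := by
  induction h with
  | refl => exact .refl
  | @tail a b hda hab ih => exact linked_step (linked_mem hda) hab.1 hab.2.symm ih

theorem linked_conj {a x : X} (h : Linked a x) (g : X) : Linked (g * a * g⁻¹) (g * x * g⁻¹) := by
  induction h with
  | refl => exact .refl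
  | @tail p q _ hpq ih =>
    refine .tail ih ⟨?_, by simpa [MulAut.conj_apply] using hpq.2.map (MulAut.conj g).toMonoidHom⟩
    exact ((isConj_iff.2 ⟨g, rfl⟩ : IsConj a (g * a * g⁻¹)).symm.trans hpq.1).trans (isConj_iff.2 ⟨g, rfl⟩)

/-- Moving `d` inside its component keeps the component. -/
theorem linked_invariant {v x : X} (hv : Linked d (v * d * v⁻¹)) (hx : Linked d x) : Linked d (v * x * v⁻¹) :=
  linked_trans hv (linked_conj hx v)

section Dihedral

variable {G : Type*} [Group G]

theorem semiconj_pow {x y : G} (hx : x * x = 1) (hy : y * y = 1) (n : ℕ) :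
    x * (x * y) ^ n = ((x * y) ^ n)⁻¹ * x := by
  have h : SemiconjBy x (x * y) (x * y)⁻¹ := by
    show x * (x * y) = (x * y)⁻¹ * x
    rw [← mul_assoc, hx, one_mul, mul_inv_rev, inv_eq_of_mul_eq_one_right hx, inv_eq_of_mul_eq_one_right hy,
      mul_assoc, hx, mul_one]
  have := h.pow_right n
  rwa [inv_pow] at this

/-- Two involutions with product of odd order are conjugate under a power of the product. -/
theorem conj_of_odd {x y : G} (hx : x * x = 1) (hy : y * y = 1) {m : ℕ} (h : (x * y) ^ (2 * m + 1) = 1) :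
    (x * y) ^ m * x * ((x * y) ^ m)⁻¹ = y := by
  have e : x * ((x * y) ^ m)⁻¹ = (x * y) ^ m * x := by
    symm
    calc (x * y) ^ m * x = (x * y) ^ m * (x * (x * y) ^ m) * ((x * y) ^ m)⁻¹ := by group
      _ = x * ((x * y) ^ m)⁻¹ := by rw [semiconj_pow hx hy m, mul_inv_cancel_left]
  have h1 : (x * y) ^ m * x * ((x * y) ^ m)⁻¹ = (x * y) ^ (2 * m) * x := by
    rw [mul_assoc, e, two_mul, pow_add, mul_assoc]
  rw [h1]
  have h2 : (x * y) ^ (2 * m) = (x * y)⁻¹ := eq_inv_of_mul_eq_one_left (by rw [← pow_succ]; exact h)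
  rw [h2, mul_inv_rev, inv_eq_of_mul_eq_one_right hx, inv_eq_of_mul_eq_one_right hy, mul_assoc, hx, mul_one]

/-- The middle power of a product of two involutions. -/
theorem mid_props {x y : G} (hx : x * x = 1) (hy : y * y = 1) {k : ℕ} (hk : 0 < k)
    (h : orderOf (x * y) = k + k) : orderOf ((x * y) ^ k) = 2 ∧ Commute x ((x * y) ^ k) ∧
      Commute y ((x * y) ^ k) := by
  have h2 : (x * y) ^ k * (x * y) ^ k = 1 := by rw [← pow_add, ← h, pow_orderOf_eq_one]
  have hne : (x * y) ^ k ≠ 1 := fun e => by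
    have := Nat.le_of_dvd hk (orderOf_dvd_of_pow_eq_one e)
    omega
  have hcx : Commute x ((x * y) ^ k) := by
    show x * _ = _
    rw [semiconj_pow hx hy k, inv_eq_of_mul_eq_one_right h2]
  refine ⟨orderOf_eq_prime (by rw [pow_two, h2]) hne, hcx, ?_⟩
  have : Commute (x * (x * y)) ((x * y) ^ k) := hcx.mul_left ((Commute.refl (x * y)).pow_right k)
  rwa [← mul_assoc, hx, one_mul] at this

end Dihedral

namespace Base

variable [Finite X] (c : Base d F)
include c

theorem braid_far {y : X} (hy : Far d y) : d * y * d = y * d * y := by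
  obtain ⟨hy, hdy, e, he, hey⟩ := hy
  exact (c.here he.1).braid (c.mem_here he.1 (IsConj.refl d) he.2.1.symm (link_comm he))
    (c.mem_here he.1 hy (fun h => hdy (h ▸ he.2.2)) hey) hdy

theorem link_even : 2 ∣ Nat.card {x // x ∈ link (conjugatesOf d) d} := by
  have e : Nat.card {x // x ∈ link (conjugatesOf d) d} =
      Nat.card {t : Cfsg.SU 4 F 2 // IsT t} * 4 := by
    rw [← Nat.card_congr (Equiv.sigmaFiberEquiv (fun x : {x // x ∈ link (conjugatesOf d) d} =>
      (⟨c.img x.1, c.img_pt x.2⟩ : {t : Cfsg.SU 4 F 2 // IsT t}))), Nat.card_sigma,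
      Finset.sum_congr rfl (g := fun _ => 4) ?_, Finset.sum_const, smul_eq_mul, Finset.card_univ,
      Nat.card_eq_fintype_card]
    rintro ⟨t, ht⟩ -
    refine Eq.trans ?_ (c.fib_ncard ht)
    rw [← Nat.card_coe_set_eq]
    exact Nat.card_congr
      { toFun := fun x => ⟨x.1.1, x.1.2, congrArg Subtype.val x.2⟩
        invFun := fun x => ⟨⟨x.1, x.2.1⟩, Subtype.ext x.2.2⟩
        left_inv := fun _ => rfl
        right_inv := fun _ => rfl }
  rw [e]
  exact Dvd.dvd.mul_left (by norm_num) _

/-- Conjugation as a permutation of a component. -/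
theorem comp_card_mod {v : X} (hv : v * v = 1) (hvd : Linked d (v * d * v⁻¹)) :
    Nat.card {x // Linked d x} % 2 = Nat.card {x : {x // Linked d x} // Commute v x.1} % 2 := by
  have hvi : v⁻¹ = v := inv_eq_of_mul_eq_one_left hv
  let σ : Equiv.Perm {x // Linked d x} :=
    { toFun := fun x => ⟨v * x.1 * v⁻¹, linked_invariant hvd x.2⟩
      invFun := fun x => ⟨v * x.1 * v⁻¹, linked_invariant hvd x.2⟩
      left_inv := fun x => Subtype.ext (by
        show v * (v * x.1 * v⁻¹) * v⁻¹ = x.1
        rw [hvi, show v * (v * x.1 * v) * v = (v * v) * x.1 * (v * v) by group, hv, one_mul, mul_one])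
      right_inv := fun x => Subtype.ext (by
        show v * (v * x.1 * v⁻¹) * v⁻¹ = x.1
        rw [hvi, show v * (v * x.1 * v) * v = (v * v) * x.1 * (v * v) by group, hv, one_mul, mul_one]) }
  rw [card_mod_two σ (Equiv.ext fun x => σ.left_inv x)]
  refine congrArg (· % 2) (Nat.card_congr (Equiv.subtypeEquivRight fun x => ?_))
  show (⟨v * x.1 * v⁻¹, _⟩ : {x // Linked d x}) = x ↔ Commute v x.1
  rw [Subtype.ext_iff]
  exact mul_inv_eq_iff_eq_mul

theorem comp_odd : Nat.card {x // Linked d x} % 2 = 1 := by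
  rw [c.comp_card_mod c.sq (by rw [mul_inv_cancel_right]; exact .refl)]
  have e : Nat.card {x : {x // Linked d x} // Commute d x.1} =
      Nat.card (Option {x // x ∈ link (conjugatesOf d) d}) := by
    refine Nat.card_congr ?_
    exact
      { toFun := fun x => if h : x.1.1 = d then none else some ⟨x.1.1, linked_mem x.1.2, h, x.2⟩
        invFun := fun o => o.elim (⟨⟨d, (Relation.ReflTransGen.refl : Linked d d)⟩, Commute.refl d⟩)
          fun x => ⟨⟨x.1, (Relation.ReflTransGen.single ⟨x.2.1, x.2.2.2⟩ : Linked d x.1)⟩, x.2.2.2⟩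
        left_inv := fun x => by
          by_cases h : x.1.1 = d
          · simp only [h, dite_true, Option.elim]
            exact Subtype.ext (Subtype.ext h.symm)
          · simp only [h, dite_false, Option.elim]
        right_inv := fun o => by
          cases o with
          | none => simp
          | some x => simp [x.2.2.1] }
  rw [e, Finite.card_option]
  have := c.link_even
  omega

theorem exists_fixed {v : X} (hv : v * v = 1) (hvd : Linked d (v * d * v⁻¹)) : ∃ x, Linked d x ∧ Commute v x := by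
  have h := c.comp_card_mod hv hvd
  rw [c.comp_odd] at h
  have hpos : Nat.card {x : {x // Linked d x} // Commute v x.1} ≠ 0 := by omega
  obtain ⟨⟨⟨x, hx⟩, hc⟩⟩ := (Nat.card_ne_zero.1 hpos).1
  exact ⟨x, hx, hc⟩

theorem exists_link_pt : ∃ t : Cfsg.SU 4 F 2, IsT t := by
  obtain ⟨u, hu, -⟩ := exists_iso c.hF (k := 0) (ortho_nil c.hF) (by norm_num : 0 + 2 ≤ 4)
  obtain ⟨t, ht⟩ := exists_pt c.hF hu
  exact ⟨t, u, ht⟩

end Base

namespace Central

variable [Finite X] (c : Central d F)
include c

/-- There is only one component. -/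
theorem all_linked {y : X} (hy : y ∈ conjugatesOf d) : Linked d y := by
  obtain ⟨t, ht⟩ := c.exists_link_pt
  obtain ⟨e, he, -⟩ := c.exists_lift ht
  set v := d * e with hvdef
  have hde : Commute d e := he.2.2
  have hvd : Commute v d := (Commute.refl d).mul_left hde.symm
  have hv2 : v * v = 1 := by
    rw [hvdef, show d * e * (d * e) = d * (e * d) * e by group, ← hde.eq,
      show d * (d * e) * e = (d * d) * (e * e) by group, c.sq, c.sq_of he.1, one_mul]
  have hv1 : v ≠ 1 := fun h => he.2.1 (by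
    rw [← one_mul e, ← c.sq, mul_assoc, ← hvdef, h, mul_one])
  have hvD : v ∉ conjugatesOf d := by rw [hvdef, hde.eq]; exact c.mul_notMem e he
  have hy2 := c.sq_of hy
  obtain ⟨m, hm⟩ : ∃ m, orderOf (v * y) = m + m := by
    rcases Nat.even_or_odd (orderOf (v * y)) with h | ⟨i, hi⟩
    · exact h
    · exfalso
      refine hvD (hy.trans (IsConj.symm (isConj_iff.2 ⟨(v * y) ^ i, conj_of_odd hv2 hy2 ?_⟩)))
      rw [← hi]
      exact pow_orderOf_eq_one _
  have hk : 0 < m := by
    have := orderOf_pos (v * y)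
    omega
  obtain ⟨hw2, hwv, hwy⟩ := mid_props hv2 hy2 hk hm
  set w := (v * y) ^ m
  have hw1 : w ≠ 1 := fun h => by rw [h, orderOf_one] at hw2; norm_num at hw2
  have hww : w * w = 1 := by rw [← pow_two, ← hw2, pow_orderOf_eq_one]
  have hwd : Linked d (w * d * w⁻¹) := c.cent v hv2 hv1 hvd w hwv.symm
  obtain ⟨a, ha, hwa⟩ := c.exists_fixed hww hwd
  have hay : Linked a (y * a * y⁻¹) := (c.here (linked_mem ha)).cent w hww hw1 hwa y hwy
  have hyd : Linked d (y * d * y⁻¹) :=
    linked_trans (linked_trans ha hay) (linked_conj (linked_symm ha) y)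
  obtain ⟨b, hb, hyb⟩ := c.exists_fixed hy2 hyd
  exact linked_trans hb (.single ⟨by rw [c.cl (linked_mem hb)]; exact hy, hyb.symm⟩)

theorem cases {y : X} (hy : y ∈ conjugatesOf d) : y = d ∨ y ∈ link (conjugatesOf d) d ∨ Far d y :=
  c.linked_cases (c.all_linked hy)

theorem far_of {y : X} (hy : y ∈ conjugatesOf d) (h : ¬ Commute d y) : Far d y := by
  rcases c.cases hy with rfl | h' | h'
  · exact absurd (Commute.refl _) h
  · exact absurd h'.2.2 h
  · exact h'

/-- The conjugates are 3-transpositions. -/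
theorem isTT : ThreeTransp.IsTT (conjugatesOf d) := by
  refine ⟨fun a ha => c.sq_of ha, fun a ha => c.ne_of ha, fun a ha b hb => ?_, fun g a ha => c.conj_mem ha⟩
  by_cases h : Commute a b
  · exact Or.inl h
  · exact Or.inr ((c.here ha).braid_far ((c.here ha).far_of (by rw [c.cl ha]; exact hb) h))

theorem exists_far : ∃ y, Far d y := by
  obtain ⟨t, u, ht⟩ := c.exists_link_pt
  obtain ⟨s, v, hs, hts⟩ := exists_noncomm c.hF ht
  obtain ⟨x, hx, rfl⟩ := c.exists_lift ⟨u, ht⟩
  obtain ⟨z, hz, rfl⟩ := c.exists_lift ⟨v, hs⟩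
  have hxz : ¬ Commute x z := fun h => hts ((c.commute_iff hx hz).1 h)
  obtain ⟨g, hg⟩ := isConj_iff.1 hx.1
  refine ⟨g⁻¹ * z * g, c.far_of (by simpa using c.conj_mem (g := g⁻¹) hz.1) fun h => hxz ?_⟩
  have := h.map (MulAut.conj g).toMonoidHom
  simpa [MulAut.conj_apply, hg, mul_assoc] using this

end Central

end CfsgLib.U6Central
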